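import Cfsg.Agent.Lib.Linear.Pronormal.Sp.SL2Local

/-!
# Subgroups of a product of copies of `SL₂` containing a Sylow `2`-subgroup

An element normalising the Sylow subgroup can be adjusted inside the subgroup generated by `L` and its conjugate so
as to normalise `L`.
-/

set_option autoImplicit false
set_option linter.unusedSectionVars false
set_option linter.style.haveILetI false

namespace Cfsg.Lib.Linear.Pronormal.SpPlanes

open Matrix
open scoped MatrixGroups

/-- Every Sylow subgroup contains two anti-commuting square roots of `-1`. -/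
theorem exists_anti_mem {F : Type*} [Field F] [NeZero (2 : F)] [Finite F] (Q : Sylow 2 SL(2, F)) :
    ∃ i j : SL(2, F), Anti (i : M2 F) j ∧ i ∈ Q ∧ j ∈ Q := by
  haveI : Fact (Nat.Prime 2) := ⟨Nat.prime_two⟩
  obtain ⟨Q₀, i, j, h, hi, hj⟩ := exists_sylow_anti (F := F)
  obtain ⟨g, hg⟩ := MulAction.exists_smul_eq SL(2, F) Q₀ Q
  have key : ∀ u v : SL(2, F), ((g * u * g⁻¹ : SL(2, F)) : M2 F) * ((g * v * g⁻¹ : SL(2, F)) : M2 F) =
      (g : M2 F) * ((u : M2 F) * v) * ((g⁻¹ : SL(2, F)) : M2 F) := fun u v => by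
    rw [← Matrix.SpecialLinearGroup.coe_mul, ← Matrix.SpecialLinearGroup.coe_mul,
      ← Matrix.SpecialLinearGroup.coe_mul, ← Matrix.SpecialLinearGroup.coe_mul]
    simp only [mul_assoc, inv_mul_cancel_left]
  have hgg : (g : M2 F) * ((g⁻¹ : SL(2, F)) : M2 F) = 1 := by
    rw [← Matrix.SpecialLinearGroup.coe_mul, mul_inv_cancel, Matrix.SpecialLinearGroup.coe_one]
  have hmem : ∀ u ∈ Q₀, g * u * g⁻¹ ∈ Q := fun u hu => by
    rw [← hg]
    exact Subgroup.mem_map_of_mem (MulAut.conj g).toMonoidHom hu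
  refine ⟨g * i * g⁻¹, g * j * g⁻¹, ⟨?_, ?_, ?_⟩, hmem i hi, hmem j hj⟩
  · rw [key, h.hii, mul_neg, mul_one, neg_mul, hgg]
  · rw [key, h.hjj, mul_neg, mul_one, neg_mul, hgg]
  · rw [key, key, h.anti, mul_neg, neg_mul]

variable {κ : Type*} [Finite κ] [DecidableEq κ] (F : κ → Type*) [∀ c, Field (F c)] [∀ c, NeZero (2 : F c)]
  [∀ c, Finite (F c)]

/-- Adjusting an element of the normaliser of the Sylow subgroup so that it normalises `L`. -/
theorem exists_normalising (Q : ∀ c, Sylow 2 SL(2, F c)) (L : Subgroup (∀ c, SL(2, F c)))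
    (hQL : ∀ f : ∀ c, SL(2, F c), (∀ c, f c ∈ Q c) → f ∈ L) (a : ∀ c, SL(2, F c))
    (ha : ∀ c, a c ∈ Subgroup.normalizer ((Q c : Subgroup SL(2, F c)) : Set SL(2, F c))) :
    ∃ y ∈ L ⊔ L.map (MulAut.conj a).toMonoidHom,
      (∀ c, (y⁻¹ * a) c = 1 ∨ (y⁻¹ * a) c = a c) ∧ ∀ l ∈ L, (y⁻¹ * a) * l * (y⁻¹ * a)⁻¹ ∈ L := by
  classical
  set Y := L ⊔ L.map (MulAut.conj a).toMonoidHom with hY
  let Yc : ∀ c, Subgroup SL(2, F c) := fun c => Y.comap (MonoidHom.mulSingle (fun c => SL(2, F c)) c)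
  let y : ∀ c, SL(2, F c) := fun c => if a c ∈ Yc c then a c else 1
  have hy : ∀ c, (y⁻¹ * a) c = if a c ∈ Yc c then 1 else a c := fun c => by
    show (y c)⁻¹ * a c = _
    simp only [y]
    split_ifs <;> simp
  have hQs : ∀ c, ∀ q ∈ Q c, Pi.mulSingle c q ∈ L := fun c q hq => hQL _ fun d => by
    by_cases hd : d = c
    · subst hd; simpa using hq
    · simp [hd]
  have hconj : ∀ c (m : SL(2, F c)) (b : ∀ c, SL(2, F c)),
      b * Pi.mulSingle c m * b⁻¹ = Pi.mulSingle c (b c * m * (b c)⁻¹) := fun c m b => by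
    funext d
    by_cases hd : d = c
    · subst hd; simp
    · simp [hd]
  have hbad : ∀ c, a c ∉ Yc c → ∀ l ∈ L,
      l c ∈ Subgroup.normalizer ((Q c : Subgroup SL(2, F c)) : Set SL(2, F c)) := by
    intro c hc l hl
    obtain ⟨i, j, h, hi, hj⟩ := exists_anti_mem (Q c)
    have hQY : ∀ q ∈ Q c, q ∈ Yc c := fun q hq => le_sup_left (a := L) (hQs c q hq)
    set M := L.comap (MonoidHom.mulSingle (fun c => SL(2, F c)) c) with hM
    have hM' : M = (Q c : Subgroup SL(2, F c)) := by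
      refine eq_sylow_of_conj_le h hi hj (ha c) (fun e => hc (hQY _ e)) (X := Yc c) ?_ (fun q hq => hQs c q hq)
        (fun m hm => le_sup_left (a := L) hm) ?_
      · intro g hgY hgN
        by_contra hgQ
        obtain ⟨k, hk⟩ := nq_generate (ha c) hgN hgQ
        refine hc ?_
        have := (Yc c).mul_mem ((Yc c).inv_mem ((Yc c).pow_mem hgY k)) (hQY _ hk)
        rwa [inv_mul_cancel_left] at this
      · intro m hm
        show Pi.mulSingle c (a c * m * (a c)⁻¹) ∈ Y
        rw [← hconj c m a]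
        exact Subgroup.mem_sup_right ⟨_, hm, rfl⟩
    refine Subgroup.mem_normalizer_fintype fun q hq => ?_
    have h1 : l * Pi.mulSingle c q * l⁻¹ ∈ L := L.mul_mem (L.mul_mem hl (hQs c q hq)) (L.inv_mem hl)
    rw [hconj] at h1
    exact hM'.le h1
  refine ⟨y, Subgroup.pi_mem_of_mulSingle_mem y fun c => ?_, fun c => ?_, fun l hl => ?_⟩
  · simp only [y]
    split_ifs with hc
    · exact hc
    · rw [Pi.mulSingle_one]; exact one_mem _
  · rw [hy]; split_ifs
    · exact Or.inl rfl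
    · exact Or.inr rfl
  · have h1 : (y⁻¹ * a) * l * (y⁻¹ * a)⁻¹ * l⁻¹ ∈ L := hQL _ fun c => by
      show (y⁻¹ * a) c * l c * ((y⁻¹ * a) c)⁻¹ * (l c)⁻¹ ∈ Q c
      rw [hy]
      split_ifs with hc
      · simp [one_mem]
      · exact nq_comm (ha c) (hbad c hc l hl)
    have := L.mul_mem h1 hl
    rwa [inv_mul_cancel_right] at this

end Cfsg.Lib.Linear.Pronormal.SpPlanes
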