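import Cfsg.Agent.Lib.Linear.Pronormal.Sp.Quat
import Mathlib.Data.Matrix.Mul
import Mathlib.LinearAlgebra.Dimension.Finrank
import Mathlib.Algebra.Group.Subgroup.Finite
import Mathlib.RingTheory.FiniteType

/-!
# The symplectic group on an orthogonal sum of planes, as matrices of two by two blocks
-/

set_option autoImplicit false
set_option linter.unusedSectionVars false

namespace Cfsg.Lib.Linear.Pronormal.SpPlanes

open Matrix Finset

variable {ι : Type*} [Fintype ι] [DecidableEq ι] {F : Type*} [Field F]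

/-- Matrices of blocks. -/
abbrev BM (ι F : Type*) := Matrix ι ι (M2 F)

/-- The adjoint for the sum of the determinant forms. -/
def adjT (M : BM ι F) : BM ι F := Matrix.of fun c d => adjugate (M d c)

@[simp] theorem adjT_apply (M : BM ι F) (c d : ι) : adjT M c d = adjugate (M d c) := rfl

theorem adj_sum {α : Type*} (s : Finset α) (f : α → M2 F) : adjugate (∑ a ∈ s, f a) = ∑ a ∈ s, adjugate (f a) := by
  classical
  induction s using Finset.induction_on with
  | empty => simp
  | insert a s ha ih => rw [sum_insert ha, sum_insert ha, adj_add, ih]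

theorem adjT_mul (M N : BM ι F) : adjT (M * N) = adjT N * adjT M := by
  ext1 c d
  simp only [adjT_apply, Matrix.mul_apply, adj_sum, adjugate_mul_distrib]

theorem adjT_one : adjT (1 : BM ι F) = 1 := by
  ext1 c d
  rw [adjT_apply, Matrix.one_apply, Matrix.one_apply]
  by_cases h : d = c
  · rw [if_pos h, if_pos h.symm, adjugate_one]
  · rw [if_neg h, if_neg (Ne.symm h), adjugate_zero]

theorem adjT_adjT (M : BM ι F) : adjT (adjT M) = M := by
  ext1 c d; simp [adj_adj]

/-- The symplectic group. -/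
def Sp (ι F : Type*) [Fintype ι] [DecidableEq ι] [Field F] : Subgroup (BM ι F)ˣ where
  carrier := {u | adjT (u : BM ι F) * u = 1}
  one_mem' := by simp [adjT_one]
  mul_mem' {u v} hu hv := by
    show adjT ((u * v : (BM ι F)ˣ) : BM ι F) * ((u * v : (BM ι F)ˣ) : BM ι F) = 1
    rw [Units.val_mul, adjT_mul, mul_assoc, ← mul_assoc (adjT (u : BM ι F)), hu, one_mul, hv]
  inv_mem' {u} hu := by
    have h : adjT (u : BM ι F) = ((u⁻¹ : (BM ι F)ˣ) : BM ι F) :=
      calc adjT (u : BM ι F) = adjT (u : BM ι F) * ((u : BM ι F) * ((u⁻¹ : (BM ι F)ˣ) : BM ι F)) := by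
            rw [Units.mul_inv, mul_one]
        _ = _ := by rw [← mul_assoc, hu, one_mul]
    show adjT ((u⁻¹ : (BM ι F)ˣ) : BM ι F) * ((u⁻¹ : (BM ι F)ˣ) : BM ι F) = 1
    rw [← h, adjT_adjT, h, Units.mul_inv]

/-- The matrix of an element. -/
def mx (x : Sp ι F) : BM ι F := ((x : (BM ι F)ˣ) : BM ι F)

theorem mx_injective : Function.Injective (mx : Sp ι F → BM ι F) :=
  fun _ _ h => Subtype.ext (Units.ext h)

@[simp] theorem mx_one : mx (1 : Sp ι F) = 1 := rfl
theorem mx_mul (x y : Sp ι F) : mx (x * y) = mx x * mx y := rfl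
theorem adjT_mul_mx (x : Sp ι F) : adjT (mx x) * mx x = 1 := x.2

theorem mx_inv (x : Sp ι F) : mx x⁻¹ = adjT (mx x) :=
  calc mx x⁻¹ = (adjT (mx x) * mx x) * mx x⁻¹ := by rw [adjT_mul_mx, one_mul]
    _ = adjT (mx x) := by rw [mul_assoc, ← mx_mul, mul_inv_cancel, mx_one, mul_one]

theorem mx_mul_adjT (x : Sp ι F) : mx x * adjT (mx x) = 1 := by
  rw [← mx_inv, ← mx_mul, mul_inv_cancel, mx_one]

/-- An element from a matrix. -/
def ofMx (M : BM ι F) (h : adjT M * M = 1) (h' : M * adjT M = 1) : Sp ι F := ⟨⟨M, adjT M, h', h⟩, h⟩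

@[simp] theorem mx_ofMx (M : BM ι F) (h : adjT M * M = 1) (h' : M * adjT M = 1) : mx (ofMx M h h') = M := rfl

/-! ### Reflections in planes -/

/-- The adjoint form on vectors of blocks. -/
def nrm (φ : ι → M2 F) : M2 F := ∑ c, adjugate (φ c) * φ c

/-- The rank two matrix of a vector of blocks. -/
def rk (φ : ι → M2 F) : BM ι F := Matrix.of fun r s => φ r * adjugate (φ s)

@[simp] theorem rk_apply (φ : ι → M2 F) (r s : ι) : rk φ r s = φ r * adjugate (φ s) := rfl

theorem rk_mulVec (φ ψ : ι → M2 F) : rk φ *ᵥ ψ = fun r => φ r * ∑ s, adjugate (φ s) * ψ s := by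
  ext1 r
  simp [Matrix.mulVec, dotProduct, Finset.mul_sum, mul_assoc]

theorem rk_mul_rk {φ : ι → M2 F} (h : nrm φ = 1) : rk φ * rk φ = rk φ := by
  ext1 r s
  simp only [Matrix.mul_apply, rk_apply]
  calc ∑ k, φ r * adjugate (φ k) * (φ k * adjugate (φ s))
      = φ r * (∑ k, adjugate (φ k) * φ k) * adjugate (φ s) := by
        simp [Finset.mul_sum, Finset.sum_mul, mul_assoc]
    _ = φ r * adjugate (φ s) := by rw [show ∑ k, adjugate (φ k) * φ k = 1 from h, mul_one]

theorem adjT_rk (φ : ι → M2 F) : adjT (rk φ) = rk φ := by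
  ext1 r s; simp [adjugate_mul_distrib, adj_adj]

theorem mul_rk (X : BM ι F) (φ : ι → M2 F) : X * rk φ * adjT X = rk (X *ᵥ φ) := by
  ext1 r s
  simp only [Matrix.mul_apply, rk_apply, adjT_apply, Matrix.mulVec, dotProduct, adj_sum,
    adjugate_mul_distrib, Finset.sum_mul, Finset.mul_sum, mul_assoc]
  try rw [Finset.sum_comm]

/-- The reflection matrix. -/
def reflM (φ : ι → M2 F) : BM ι F := 1 - (rk φ + rk φ)

theorem reflM_mul_self {φ : ι → M2 F} (h : nrm φ = 1) : reflM φ * reflM φ = 1 := by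
  simp only [reflM, mul_sub, sub_mul, one_mul, mul_one, mul_add, add_mul, rk_mul_rk h]
  abel

theorem adjT_add (M N : BM ι F) : adjT (M + N) = adjT M + adjT N := by
  ext1 r s; simp [adj_add]

theorem adjT_sub (M N : BM ι F) : adjT (M - N) = adjT M - adjT N := by
  ext1 r s; simp [adj_sub]

theorem adjT_reflM (φ : ι → M2 F) : adjT (reflM φ) = reflM φ := by
  rw [reflM, adjT_sub, adjT_one, adjT_add, adjT_rk]

/-- The reflection in a plane. -/
def refl (φ : ι → M2 F) (h : nrm φ = 1) : Sp ι F :=
  ofMx (reflM φ) (by rw [adjT_reflM, reflM_mul_self h]) (by rw [adjT_reflM, reflM_mul_self h])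

theorem mx_refl (φ : ι → M2 F) (h : nrm φ = 1) : mx (refl φ h) = reflM φ := rfl

theorem refl_mul_self (φ : ι → M2 F) (h : nrm φ = 1) : refl φ h * refl φ h = 1 :=
  mx_injective (by rw [mx_mul, mx_refl, reflM_mul_self h, mx_one])

theorem refl_inv (φ : ι → M2 F) (h : nrm φ = 1) : (refl φ h)⁻¹ = refl φ h :=
  inv_eq_of_mul_eq_one_right (refl_mul_self φ h)

theorem nrm_mulVec {X : BM ι F} (hX : adjT X * X = 1) (φ : ι → M2 F) : nrm (X *ᵥ φ) = nrm φ := by
  have h : ∀ c d, ∑ r, adjugate (X r c) * X r d = if c = d then (1 : M2 F) else 0 := fun c d => by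
    have := congrFun (congrFun hX c) d
    rw [Matrix.mul_apply, Matrix.one_apply] at this
    simpa using this
  calc nrm (X *ᵥ φ) = ∑ c, ∑ d, adjugate (φ c) * (∑ r, adjugate (X r c) * X r d) * φ d := by
        simp only [nrm, Matrix.mulVec, dotProduct, adj_sum, adjugate_mul_distrib, Finset.mul_sum,
          Finset.sum_mul, mul_assoc]
        conv_lhs => arg 2; ext r; rw [Finset.sum_comm]
        rw [Finset.sum_comm]
        exact Finset.sum_congr rfl fun c _ => Finset.sum_comm
    _ = nrm φ := by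
        refine Finset.sum_congr rfl fun c _ => ?_
        rw [Finset.sum_eq_single c (fun d _ hd => by rw [h, if_neg (Ne.symm hd), mul_zero, zero_mul])
          (fun hc => absurd (Finset.mem_univ c) hc), h, if_pos rfl, mul_one]

theorem conj_refl (x : Sp ι F) (φ : ι → M2 F) (h : nrm φ = 1) :
    x * refl φ h * x⁻¹ = refl (mx x *ᵥ φ) ((nrm_mulVec (adjT_mul_mx x) φ).trans h) := by
  apply mx_injective
  rw [mx_mul, mx_mul, mx_inv, mx_refl, mx_refl, reflM, reflM, mul_sub, sub_mul, mul_one, mx_mul_adjT,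
    mul_add, add_mul, mul_rk]

/-- The block vector of a coordinate. -/
def ev (c : ι) : ι → M2 F := Pi.single c 1

theorem nrm_single (c : ι) (A : M2 F) : nrm (Pi.single c A) = adjugate A * A := by
  rw [nrm, Finset.sum_eq_single c (fun d _ hd => by simp [hd]) (by simp)]
  simp

theorem nrm_ev (c : ι) : nrm (ev c : ι → M2 F) = 1 := by rw [ev, nrm_single, adjugate_one, one_mul]

theorem mulVec_ev (M : BM ι F) (c : ι) : M *ᵥ ev c = fun r => M r c := by
  ext1 r; simp [ev]

/-- The element negating the plane of a coordinate. -/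
def zc (c : ι) : Sp ι F := refl (ev c) (nrm_ev c)

theorem mx_zc (c : ι) (r s : ι) :
    mx (zc c : Sp ι F) r s = if r = s then (if r = c then -1 else 1) else 0 := by
  rw [zc, mx_refl, reflM, Matrix.sub_apply, Matrix.add_apply, rk_apply, Matrix.one_apply, ev]
  by_cases hrc : r = c <;> by_cases hsc : s = c <;> by_cases hrs : r = s <;>
    simp_all

theorem zc_mul_self (c : ι) : (zc c : Sp ι F) * zc c = 1 := refl_mul_self _ _

theorem zc_inv (c : ι) : (zc c : Sp ι F)⁻¹ = zc c := refl_inv _ _

theorem mx_zc_mul (c : ι) (x : Sp ι F) (r s : ι) :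
    (mx (zc c : Sp ι F) * mx x) r s = (if r = c then -1 else 1) * mx x r s := by
  rw [Matrix.mul_apply, Finset.sum_eq_single r (fun k _ hk => by rw [mx_zc, if_neg (Ne.symm hk), zero_mul])
    (by simp), mx_zc, if_pos rfl]

theorem mx_mul_zc (c : ι) (x : Sp ι F) (r s : ι) :
    (mx x * mx (zc c : Sp ι F)) r s = mx x r s * (if s = c then -1 else 1) := by
  rw [Matrix.mul_apply, Finset.sum_eq_single s (fun k _ hk => by rw [mx_zc, if_neg hk, mul_zero])
    (by simp), mx_zc, if_pos rfl]

section two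

variable [NeZero (2 : F)]

theorem eq_zero_of_add_self {A : M2 F} (h : A + A = 0) : A = 0 := by
  have : (2 : F) • A = 0 := by rw [two_smul, h]
  exact (smul_eq_zero.1 this).resolve_left two_ne_zero

theorem eq_zero_of_neg_eq {A : M2 F} (h : -A = A) : A = 0 :=
  eq_zero_of_add_self (by nth_rw 1 [← h]; exact neg_add_cancel A)

theorem zc_injective : Function.Injective (zc : ι → Sp ι F) := by
  intro c d h
  by_contra hne
  have := congrArg (fun x => mx x c c) h
  simp only [mx_zc] at this
  rw [if_pos trivial, if_neg hne] at this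
  exact one_ne_zero (eq_zero_of_neg_eq (A := (1 : M2 F)) (by simpa using this))

theorem zc_ne_one (c : ι) : (zc c : Sp ι F) ≠ 1 := by
  intro h
  have := congrArg (fun x => mx x c c) h
  simp only [mx_zc, mx_one, Matrix.one_apply] at this
  exact one_ne_zero (eq_zero_of_neg_eq (A := (1 : M2 F)) (by simpa using this))

theorem commute_zc_iff {c : ι} {x : Sp ι F} :
    Commute x (zc c) ↔ ∀ r, r ≠ c → mx x r c = 0 ∧ mx x c r = 0 := by
  constructor
  · intro h r hr
    have h1 : mx x * mx (zc c : Sp ι F) = mx (zc c : Sp ι F) * mx x := by rw [← mx_mul, ← mx_mul, h.eq]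
    constructor
    · have := congrFun (congrFun h1 r) c
      rw [mx_mul_zc, mx_zc_mul, if_pos rfl, if_neg hr, mul_neg, mul_one, one_mul] at this
      exact eq_zero_of_neg_eq this
    · have := congrFun (congrFun h1 c) r
      rw [mx_mul_zc, mx_zc_mul, if_pos rfl, if_neg hr, neg_mul, one_mul, mul_one] at this
      exact eq_zero_of_neg_eq this.symm
  · intro h
    apply mx_injective
    ext1 r s
    rw [mx_mul, mx_mul, mx_mul_zc, mx_zc_mul]
    by_cases hr : r = c <;> by_cases hs : s = c
    · simp [hr, hs]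
    · rw [if_pos hr, if_neg hs, hr, (h s hs).2]; simp
    · rw [if_neg hr, if_pos hs, hs, (h r hr).1]; simp
    · simp [hr, hs]

/-- A column supported in one place maps the plane onto a plane. -/
theorem conj_zc_of_col {x : Sp ι F} {c d : ι} (h : ∀ r, r ≠ d → mx x r c = 0) :
    x * zc c * x⁻¹ = zc d := by
  rw [zc, conj_refl]
  apply mx_injective
  rw [mx_refl, zc, mx_refl]
  have hcol : mx x *ᵥ ev c = Pi.single d (mx x d c) := by
    rw [mulVec_ev]; ext1 r
    by_cases hr : r = d
    · simp [hr]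
    · rw [Pi.single_eq_of_ne hr]; exact h r hr
  have hn := (nrm_mulVec (adjT_mul_mx x) (ev c : ι → M2 F)).trans (nrm_ev c)
  rw [hcol, nrm_single] at hn
  have hn' : mx x d c * adjugate (mx x d c) = 1 := mul_eq_one_comm.1 hn
  rw [hcol, reflM, reflM]
  congr 2 <;>
  · ext1 r s
    rw [rk_apply, rk_apply, ev]
    by_cases hr : r = d <;> by_cases hs : s = d <;> simp [hr, hs, hn']

theorem col_of_conj_zc {x : Sp ι F} {c d : ι} (h : x * zc c * x⁻¹ = zc d) (r : ι) (hr : r ≠ d) :
    mx x r c = 0 := by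
  have h1 : x * zc c = zc d * x := mul_inv_eq_iff_eq_mul.1 h
  have h2 := congrFun (congrFun (show mx x * mx (zc c : Sp ι F) = mx (zc d : Sp ι F) * mx x by
    rw [← mx_mul, ← mx_mul, h1]) r) c
  rw [mx_mul_zc, mx_zc_mul, if_pos rfl, if_neg hr, mul_neg, mul_one, one_mul] at h2
  exact eq_zero_of_neg_eq h2

end two

/-- The elements permuting the planes. -/
def Mon (ι F : Type*) [Fintype ι] [DecidableEq ι] [Field F] [NeZero (2 : F)] : Subgroup (Sp ι F) where
  carrier := {x | ∀ c, ∃ d, x * zc c * x⁻¹ = zc d}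
  one_mem' c := ⟨c, by simp⟩
  mul_mem' {x y} hx hy c := by
    obtain ⟨d, hd⟩ := hy c
    obtain ⟨e, he⟩ := hx d
    exact ⟨e, by rw [← he, ← hd]; group⟩
  inv_mem' {x} hx := by
    choose f hf using hx
    have hinj : Function.Injective f := fun a b h => zc_injective (mul_left_cancel (a := x)
      (mul_right_cancel (b := x⁻¹) (by rw [hf, hf, h])))
    intro c
    obtain ⟨d, rfl⟩ := Finite.injective_iff_surjective.1 hinj c
    exact ⟨d, by rw [← hf]; group⟩

section Mon

variable [NeZero (2 : F)]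

/-- The permutation of the planes. -/
noncomputable def permOf (x : Mon ι F) : Equiv.Perm ι :=
  Equiv.ofBijective (fun c => (x.2 c).choose) (by
    refine (Finite.injective_iff_bijective).1 fun a b h => zc_injective (F := F) ?_
    have ha := (x.2 a).choose_spec
    have hb := (x.2 b).choose_spec
    rw [h, ← hb] at ha
    exact mul_left_cancel (mul_right_cancel ha))

theorem conj_zc_perm (x : Mon ι F) (c : ι) : (x : Sp ι F) * zc c * (x : Sp ι F)⁻¹ = zc (permOf x c) :=
  (x.2 c).choose_spec

theorem mx_eq_zero_of_perm (x : Mon ι F) {r c : ι} (h : r ≠ permOf x c) : mx (x : Sp ι F) r c = 0 :=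
  col_of_conj_zc (conj_zc_perm x c) r h

theorem permOf_eq {x : Mon ι F} {c d : ι} (h : (x : Sp ι F) * zc c * (x : Sp ι F)⁻¹ = zc d) :
    permOf x c = d :=
  zc_injective ((conj_zc_perm x c).symm.trans h)

theorem permOf_mul (x y : Mon ι F) : permOf (x * y) = permOf x * permOf y := by
  ext c
  refine permOf_eq ?_
  rw [Equiv.Perm.mul_apply, ← conj_zc_perm x, ← conj_zc_perm y, Subgroup.coe_mul]
  group

/-- The permutation, as a homomorphism. -/
noncomputable def permHom (ι F : Type*) [Fintype ι] [DecidableEq ι] [Field F] [NeZero (2 : F)] :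
    Mon ι F →* Equiv.Perm ι where
  toFun := permOf
  map_one' := Equiv.ext fun c => permOf_eq (by simp)
  map_mul' := permOf_mul

theorem mul_mx_mon (x : Mon ι F) (y : Sp ι F) (c s : ι) :
    mx ((x : Sp ι F) * y) (permOf x c) s = mx (x : Sp ι F) (permOf x c) c * mx y c s := by
  rw [mx_mul, Matrix.mul_apply]
  refine Finset.sum_eq_single c (fun k _ hk => ?_) (by simp)
  rw [mx_eq_zero_of_perm x (fun h => hk ((permOf x).injective h).symm), zero_mul]

theorem mx_mul_mon (y : Sp ι F) (x : Mon ι F) (r c : ι) :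
    mx (y * (x : Sp ι F)) r c = mx y r (permOf x c) * mx (x : Sp ι F) (permOf x c) c := by
  rw [mx_mul, Matrix.mul_apply]
  refine Finset.sum_eq_single (permOf x c) (fun k _ hk => ?_) (by simp)
  rw [mx_eq_zero_of_perm x hk, mul_zero]

theorem mx_mon_det (x : Mon ι F) (c : ι) :
    adjugate (mx (x : Sp ι F) (permOf x c) c) * mx (x : Sp ι F) (permOf x c) c = 1 := by
  have h := congrFun (congrFun (adjT_mul_mx (x : Sp ι F)) c) c
  rw [Matrix.mul_apply, Matrix.one_apply_eq, Finset.sum_eq_single (permOf x c) (fun k _ hk => by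
    rw [mx_eq_zero_of_perm x hk, mul_zero]) (by simp)] at h
  simpa using h

end Mon

/-! ### Diagonal elements and permutations -/

open scoped MatrixGroups

/-- The element acting on each plane separately. -/
def dg : (ι → SL(2, F)) →* Sp ι F where
  toFun g := ofMx (Matrix.diagonal fun c => (g c : M2 F))
    (by
      ext1 r s
      rw [Matrix.mul_diagonal, adjT_apply, Matrix.one_apply]
      by_cases h : r = s
      · subst h; rw [Matrix.diagonal_apply_eq, if_pos rfl, adj_mul_self, (g r).2, one_smul]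
      · rw [Matrix.diagonal_apply_ne _ (Ne.symm h), if_neg h, adjugate_zero, zero_mul])
    (by
      ext1 r s
      rw [Matrix.diagonal_mul, adjT_apply, Matrix.one_apply]
      by_cases h : r = s
      · subst h; rw [Matrix.diagonal_apply_eq, if_pos rfl, self_mul_adj, (g r).2, one_smul]
      · rw [Matrix.diagonal_apply_ne _ (Ne.symm h), if_neg h, adjugate_zero, mul_zero])
  map_one' := mx_injective (by simp)
  map_mul' g h := mx_injective (by simp [mx_mul])

theorem mx_dg (g : ι → SL(2, F)) : mx (dg g) = Matrix.diagonal fun c => (g c : M2 F) := rfl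

theorem dg_injective : Function.Injective (dg : (ι → SL(2, F)) → Sp ι F) := fun g h e => funext fun c =>
  Subtype.ext (by simpa [mx_dg] using congrArg (fun x => mx x c c) e)

/-- The permutation matrix of blocks. -/
def pmM (σ : Equiv.Perm ι) : BM ι F := Matrix.of fun r c => if r = σ c then 1 else 0

theorem pmM_mul (σ τ : Equiv.Perm ι) : (pmM (σ * τ) : BM ι F) = pmM σ * pmM τ := by
  ext1 r s
  rw [Matrix.mul_apply, Finset.sum_eq_single (τ s) (fun k _ hk => by simp [pmM, hk]) (by simp)]
  by_cases h : r = σ (τ s) <;> simp [pmM, h]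

theorem pmM_one : (pmM (1 : Equiv.Perm ι) : BM ι F) = 1 := by
  ext1 r s
  by_cases h : r = s <;> simp [pmM, Matrix.one_apply, h]

theorem adjT_pmM (σ : Equiv.Perm ι) : adjT (pmM σ : BM ι F) = pmM σ⁻¹ := by
  ext1 r s
  by_cases h : r = σ⁻¹ s
  · subst h; simp [pmM]
  · have h' : s ≠ σ r := fun e => h (by rw [e]; simp)
    simp only [adjT_apply, pmM, Matrix.of_apply]
    rw [if_neg h', if_neg h, adjugate_zero]

/-- The element permuting the planes. -/
def pm : Equiv.Perm ι →* Sp ι F where
  toFun σ := ofMx (pmM σ)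
    (by rw [adjT_pmM, ← pmM_mul, inv_mul_cancel, pmM_one])
    (by rw [adjT_pmM, ← pmM_mul, mul_inv_cancel, pmM_one])
  map_one' := mx_injective (by rw [mx_ofMx, pmM_one, mx_one])
  map_mul' σ τ := mx_injective (by rw [mx_mul, mx_ofMx, mx_ofMx, mx_ofMx, pmM_mul])

theorem mx_pm (σ : Equiv.Perm ι) (r c : ι) : mx (pm σ : Sp ι F) r c = if r = σ c then 1 else 0 := rfl

end Cfsg.Lib.Linear.Pronormal.SpPlanes
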