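import Cfsg.Agent.Lib.Linear.Pronormal.Sp.Pair

/-!
# A swapper of the frame of the coordinate planes with the frame of an exchange
-/

set_option autoImplicit false
set_option linter.unusedSectionVars false
set_option linter.style.haveILetI false
set_option maxHeartbeats 1000000

namespace Cfsg.Lib.Linear.Pronormal.SpPlanes

open Matrix
open scoped MatrixGroups

variable {m : ℕ} {F : Type*} [Field F] [NeZero (2 : F)] [Finite F]
variable {Q : Sylow 2 SL(2, F)} {T : Sylow 2 (Equiv.Perm (Fin m))} {i j : SL(2, F)} {a b : Fin m}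

/-- The elements of the Sylow subgroup supported on the two planes. -/
theorem mem_PU (hab : a ≠ b) {u : Sp (Fin m) F} (hu : u ∈ PP Q T) (hs : u ∈ Sup' fun r => r = a ∨ r = b) :
    ∃ g ∈ Q, ∃ h ∈ Q, u = D a b g h ∨ u = D a b g h * pm (Equiv.swap a b) := by
  obtain ⟨f, hf, σ, -, rfl⟩ := hu
  have hout : ∀ r, ¬ (r = a ∨ r = b) → σ r = r ∧ f r = 1 := by
    intro r hr
    have h1 := hs r r (Or.inl hr)
    rw [mx_dg_pm, Matrix.one_apply_eq] at h1
    by_cases he : r = σ r
    · rw [if_pos he] at h1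
      exact ⟨he.symm, Subtype.ext h1⟩
    · rw [if_neg he] at h1
      exact absurd h1 zero_ne_one
  have hin : ∀ r, (r = a ∨ r = b) → σ r = a ∨ σ r = b := by
    intro r hr
    by_contra hc
    have := σ.injective (hout _ hc).1
    exact hc (by rw [this]; exact hr)
  have hD : dg f = D a b (f a) (f b) := by
    rw [D]
    congr 1
    funext e
    simp only [pairF]
    split_ifs with h1 h2
    · rw [h1]
    · rw [h2]
    · exact (hout e (by simp [h1, h2])).2
  refine ⟨f a, hf a, f b, hf b, ?_⟩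
  rcases hin a (Or.inl rfl) with ha | ha
  · left
    have hσ : σ = 1 := by
      refine Equiv.ext fun r => ?_
      by_cases hr : r = a ∨ r = b
      · rcases hr with rfl | rfl
        · exact ha
        · rcases hin r (Or.inr rfl) with hb | hb
          · exact absurd (σ.injective (hb.trans ha.symm)) hab.symm
          · exact hb
      · exact (hout r hr).1
    rw [hσ, map_one, mul_one, hD]
  · right
    have hσ : σ = Equiv.swap a b := by
      refine Equiv.ext fun r => ?_
      by_cases hr : r = a ∨ r = b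
      · rcases hr with rfl | rfl
        · rw [ha, Equiv.swap_apply_left]
        · rcases hin r (Or.inr rfl) with hb | hb
          · rw [hb, Equiv.swap_apply_right]
          · exact absurd (σ.injective (hb.trans ha.symm)) hab.symm
      · push Not at hr
        rw [Equiv.swap_apply_of_ne_of_ne hr.1 hr.2]
        exact (hout r (by simp [hr.1, hr.2])).1
    rw [hσ, hD]

theorem D_mem_PP {g h : SL(2, F)} (hg : g ∈ Q) (hh : h ∈ Q) : D a b g h ∈ PP Q T :=
  dg_mem_PP fun c => by
    simp only [pairF]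
    split_ifs <;> first | exact hg | exact hh | exact one_mem Q

/-- The standing data: a conjugate under `K` of a sign change exchanges two planes. -/
structure Exch (K : Subgroup (Sp (Fin m) F)) (Q : Sylow 2 SL(2, F)) (T : Sylow 2 (Equiv.Perm (Fin m)))
    (i j : SL(2, F)) (a b : Fin m) : Prop where
  anti : Anti (i : M2 F) j
  hi : i ∈ Q
  hj : j ∈ Q
  h8 : Nat.card Q = 8
  hK : PP Q T ≤ K
  ne : a ≠ b
  swap : Equiv.swap a b ∈ T
  conj : ∃ x ∈ K, ∃ c, x * zc c * x⁻¹ = pm (Equiv.swap a b)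

variable {K : Subgroup (Sp (Fin m) F)}

theorem Exch.swap_mem (hE : Exch K Q T i j a b) :
    (pm (Equiv.swap a b) : Sp (Fin m) F) ∈ PP Q T ⊓ Sup' (fun r => r = a ∨ r = b) :=
  ⟨pm_mem_PP hE.swap, swap_mem_sup'⟩

theorem Exch.za_mem (hE : Exch K Q T i j a b) :
    (zc a : Sp (Fin m) F) ∈ PP Q T ⊓ Sup' (fun r => r = a ∨ r = b) := by
  rw [zc_eq_D (b := b) hE.anti]
  exact ⟨D_mem_PP (mul_mem hE.hi hE.hi) (one_mem Q), D_mem_sup' _ _⟩

theorem Exch.S_mem (hE : Exch K Q T i j a b) {v : SL(2, F)} (hv : v ∈ Q) :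
    S a b v ∈ PP Q T ⊓ Sup' (fun r => r = a ∨ r = b) :=
  ⟨mul_mem (D_mem_PP hv (inv_mem hv)) (pm_mem_PP hE.swap), S_mem_sup' v⟩

/-- The supported part of the Sylow subgroup is Sylow in every group of supported elements containing it. -/
theorem Exch.exists_conj_le (hE : Exch K Q T i j a b) {H B : Subgroup (Sp (Fin m) F)}
    (hPH : PP Q T ⊓ Sup' (fun r => r = a ∨ r = b) ≤ H) (hH : H ≤ Sup' fun r => r = a ∨ r = b)
    (hB : IsPGroup 2 B) (hBH : B ≤ H) :
    ∃ k ∈ H, ∀ u ∈ B, k * u * k⁻¹ ∈ PP Q T ⊓ Sup' (fun r => r = a ∨ r = b) := by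
  haveI : Fact (Nat.Prime 2) := ⟨Nat.prime_two⟩
  set PU := PP Q T ⊓ Sup' (fun r => r = a ∨ r = b) with hPU
  have h128 : 128 ≤ Nat.card PU := by
    let f : Q × Q × Bool → PU := fun x => if x.2.2 then
        ⟨D a b x.1 x.2.1 * pm (Equiv.swap a b),
          ⟨mul_mem (D_mem_PP x.1.2 x.2.1.2) (pm_mem_PP hE.swap), mul_mem (D_mem_sup' _ _) swap_mem_sup'⟩⟩
      else ⟨D a b x.1 x.2.1, ⟨D_mem_PP x.1.2 x.2.1.2, D_mem_sup' _ _⟩⟩
    have hf : Function.Injective f := by
      rintro ⟨g, h, _ | _⟩ ⟨g', h', _ | _⟩ e <;> simp only [f, Bool.false_eq_true, if_false, if_true] at e <;>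
        have e' := congrArg Subtype.val e
      · obtain ⟨e1, e2⟩ := D_injective hE.ne e'
        rw [Subtype.ext e1, Subtype.ext e2]
      · exact absurd e' (D_ne_DS hE.ne _ _ _ _)
      · exact absurd e'.symm (D_ne_DS hE.ne _ _ _ _)
      · obtain ⟨e1, e2⟩ := D_injective hE.ne (mul_right_cancel e')
        rw [Subtype.ext e1, Subtype.ext e2]
    have := Nat.card_le_card_of_injective f hf
    simp only [Nat.card_prod, Nat.card_eq_fintype_card (α := Bool), Fintype.card_bool] at this
    rw [hE.h8] at this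
    omega
  have hPU2 : IsPGroup 2 PU :=
    (IsPGroup.of_card (p := 2) (n := (Nat.card (Sp (Fin m) F)).factorization 2) (card_PP_eq Q T)).to_le inf_le_left
  obtain ⟨S₀, hS₀⟩ := IsPGroup.exists_le_sylow (P := PU.subgroupOf H) hPU2.comap_subtype
  have hS₀e : (S₀ : Subgroup H).map H.subtype = PU := by
    have hle : PU ≤ (S₀ : Subgroup H).map H.subtype := fun u hu => ⟨⟨u, hPH hu⟩, hS₀ hu, rfl⟩
    refine (Subgroup.eq_of_le_of_card_ge hle ?_).symm
    exact (Nat.le_of_dvd (by norm_num) (card_two_group_le hE.h8 hE.ne (S₀.2.map _)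
      ((Subgroup.map_subtype_le _).trans hH))).trans h128
  obtain ⟨S₁, hS₁⟩ := IsPGroup.exists_le_sylow (P := B.subgroupOf H) hB.comap_subtype
  obtain ⟨k, hk⟩ := MulAction.exists_smul_eq H S₁ S₀
  refine ⟨k, k.2, fun u hu => ?_⟩
  rw [← hS₀e, ← hk]
  exact ⟨k * ⟨u, hBH hu⟩ * k⁻¹, Subgroup.mem_map_of_mem (MulAut.conj k).toMonoidHom (hS₁ hu), rfl⟩

/-- The frame of the exchange is moved to the frame of the coordinate planes. -/
theorem Exch.exists_move (hE : Exch K Q T i j a b) :
    ∃ k ∈ K ⊓ Sup' (fun r => r = a ∨ r = b),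
      k * pm (Equiv.swap a b) * k⁻¹ = zc a := by
  classical
  haveI : Fact (Nat.Prime 2) := ⟨Nat.prime_two⟩
  set p := fun r : Fin m => r = a ∨ r = b with hp
  set s : Sp (Fin m) F := pm (Equiv.swap a b) with hs
  obtain ⟨x, hxK, c, hxc⟩ := hE.conj
  have href : refl (col x c) (nrm_col x c) = s := by rw [← conj_zc_eq_refl]; exact hxc
  have hent : ∀ r q, mx s r q = (1 : BM (Fin m) F) r q - (mx x r c * adjugate (mx x q c) + mx x r c * adjugate (mx x q c)) :=
    fun r q => by rw [← href, mx_refl, reflM, Matrix.sub_apply, Matrix.add_apply, rk_apply]; rfl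
  have haa : ∀ r, p r → (mx x r c).det + (mx x r c).det = 1 := by
    intro r hr
    have h1 := hent r r
    rw [hs, mx_pm, Matrix.one_apply_eq, if_neg (by
      rcases hr with rfl | rfl
      · rw [Equiv.swap_apply_left]; exact hE.ne
      · rw [Equiv.swap_apply_right]; exact hE.ne.symm), self_mul_adj, ← add_smul] at h1
    have h2 := congrFun (congrFun (eq_comm.1 (sub_eq_zero.1 h1.symm)) 0) 0
    simpa using h2
  have hsupp : ∀ r, ¬ p r → mx x r c = 0 := by
    intro r hr
    simp only [hp, not_or] at hr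
    have h1 := hent r a
    rw [hs, mx_pm, Equiv.swap_apply_left, if_neg hr.2, Matrix.one_apply_ne hr.1, zero_sub, eq_comm, neg_eq_zero] at h1
    have h2 := congrArg (fun M => M * mx x a c) (eq_zero_of_add_self h1)
    simp only [mul_assoc, adj_mul_self, zero_mul, mul_smul_comm, mul_one] at h2
    refine (smul_eq_zero.1 h2).resolve_left fun h0 => ?_
    have := haa a (Or.inl rfl)
    rw [h0, add_zero] at this
    exact zero_ne_one this
  set za : Sp (Fin m) F := zc a with hza
  have hy : mx (x⁻¹ * za * x) c c = 0 := by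
    have hval : ∀ r, (mx za * mx x) r c = (if r = a then -1 else 1) * mx x r c := fun r => mx_zc_mul a x r c
    rw [mx_mul, mx_mul, mx_inv, Matrix.mul_assoc, Matrix.mul_apply]
    simp only [adjT_apply, hval]
    rw [← Finset.sum_subset (Finset.subset_univ {a, b}) (fun r _ hr => by
      rw [hsupp r (by simpa [hp] using hr), mul_zero, mul_zero]), Finset.sum_pair hE.ne, if_pos rfl,
      if_neg hE.ne.symm, one_mul, neg_one_mul, mul_neg, adj_mul_self, adj_mul_self, ← sub_eq_neg_add, ← sub_smul]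
    have h2 : (2 : F) * ((mx x b c).det - (mx x a c).det) = 0 := by
      linear_combination haa b (Or.inr rfl) - haa a (Or.inl rfl)
    rw [(mul_eq_zero.1 h2).resolve_left two_ne_zero, zero_smul]
  let θ : SL(2, F) →* Sp (Fin m) F :=
    (MulAut.conj x).toMonoidHom.comp (dg.comp (MonoidHom.mulSingle (fun _ : Fin m => SL(2, F)) c))
  let θ' : SL(2, F) →* Sp (Fin m) F :=
    (MulAut.conj (za * x)).toMonoidHom.comp (dg.comp (MonoidHom.mulSingle (fun _ : Fin m => SL(2, F)) c))
  have hθ : ∀ g, θ g = x * one c g * x⁻¹ := fun g => rfl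
  have hθ' : ∀ g, θ' g = (za * x) * one c g * (za * x)⁻¹ := fun g => rfl
  have hcomm : ∀ g h, Commute (θ g) (θ' h) := fun g h => by
    rw [hθ, hθ', show za * x = x * (x⁻¹ * za * x) by group]
    exact conj_one_commute x c g h _ hy
  let ψ : ↥(Q : Subgroup SL(2, F)) × ↥(Q : Subgroup SL(2, F)) →* Sp (Fin m) F :=
    MonoidHom.noncommCoprod (θ.comp (Q : Subgroup SL(2, F)).subtype) (θ'.comp (Q : Subgroup SL(2, F)).subtype)
      fun g h => hcomm g h
  have hψ : ∀ g h, ψ (g, h) = θ g * θ' h := fun g h => rfl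
  have hinj : Function.Injective ψ := by
    rw [injective_iff_map_eq_one]
    rintro ⟨g, h⟩ e
    rw [hψ, hθ, hθ', show za * x = x * (x⁻¹ * za * x) by group] at e
    set y := x⁻¹ * za * x with hy'
    have e1 : one c (g : SL(2, F)) * (y * one c (h : SL(2, F)) * y⁻¹) = 1 := by
      have e0 : x * (one c (g : SL(2, F)) * (y * one c (h : SL(2, F)) * y⁻¹)) * x⁻¹ = 1 := by rw [← e]; group
      rw [mul_inv_eq_one, mul_eq_left] at e0
      exact e0
    have hg : (g : SL(2, F)) = 1 := by
      have h2 := congrArg (fun z => mx z c c) e1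
      simp only [mx_mul (one c (g : SL(2, F))), Matrix.mul_apply] at h2
      rw [Finset.sum_eq_single c (fun k _ hk => by rw [mx_one_apply, if_neg (Ne.symm hk), zero_mul]) (by simp),
        mx_one_apply, if_pos rfl, if_pos rfl, mx_conj_one, hy, zero_mul, zero_mul, add_zero, Matrix.one_apply_eq,
        mul_one, mx_one, Matrix.one_apply_eq] at h2
      exact Subtype.ext h2
    rw [hg, show one c (1 : SL(2, F)) = 1 by rw [one, Pi.mulSingle_one, map_one], one_mul, mul_inv_eq_one,
      mul_eq_left, one, ← map_one dg] at e1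
    have hh := congrFun (dg_injective e1) c
    simp only [Pi.mulSingle_eq_same, Pi.one_apply] at hh
    exact Prod.ext (Subtype.ext hg) (Subtype.ext hh)
  set B := ψ.range with hB
  set KU := K ⊓ Sup' p with hKU
  have hB2 : IsPGroup 2 B := IsPGroup.of_surjective
    (IsPGroup.of_card (p := 2) (n := 6) (by rw [Nat.card_prod, hE.h8]; rfl)) ψ.rangeRestrict ψ.rangeRestrict_surjective
  have hzaK : za ∈ KU := ⟨hE.hK hE.za_mem.1, hE.za_mem.2⟩
  have hθK : ∀ g ∈ Q, θ g ∈ KU := fun g hg =>
    ⟨K.mul_mem (K.mul_mem hxK (hE.hK (one_mem_PP c hg))) (K.inv_mem hxK), conj_one_mem_sup' hsupp g⟩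
  have hθ'e : ∀ g, θ' g = za * θ g * za⁻¹ := fun g => by rw [hθ, hθ']; group
  have hBKU : B ≤ KU := by
    rintro _ ⟨⟨g, h⟩, rfl⟩
    rw [hψ, hθ'e]
    exact mul_mem (hθK g g.2) (mul_mem (mul_mem hzaK (hθK h h.2)) (inv_mem hzaK))
  -- the exchange is central there
  have hsB : s ∈ B := by
    refine ⟨(⟨i * i, mul_mem hE.hi hE.hi⟩, 1), ?_⟩
    rw [hψ]
    show θ (i * i) * θ' 1 = s
    rw [map_one, mul_one, hθ, show one c (i * i) = (zc c : Sp (Fin m) F) by
      rw [← one_mul_self c i hE.anti.hii, one, one, ← map_mul, ← Pi.mulSingle_mul]]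
    exact hxc
  have hsc : ∀ u ∈ B, Commute s u := by
    have hz : ∀ g, Commute s (θ g) := fun g => by
      rw [show s = x * zc c * x⁻¹ from hxc.symm, hθ]
      exact (Commute.conj_iff x).2 (commute_one_zc c g).symm
    rintro _ ⟨⟨g, h⟩, rfl⟩
    rw [hψ]
    refine (hz g).mul_right ?_
    rw [hθ'e]
    have hzz : za * za = 1 := zc_mul_self a
    have hse : za * s * za⁻¹ = s * (za * zc b) := by
      rw [hza, ee_eq_D hE.ne hE.anti, zc_eq_D (b := b) hE.anti, hs, D_inv, nu_inv hE.anti, inv_one,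
        DS_mul hE.ne, swap_D hE.ne, one_mul, mul_one]
    have h3 : Commute (za * s * za⁻¹) (θ h) := by
      rw [hse]
      exact (hz h).mul_left (sup_commute_ee hE.ne (conj_one_mem_sup' hsupp (h : SL(2, F))))
    have h4 := (Commute.conj_iff za).2 h3
    rwa [show za * (za * s * za⁻¹) * za⁻¹ = (za * za) * s * (za * za)⁻¹ by group, hzz, inv_one, one_mul,
      mul_one] at h4
  have hPU : PP Q T ⊓ Sup' p ≤ KU := fun u hu => ⟨hE.hK hu.1, hu.2⟩
  obtain ⟨k, hkK, hk⟩ := hE.exists_conj_le hPU inf_le_right hB2 hBKU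
  set s₀ := k * s * k⁻¹ with hs₀
  obtain ⟨hs₀P, hs₀U⟩ := hk s hsB
  obtain ⟨g, hg, h, hh, hs₀c⟩ := mem_PU hE.ne hs₀P hs₀U
  change s₀ = _ ∨ s₀ = _ at hs₀c
  have hs₀sq : s₀ * s₀ = 1 := by
    rw [hs₀, show k * s * k⁻¹ * (k * s * k⁻¹) = k * (s * s) * k⁻¹ by group, hs, swap_mul_self]; group
  rcases hs₀c with e | e
  · rw [e, D_mul, ← D_one] at hs₀sq
    obtain ⟨hg2, hh2⟩ := D_injective hE.ne hs₀sq
    have hsgn : ∀ u ∈ Q, u * u = 1 → u = 1 ∨ u = i * i := by
      intro u hu hu2
      rcases eight_elements hE.anti hE.hi hE.hj hE.h8 hu with hs' | ⟨l, hs'⟩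
      · rcases hs' with e' | e'
        · exact Or.inl (Subtype.ext e')
        · exact Or.inr (Subtype.ext (by simpa [hE.anti.hii] using e'))
      · exfalso
        have h1 := congrArg (fun z : SL(2, F) => (z : M2 F)) hu2
        simp only [Matrix.SpecialLinearGroup.coe_mul, Matrix.SpecialLinearGroup.coe_one] at h1
        rcases hs' with e' | e' <;> rw [e'] at h1 <;> simp [ax_sq hE.anti l] at h1 <;>
          exact one_ne_zero (eq_zero_of_neg_eq h1)
    have hsne : ∀ z : Sp (Fin m) F, (∀ w ∈ Sup' p, Commute z w) → s₀ = z → s = z := by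
      intro z hz hz'
      have h1 : s = k⁻¹ * z * k := by rw [← hz', hs₀]; group
      rw [h1, mul_assoc, (hz k hkK.2).eq, inv_mul_cancel_left]
    rcases hsgn g hg hg2 with rfl | rfl <;> rcases hsgn h hh hh2 with rfl | rfl
    · exfalso
      have h1 := hsne 1 (fun w _ => Commute.one_left w) (e.trans D_one)
      have h2 := congrArg (fun z => mx z a b) h1
      simp [hs, mx_pm, hE.ne] at h2
    · refine ⟨pm (Equiv.swap a b) * k, mul_mem (hPU hE.swap_mem) hkK, ?_⟩
      rw [show pm (Equiv.swap a b) * k * pm (Equiv.swap a b) * (pm (Equiv.swap a b) * k)⁻¹ =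
        pm (Equiv.swap a b) * s₀ * (pm (Equiv.swap a b))⁻¹ by rw [hs₀, hs]; group, e, swap_D hE.ne,
        mul_inv_cancel_right]
      exact (zc_eq_D hE.anti).symm
    · exact ⟨k, hkK, e.trans (zc_eq_D hE.anti).symm⟩
    · exfalso
      have h1 := hsne _ (fun w hw => sup_commute_ee hE.ne hw) (e.trans (ee_eq_D hE.ne hE.anti).symm)
      rw [ee_eq_D hE.ne hE.anti, hs] at h1
      have h2 := congrArg (fun z => mx z a b) h1
      simp [D, mx_dg, mx_pm, hE.ne] at h2
  · exfalso
    have hsingle : ∀ u : B, ∃ g' : (Q : Subgroup SL(2, F)), ∃ d : Bool, k * (u : Sp (Fin m) F) * k⁻¹ = if d then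
        D a b (g' : SL(2, F)) (g⁻¹ * g' * h) * pm (Equiv.swap a b)
        else D a b (g' : SL(2, F)) (g⁻¹ * g' * g) := by
      intro u
      obtain ⟨hP', hU'⟩ := hk u u.2
      obtain ⟨g', hg', h', -, hu'⟩ := mem_PU hE.ne hP' hU'
      have hc : Commute s₀ (k * (u : Sp (Fin m) F) * k⁻¹) := (Commute.conj_iff k).2 (hsc u u.2)
      refine ⟨⟨g', hg'⟩, ?_⟩
      rcases hu' with e' | e'
      · refine ⟨false, ?_⟩
        simp only [Bool.false_eq_true, if_false]
        have h1 := hc.eq
        rw [e, e', DS_mul hE.ne, ← mul_assoc, D_mul] at h1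
        obtain ⟨h2, -⟩ := D_injective hE.ne (mul_right_cancel h1)
        rw [e', show h' = g⁻¹ * g' * g by rw [mul_assoc, ← h2]; group]
      · refine ⟨true, ?_⟩
        simp only [if_true]
        have h1 := hc.eq
        rw [e, e', DS_DS hE.ne, DS_DS hE.ne] at h1
        obtain ⟨h2, -⟩ := D_injective hE.ne h1
        rw [e', show h' = g⁻¹ * g' * h by rw [mul_assoc, ← h2]; group]
    choose gg dd hgd using hsingle
    have hinj2 : Function.Injective (fun u : B => (gg u, dd u)) := by
      intro u v huv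
      simp only [Prod.mk.injEq] at huv
      have h1 := hgd u
      rw [huv.1, huv.2, ← hgd v] at h1
      exact Subtype.ext (mul_left_cancel (mul_right_cancel h1))
    have h1 := Nat.card_le_card_of_injective _ hinj2
    rw [← Nat.card_congr (MonoidHom.ofInjective hinj).toEquiv] at h1
    simp only [Nat.card_prod, Nat.card_eq_fintype_card (α := Bool), Fintype.card_bool] at h1
    rw [hE.h8] at h1
    omega

end Cfsg.Lib.Linear.Pronormal.SpPlanes
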