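import Cfsg.Agent.Lib.Linear.Pronormal.Sp.Reflect
import Mathlib.GroupTheory.OrderOfElement

/-!
# The conjugates of the sign changes

`X` contains two anti-commuting elements of order four on each plane and no conjugate of the negation of a plane
exchanges two planes. The centraliser of a negation of one or two planes permutes the planes.
-/

set_option autoImplicit false
set_option linter.unusedSectionVars false

namespace Cfsg.Lib.Linear.Pronormal.SpPlanes

open Matrix Finset
open scoped MatrixGroups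

variable {ι : Type*} [Fintype ι] [DecidableEq ι] {F : Type*} [Field F]

theorem zc_commute [NeZero (2 : F)] (a b : ι) : Commute (zc a : Sp ι F) (zc b) := by
  rw [commute_zc_iff]
  intro r hr
  simp [mx_zc, hr, Ne.symm hr]

/-- The element acting on one plane. -/
noncomputable def one (c : ι) (g : SL(2, F)) : Sp ι F := dg (Pi.mulSingle c g)

theorem mx_one_apply (c : ι) (g : SL(2, F)) (r s : ι) :
    mx (one c g) r s = if r = s then (if r = c then (g : M2 F) else 1) else 0 := by
  rw [one, mx_dg, Matrix.diagonal_apply]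
  by_cases h : r = s
  · rw [if_pos h, if_pos h]
    by_cases hc : r = c <;> simp [hc]
  · rw [if_neg h, if_neg h]

theorem one_mul_self (c : ι) (g : SL(2, F)) (hg : (g : M2 F) * g = -1) : one c g * one c g = zc c := by
  apply mx_injective
  ext1 r s
  rw [one, ← map_mul, ← Pi.mulSingle_mul, mx_dg, mx_zc, Matrix.diagonal_apply]
  by_cases h : r = s
  · rw [if_pos h, if_pos h]
    by_cases hc : r = c <;> simp [hc, hg]
  · rw [if_neg h, if_neg h]

section

variable [NeZero (2 : F)]

/-- The standing hypothesis. -/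
structure Setup (X : Subgroup (Sp ι F)) (i j : SL(2, F)) : Prop where
  anti : Anti (i : M2 F) j
  mem : ∀ c, one c i ∈ X ∧ one c j ∈ X
  fuse : ∀ x ∈ X, ∀ c, x * zc c * x⁻¹ ∈ Mon ι F → ∃ d, x * zc c * x⁻¹ = zc d

/-- The conjugates of the sign changes under `X`. -/
def IsD (X : Subgroup (Sp ι F)) (d : Sp ι F) : Prop := ∃ x ∈ X, ∃ c, d = x * zc c * x⁻¹

variable {X : Subgroup (Sp ι F)} {i j : SL(2, F)}

theorem Setup.zc_mem (hS : Setup X i j) (c : ι) : zc c ∈ X := by
  rw [← one_mul_self c i hS.anti.hii]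
  exact mul_mem (hS.mem c).1 (hS.mem c).1

theorem isD_zc (c : ι) : IsD X (zc c) := ⟨1, one_mem _, c, by simp⟩

theorem IsD.conj {d : Sp ι F} (h : IsD X d) {x : Sp ι F} (hx : x ∈ X) : IsD X (x * d * x⁻¹) := by
  obtain ⟨y, hy, c, rfl⟩ := h
  exact ⟨x * y, mul_mem hx hy, c, by group⟩

theorem IsD.mem {d : Sp ι F} (hS : Setup X i j) (h : IsD X d) : d ∈ X := by
  obtain ⟨y, hy, c, rfl⟩ := h
  exact mul_mem (mul_mem hy (hS.zc_mem c)) (inv_mem hy)

theorem IsD.mul_self {d : Sp ι F} (h : IsD X d) : d * d = 1 := by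
  obtain ⟨y, hy, c, rfl⟩ := h
  rw [show y * zc c * y⁻¹ * (y * zc c * y⁻¹) = y * (zc c * zc c) * y⁻¹ by group, zc_mul_self]
  group

theorem IsD.inv {d : Sp ι F} (h : IsD X d) : d⁻¹ = d := inv_eq_of_mul_eq_one_right h.mul_self

/-- The centralisers of one or two sign changes permute the planes. -/
structure Ctx (X : Subgroup (Sp ι F)) (i j : SL(2, F)) : Prop extends Setup X i j where
  one' : ∀ x ∈ X, ∀ c, Commute x (zc c) → x ∈ Mon ι F
  two' : ∀ x ∈ X, ∀ a b : ι, a ≠ b → Commute x (zc a * zc b) → x ∈ Mon ι F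

namespace Ctx

variable (hX : Ctx X i j)
include hX

theorem eq_zc_of_mem_mon {d : Sp ι F} (hd : IsD X d) (hm : d ∈ Mon ι F) : ∃ k, d = zc k := by
  obtain ⟨x, hx, c, rfl⟩ := hd
  exact hX.fuse x hx c hm

theorem eq_zc_of_commute {d : Sp ι F} (hd : IsD X d) {c : ι} (h : Commute d (zc c)) : ∃ k, d = zc k :=
  hX.eq_zc_of_mem_mon hd (hX.one' d (hd.mem hX.toSetup) c h)

theorem eq_zc_of_commute_two {d : Sp ι F} (hd : IsD X d) {a b : ι} (hab : a ≠ b)
    (h : Commute d (zc a * zc b)) : ∃ k, d = zc k :=
  hX.eq_zc_of_mem_mon hd (hX.two' d (hd.mem hX.toSetup) a b hab h)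

/-- Commuting is transitive on the conjugates. -/
theorem trans {d e f : Sp ι F} (hd : IsD X d) (he : IsD X e) (hf : IsD X f) (h₁ : Commute d e)
    (h₂ : Commute d f) : Commute e f := by
  obtain ⟨x, hx, c, rfl⟩ := hd
  have key : ∀ g, IsD X g → Commute (x * zc c * x⁻¹) g → ∃ k, g = x * zc k * x⁻¹ := by
    intro g hg hc
    obtain ⟨k, hk⟩ := hX.eq_zc_of_commute (c := c) (hg.conj (inv_mem hx)) (by
      rw [inv_inv]
      show x⁻¹ * g * x * zc c = zc c * (x⁻¹ * g * x)
      calc x⁻¹ * g * x * zc c = x⁻¹ * (g * (x * zc c * x⁻¹)) * x := by group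
        _ = x⁻¹ * ((x * zc c * x⁻¹) * g) * x := by rw [hc.eq]
        _ = _ := by group)
    exact ⟨k, by rw [← hk]; group⟩
  obtain ⟨a, rfl⟩ := key e he h₁
  obtain ⟨b, rfl⟩ := key f hf h₂
  exact (Commute.conj_iff x).2 (zc_commute a b)

/-- If `d z d` commutes with `z` then so does `d`. -/
theorem commute_of_conj {d : Sp ι F} (hd : IsD X d) {a : ι} (h : Commute (d * zc a * d) (zc a)) :
    Commute d (zc a) := by
  have hda : IsD X (d * zc a * d) := by
    have := (isD_zc (X := X) a).conj (hd.mem hX.toSetup)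
    rwa [hd.inv] at this
  obtain ⟨k, hk⟩ := hX.eq_zc_of_commute hda h
  by_cases hka : k = a
  · subst hka
    show d * zc k = zc k * d
    calc d * zc k = d * zc k * (d * d) := by rw [hd.mul_self, mul_one]
      _ = (d * zc k * d) * d := by group
      _ = zc k * d := by rw [hk]
  · have hk' : d * zc k * d = zc a := by
      rw [← hk, show d * (d * zc a * d) * d = (d * d) * zc a * (d * d) by group, hd.mul_self, one_mul, mul_one]
    obtain ⟨l, rfl⟩ := hX.eq_zc_of_commute_two hd (Ne.symm hka) (by
      show d * (zc a * zc k) = zc a * zc k * d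
      calc d * (zc a * zc k) = (d * zc a * d) * (d * zc k * d) * d := by
            rw [show (d * zc a * d) * (d * zc k * d) * d = d * zc a * (d * d) * zc k * (d * d) by group,
              hd.mul_self]
            group
        _ = zc k * zc a * d := by rw [hk, hk']
        _ = zc a * zc k * d := by rw [(zc_commute k a).eq])
    exact zc_commute l a

/-- A sign change and a conjugate not commuting with it generate a dihedral group of twice odd order. -/
theorem odd_order [Finite F] {d : Sp ι F} (hd : IsD X d) {a : ι} (h : ¬ Commute d (zc a)) :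
    Odd (orderOf (zc a * d)) := by
  suffices H : ∀ N, ∀ d : Sp ι F, IsD X d → orderOf (zc a * d) = N → Even N → Commute d (zc a) by
    rcases Nat.even_or_odd (orderOf (zc a * d)) with he | ho
    · exact absurd (H _ d hd rfl he) h
    · exact ho
  intro N
  induction N using Nat.strong_induction_on with
  | _ N ih =>
    intro d hd hN he
    have hpos : 0 < N := hN ▸ orderOf_pos _
    obtain ⟨s, rfl⟩ := he.two_dvd
    set z : Sp ι F := zc a with hz
    set r : Sp ι F := z * d with hr
    have hd' : IsD X (d * z * d) := by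
      have := (isD_zc (X := X) a).conj (hd.mem hX.toSetup)
      rwa [hd.inv] at this
    rcases Nat.even_or_odd s with hs | hs
    · refine hX.commute_of_conj hd (ih s (by omega) _ hd' ?_ hs)
      have : z * (d * z * d) = r ^ 2 := by rw [hr, pow_two]; group
      rw [this, orderOf_pow_of_dvd two_ne_zero (hN ▸ dvd_mul_right 2 s), hN,
        Nat.mul_div_cancel_left _ two_pos]
    · set u : Sp ι F := r ^ s with hu
      have hu2 : u * u = 1 := by rw [hu, ← pow_add, ← two_mul, ← hN, pow_orderOf_eq_one]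
      have hu1 : u ≠ 1 := fun h1 => by
        have := Nat.le_of_dvd (by omega) (orderOf_dvd_of_pow_eq_one h1)
        omega
      have hrinv : r⁻¹ = d * z := by rw [hr, _root_.mul_inv_rev, hd.inv, hz, zc_inv]
      have hzr : z * r * z = r⁻¹ := by
        rw [hrinv, hr, show z * (z * d) * z = (z * z) * (d * z) by group, hz, zc_mul_self, one_mul]
      have hzu : Commute z u := by
        show z * u = u * z
        have h1 : z * u * z⁻¹ = u := by
          rw [hu, ← conj_pow, hz, zc_inv, ← hz, hzr, inv_pow, ← hu, inv_eq_of_mul_eq_one_right hu2]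
        exact mul_inv_eq_iff_eq_mul.1 h1
      obtain ⟨t, ht⟩ := hs
      have hconj : z * u = (r ^ t)⁻¹ * d * r ^ t := by
        have h1 : z * r ^ t * z = (r ^ t)⁻¹ := by
          rw [← inv_pow, ← hzr]
          conv_rhs => rw [show z * r * z = z * r * z⁻¹ by rw [hz, zc_inv]]
          rw [conj_pow, hz, zc_inv]
        rw [hu, ht, show 2 * t + 1 = t + 1 + t by ring, pow_add, pow_add, pow_one, ← h1, hr]
        have hzz : z * z = 1 := zc_mul_self a
        calc z * ((z * d) ^ t * (z * d) * (z * d) ^ t)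
            = z * (z * d) ^ t * z * d * (z * d) ^ t := by group
          _ = _ := by group
      have hrX : r ^ t ∈ X := pow_mem (mul_mem (hX.toSetup.zc_mem a) (hd.mem hX.toSetup)) t
      have hzuD : IsD X (z * u) := by
        rw [hconj]
        have := hd.conj (inv_mem hrX)
        rwa [inv_inv] at this
      obtain ⟨k, hk⟩ := hX.eq_zc_of_commute hzuD (c := a) ((Commute.refl z).mul_left hzu.symm)
      have huk : u = zc a * zc k := by
        rw [← hk, hz, ← mul_assoc, zc_mul_self, one_mul]
      have hak : a ≠ k := fun e => hu1 (by rw [huk, e, zc_mul_self])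
      have hdu : Commute d u := by
        have h0 : Commute r u := (Commute.refl r).pow_right s
        have : Commute (z * r) u := hzu.mul_left h0
        rwa [hr, ← mul_assoc, hz, zc_mul_self, one_mul] at this
      obtain ⟨l, rfl⟩ := hX.eq_zc_of_commute_two hd hak (huk ▸ hdu)
      exact zc_commute l a

/-- The conjugate exchanging a sign change with a conjugate. -/
theorem exists_swapper [Finite F] {d : Sp ι F} (hd : IsD X d) {a : ι} (h : ¬ Commute d (zc a)) :
    ∃ w, IsD X w ∧ ¬ Commute w (zc a) ∧ w * zc a * w = d := by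
  obtain ⟨k, hk⟩ := hX.odd_order hd h
  set z : Sp ι F := zc a with hz
  set r : Sp ι F := z * d with hr
  have hzz : z * z = 1 := zc_mul_self a
  have hrN : r ^ (2 * k + 1) = 1 := hk ▸ pow_orderOf_eq_one r
  have hzr : z * r * z = r⁻¹ := by
    rw [hr, _root_.mul_inv_rev, hd.inv, hz, zc_inv, ← hz, show z * (z * d) * z = (z * z) * (d * z) by group,
      hzz, one_mul]
  have hzrp : ∀ n : ℕ, z * r ^ n = (r ^ n)⁻¹ * z := fun n => by
    have h1 : z * r ^ n * z⁻¹ = (r ^ n)⁻¹ := by
      rw [← conj_pow, hz, zc_inv, ← hz, hzr, inv_pow]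
    exact mul_inv_eq_iff_eq_mul.1 h1
  refine ⟨z * r ^ (k + 1), ?_, ?_, ?_⟩
  · have hrX : r ∈ X := mul_mem (hX.toSetup.zc_mem a) (hd.mem hX.toSetup)
    have := (isD_zc (X := X) a).conj (inv_mem (pow_mem hrX ((k + 1) * (k + 1))))
    rw [inv_inv, ← hz, ← hzrp, mul_assoc, ← pow_add] at this
    have e : (k + 1) * (k + 1) + (k + 1) * (k + 1) = (2 * k + 1) * (k + 1) + (k + 1) := by ring
    rwa [e, pow_add, pow_mul, hrN, one_pow, one_mul] at this
  · intro hc
    refine h ?_
    have hwd : z * r ^ (k + 1) * z * (z * r ^ (k + 1)) = d := by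
      rw [show z * r ^ (k + 1) * z * (z * r ^ (k + 1)) = z * r ^ (k + 1) * (z * z) * r ^ (k + 1) by group,
        hzz, mul_one, mul_assoc, ← pow_add, show k + 1 + (k + 1) = 2 * k + 1 + 1 by ring, pow_succ, hrN,
        one_mul, hr, ← mul_assoc, hzz, one_mul]
    rw [← hwd]
    exact (hc.mul_left (Commute.refl z)).mul_left hc
  · rw [show z * r ^ (k + 1) * z * (z * r ^ (k + 1)) = z * r ^ (k + 1) * (z * z) * r ^ (k + 1) by group,
      hzz, mul_one, mul_assoc, ← pow_add, show k + 1 + (k + 1) = 2 * k + 1 + 1 by ring, pow_succ, hrN,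
      one_mul, hr, ← mul_assoc, hzz, one_mul]

end Ctx

end

end Cfsg.Lib.Linear.Pronormal.SpPlanes
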