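import Cfsg.Agent.Lib.Linear.Pronormal.Sp.Two

/-!
# The hypothesis forces monomial matrices

The centraliser of a sign change, and of a product of two, restricts to smaller sums of planes.
-/

set_option autoImplicit false
set_option linter.unusedSectionVars false

namespace Cfsg.Lib.Linear.Pronormal.SpPlanes

open Matrix Finset
open scoped MatrixGroups

universe u

variable {ι : Type u} [Fintype ι] [DecidableEq ι] {F : Type*} [Field F] [NeZero (2 : F)]
variable (p : ι → Prop) [DecidablePred p]

/-- The elements not mixing the planes inside and outside of `p`. -/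
def Spl : Subgroup (Sp ι F) where
  carrier := {x | ∀ r s, ¬ (p r ↔ p s) → mx x r s = 0}
  one_mem' r s h := Matrix.one_apply_ne fun e => h (by rw [e])
  mul_mem' {x y} hx hy r s h := by
    rw [mx_mul, Matrix.mul_apply]
    refine Finset.sum_eq_zero fun k _ => ?_
    by_cases hk : p r ↔ p k
    · rw [hy k s (fun h' => h (hk.trans h')), mul_zero]
    · rw [hx r k hk, zero_mul]
  inv_mem' {x} hx r s h := by
    rw [mx_inv, adjT_apply, hx s r (fun h' => h h'.symm), adjugate_zero]

theorem mem_spl {x : Sp ι F} : x ∈ Spl p ↔ ∀ r s, ¬ (p r ↔ p s) → mx x r s = 0 := Iff.rfl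

theorem submatrix_mul_of_spl (M N : BM ι F) (h : ∀ r s, ¬ (p r ↔ p s) → M r s = 0) :
    (M * N).submatrix (Subtype.val : {c // p c} → ι) (Subtype.val : {c // p c} → ι) =
      M.submatrix (Subtype.val : {c // p c} → ι) (Subtype.val : {c // p c} → ι) *
        N.submatrix (Subtype.val : {c // p c} → ι) (Subtype.val : {c // p c} → ι) := by
  ext1 r s
  rw [Matrix.submatrix_apply, Matrix.mul_apply, Matrix.mul_apply]
  simp only [Matrix.submatrix_apply]
  rw [← Finset.sum_subtype (Finset.univ.filter p) (by simp) (fun k => M r k * N k s)]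
  refine (Finset.sum_subset (Finset.filter_subset _ _) fun k _ hk => ?_).symm
  rw [h r k (fun e => hk (by simpa using e.1 r.2)), zero_mul]

theorem adjT_submatrix {κ : Type*} [Fintype κ] [DecidableEq κ] (M : BM ι F) (f : κ → ι) :
    adjT (M.submatrix f f) = (adjT M).submatrix f f := rfl

/-- The restriction to the planes of `p`. -/
def res : (Spl p : Subgroup (Sp ι F)) →* Sp {c // p c} F where
  toFun x := ofMx ((mx (x : Sp ι F)).submatrix (Subtype.val : {c // p c} → ι) (Subtype.val : {c // p c} → ι))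
    (by
      rw [adjT_submatrix, ← submatrix_mul_of_spl p (adjT (mx (x : Sp ι F))), adjT_mul_mx,
        Matrix.submatrix_one _ Subtype.val_injective]
      intro r s h
      rw [adjT_apply, x.2 s r (fun h' => h h'.symm), adjugate_zero])
    (by
      rw [adjT_submatrix, ← submatrix_mul_of_spl p (mx (x : Sp ι F)) _ x.2, mx_mul_adjT,
        Matrix.submatrix_one _ Subtype.val_injective])
  map_one' := mx_injective (by simp [Matrix.submatrix_one _ Subtype.val_injective])
  map_mul' x y := mx_injective (by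
    rw [mx_ofMx, mx_mul, mx_ofMx, mx_ofMx, Subgroup.coe_mul, mx_mul, submatrix_mul_of_spl p _ _ x.2])

theorem mx_res (x : (Spl p : Subgroup (Sp ι F))) (r s : {c // p c}) :
    mx (res p x) r s = mx (x : Sp ι F) r s := rfl

theorem zc_mem_spl (c : ι) : (zc c : Sp ι F) ∈ Spl p := fun r s h => by
  rw [mx_zc, if_neg fun e => h (by rw [e])]

theorem one_mem_spl (c : ι) (g : SL(2, F)) : one c g ∈ Spl p := fun r s h => by
  rw [mx_one_apply, if_neg fun e => h (by rw [e])]

theorem res_one (c : {c // p c}) (g : SL(2, F)) : res p ⟨one (c : ι) g, one_mem_spl p c g⟩ = one c g := by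
  apply mx_injective
  ext1 r s
  rw [mx_res, mx_one_apply, mx_one_apply]
  simp only [Subtype.ext_iff]

theorem res_zc (c : {c // p c}) : res p ⟨(zc (c : ι) : Sp ι F), zc_mem_spl p c⟩ = zc c := by
  apply mx_injective
  ext1 r s
  rw [mx_res, mx_zc, mx_zc]
  simp only [Subtype.ext_iff]

theorem res_zc_of_not {c : ι} (hc : ¬ p c) : res p ⟨(zc c : Sp ι F), zc_mem_spl p c⟩ = 1 := by
  apply mx_injective
  ext1 r s
  rw [mx_res, mx_zc, mx_one, Matrix.one_apply, if_neg (fun e : (r : ι) = c => hc (e ▸ r.2))]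
  simp only [Subtype.ext_iff]

variable {p}

theorem conj_zc_of_res {x : Sp ι F} (hx : x ∈ Spl p) {c d : {c // p c}}
    (h : res p ⟨x, hx⟩ * zc c * (res p ⟨x, hx⟩)⁻¹ = zc d) : x * zc (c : ι) * x⁻¹ = zc (d : ι) := by
  refine conj_zc_of_col fun r hr => ?_
  by_cases hp : p r
  · exact col_of_conj_zc h ⟨r, hp⟩ (fun e => hr (congrArg Subtype.val e))
  · exact hx r c (fun e => hp (e.2 c.2))

theorem mem_mon_iff {κ : Type*} [Fintype κ] [DecidableEq κ] {x : Sp κ F} :
    x ∈ Mon κ F ↔ ∀ c, ∃ d, x * zc c * x⁻¹ = zc d := Iff.rfl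

theorem mon_of_res {x : Sp ι F} (hx : x ∈ Spl p) (hx' : x ∈ Spl fun c => ¬ p c)
    (h : res p ⟨x, hx⟩ ∈ Mon _ F) (h' : res (fun c => ¬ p c) ⟨x, hx'⟩ ∈ Mon _ F) : x ∈ Mon ι F := by
  intro c
  by_cases hc : p c
  · obtain ⟨d, hd⟩ := mem_mon_iff.1 h ⟨c, hc⟩
    have := conj_zc_of_res hx hd
    exact ⟨_, this⟩
  · obtain ⟨d, hd⟩ := mem_mon_iff.1 h' ⟨c, hc⟩
    have := conj_zc_of_res hx' hd
    exact ⟨_, this⟩

theorem spl_not {x : Sp ι F} (hx : x ∈ Spl p) : x ∈ Spl fun c => ¬ p c :=
  fun r s h => hx r s fun e => h (not_congr e)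

variable (p)

/-- The image of a subgroup in a smaller sum of planes. -/
def resSub (X : Subgroup (Sp ι F)) : Subgroup (Sp {c // p c} F) := (X.subgroupOf (Spl p)).map (res p)

variable {p}

variable [Finite F]

theorem Setup.restrict {X : Subgroup (Sp ι F)} {i j : SL(2, F)} (hS : Setup X i j) :
    Setup (resSub p X) i j where
  anti := hS.anti
  mem c := ⟨⟨⟨_, one_mem_spl p c i⟩, (hS.mem c).1, res_one p c i⟩, ⟨⟨_, one_mem_spl p c j⟩, (hS.mem c).2, res_one p c j⟩⟩
  fuse := by
    rintro _ ⟨⟨x, hx⟩, hxX, rfl⟩ c hm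
    set y : Sp ι F := x * zc (c : ι) * x⁻¹ with hy
    have hys : y ∈ Spl p := mul_mem (mul_mem hx (zc_mem_spl p _)) (inv_mem hx)
    have hry : res p ⟨y, hys⟩ = res p ⟨x, hx⟩ * zc c * (res p ⟨x, hx⟩)⁻¹ := by
      rw [← res_zc p c, ← map_inv, ← map_mul, ← map_mul]
      rfl
    have hym : y ∈ Mon ι F := by
      intro q
      by_cases hq : p q
      · rw [← hry] at hm
        obtain ⟨d, hd⟩ := mem_mon_iff.1 hm ⟨q, hq⟩
        have := conj_zc_of_res hys hd
        exact ⟨_, this⟩
      · refine ⟨q, ?_⟩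
        have hc : Commute y (zc q) := by
          rw [hy, conj_zc_eq_refl]
          exact commute_zc_of_eq_zero (nrm_col x c) (hx q c fun e => hq (e.2 c.2))
        rw [hc.eq, mul_inv_cancel_right]
    obtain ⟨d, hd⟩ := hS.fuse x hxX c hym
    rw [← hy] at hd
    rw [← hry]
    by_cases hdp : p d
    · exact ⟨⟨d, hdp⟩, by rw [← res_zc p ⟨d, hdp⟩]; exact congrArg _ (Subtype.ext hd)⟩
    · exfalso
      have h1 : res p ⟨y, hys⟩ = 1 := by rw [← res_zc_of_not p hdp]; exact congrArg _ (Subtype.ext hd)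
      rw [hry, mul_inv_eq_one, mul_eq_left] at h1
      exact zc_ne_one c h1

/-- The hypothesis forces monomial matrices. -/
theorem setup_le_mon {X : Subgroup (Sp ι F)} {i j : SL(2, F)} (hS : Setup X i j) : X ≤ Mon ι F := by
  suffices H : ∀ n, ∀ (ι : Type u) [Fintype ι] [DecidableEq ι], Fintype.card ι = n →
      ∀ X : Subgroup (Sp ι F), Setup X i j → X ≤ Mon ι F from H _ ι rfl X hS
  intro n
  induction n using Nat.strong_induction_on with
  | _ n ih =>
    intro ι _ _ hn X hS
    rcases Nat.lt_or_ge n 2 with h1 | h2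
    · intro x _ c
      haveI : Subsingleton ι := Fintype.card_le_one_iff_subsingleton.1 (by omega)
      exact ⟨c, conj_zc_of_col fun r hr => absurd (Subsingleton.elim r c) hr⟩
    rcases eq_or_lt_of_le h2 with h2 | h3
    · obtain ⟨a, b, hab, huniv⟩ := Finset.card_eq_two.1
        (show (Finset.univ : Finset ι).card = 2 by rw [Finset.card_univ]; omega)
      exact two_le_mon hS ⟨hab, fun c => by simpa [huniv] using Finset.mem_univ c⟩
    have split : ∀ p : ι → Prop, ∀ [DecidablePred p], (∃ c, p c) → (∃ c, ¬ p c) →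
        ∀ x ∈ X, x ∈ Spl p → x ∈ Mon ι F := by
      intro p _ ⟨c, hc⟩ ⟨d, hd⟩ x hx hxs
      refine mon_of_res hxs (spl_not hxs) ?_ ?_
      · exact ih _ (hn ▸ Fintype.card_subtype_lt hd) _ rfl _ hS.restrict ⟨⟨x, hxs⟩, hx, rfl⟩
      · exact ih _ (hn ▸ Fintype.card_subtype_lt (not_not.2 hc)) _ rfl _ hS.restrict
          ⟨⟨x, spl_not hxs⟩, hx, rfl⟩
    have hX : Ctx X i j :=
      { hS with
        one' := fun x hx c hc => by
          obtain ⟨d, hd⟩ := Fintype.exists_ne_of_one_lt_card (show 1 < Fintype.card ι by omega) c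
          refine split (· = c) ⟨c, rfl⟩ ⟨d, hd⟩ x hx fun r s h => ?_
          by_cases hr : r = c
          · subst hr; exact ((commute_zc_iff.1 hc) s (fun e => h (by simp [e]))).2
          · have hs : s = c := by by_contra hs; exact h (by simp [hr, hs])
            subst hs; exact ((commute_zc_iff.1 hc) r hr).1
        two' := fun x hx a b hab hc => by
          obtain ⟨d, -, hd⟩ := Finset.exists_mem_notMem_of_card_lt_card (s := ({a, b} : Finset ι))
            (t := Finset.univ) (by rw [Finset.card_univ, Finset.card_pair hab]; omega)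
          refine split (fun c => c = a ∨ c = b) ⟨a, Or.inl rfl⟩ ⟨d, by simpa using hd⟩ x hx fun r s h => ?_
          have h1 := congrFun (congrFun (congrArg mx (show x * zc a * zc b = zc a * (zc b * x) by
            rw [mul_assoc, hc.eq, mul_assoc])) r) s
          rw [mx_mul, mx_mul_zc, mx_mul, mx_mul_zc, mx_mul, mx_zc_mul, mx_mul, mx_zc_mul] at h1
          rw [not_iff] at h
          by_cases hra : r = a <;> by_cases hrb : r = b <;> by_cases hsa : s = a <;> by_cases hsb : s = b <;>
            simp [hra, hrb, hsa, hsb, hab, hab.symm] at h h1 ⊢ <;>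
            first
              | exact absurd (hra.symm.trans hrb) hab
              | exact absurd (hsa.symm.trans hsb) hab
              | exact eq_zero_of_neg_eq h1
              | exact eq_zero_of_neg_eq h1.symm }
    intro g hg c
    exact hX.frame_eq (hn ▸ h3) ⟨g, hg, c, rfl⟩

end Cfsg.Lib.Linear.Pronormal.SpPlanes
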