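import Cfsg.Agent.Lib.Linear.Pronormal.Sp.Block
import Cfsg.Agent.Lib.Linear.SylowLargeSp
import Cfsg.Agent.Lib.Linear.Pronormal.Good
import Cfsg.Agent.Lib.Linear.GLTwo
import Mathlib.Data.Matrix.Composition

/-!
# The symplectic group of blocks is the symplectic group, and the power of two in its order
-/

set_option autoImplicit false
set_option linter.unusedSectionVars false

namespace Cfsg.Lib.Linear.Pronormal.SpPlanes

open Matrix

variable (m : ℕ) (F : Type*) [Field F]

/-- A coordinate of a plane as a coordinate of the whole space. -/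
def pairIdx : Fin m × Fin 2 ≃ Fin m ⊕ Fin m where
  toFun x := if x.2 = 0 then Sum.inl x.1 else Sum.inr x.1
  invFun := Sum.elim (fun c => (c, 0)) (fun c => (c, 1))
  left_inv := by rintro ⟨c, t⟩; fin_cases t <;> rfl
  right_inv := by rintro (c | c) <;> rfl

/-- Blocks as a matrix. -/
def flat : BM (Fin m) F ≃+* Matrix (Fin m ⊕ Fin m) (Fin m ⊕ Fin m) F :=
  (Matrix.compRingEquiv (Fin m) (Fin 2) F).trans (Matrix.reindexAlgEquiv ℕ F (pairIdx m)).toRingEquiv

variable {m F}

theorem flat_apply (M : BM (Fin m) F) (p p' : Fin m ⊕ Fin m) :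
    flat m F M p p' =
      M ((pairIdx m).symm p).1 ((pairIdx m).symm p').1 ((pairIdx m).symm p).2 ((pairIdx m).symm p').2 := rfl

theorem flat_transpose (M : BM (Fin m) F) : (flat m F M)ᵀ = flat m F (Matrix.of fun c d => (M d c)ᵀ) := rfl

/-- The form on a plane. -/
def omega : M2 F := !![0, -1; 1, 0]

theorem flat_omega : flat m F (Matrix.diagonal fun _ => omega) = Matrix.J (Fin m) F := by
  ext p p'
  rcases p with c | c <;> rcases p' with d | d <;> by_cases h : c = d <;>
    simp [flat_apply, pairIdx, omega, Matrix.J, Matrix.one_apply, h, Matrix.diagonal]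

theorem adjugate_eq (B : M2 F) : adjugate B = omega * Bᵀ * (-omega) := by
  ext r s
  fin_cases r <;> fin_cases s <;>
    simp [omega, Matrix.adjugate_fin_two, Matrix.mul_apply, Fin.sum_univ_two, Matrix.vecMul, dotProduct]

theorem adjT_eq (M : BM (Fin m) F) :
    adjT M = Matrix.diagonal (fun _ => (omega : M2 F)) * (Matrix.of fun c d => (M d c)ᵀ) *
      Matrix.diagonal fun _ => (-omega : M2 F) := by
  ext1 c d
  rw [Matrix.mul_diagonal, Matrix.diagonal_mul, adjT_apply, adjugate_eq, Matrix.of_apply]

theorem omega_mul : (omega : M2 F) * (-omega) = 1 := by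
  ext r s
  fin_cases r <;> fin_cases s <;> simp [omega, Matrix.mul_apply, Fin.sum_univ_two]

theorem omega_mul' : (-omega : M2 F) * omega = 1 := by
  ext r s
  fin_cases r <;> fin_cases s <;> simp [omega, Matrix.mul_apply, Fin.sum_univ_two]

theorem symp_iff (M : BM (Fin m) F) :
    flat m F M ∈ Matrix.symplecticGroup (Fin m) F ↔ M * adjT M = 1 := by
  rw [SymplecticGroup.mem_iff, flat_transpose, ← flat_omega, ← map_mul, ← map_mul,
    EmbeddingLike.apply_eq_iff_eq, adjT_eq]
  have hD : Matrix.diagonal (fun _ : Fin m => (omega : M2 F)) * Matrix.diagonal (fun _ => -omega) = 1 := by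
    rw [Matrix.diagonal_mul_diagonal]
    simp only [omega_mul, Matrix.diagonal_one]
  have hD' : Matrix.diagonal (fun _ : Fin m => (-omega : M2 F)) * Matrix.diagonal (fun _ => omega) = 1 := by
    rw [Matrix.diagonal_mul_diagonal]
    simp only [omega_mul', Matrix.diagonal_one]
  constructor
  · intro h
    rw [← mul_assoc, ← mul_assoc, h, hD]
  · intro h
    rw [← mul_assoc, ← mul_assoc] at h
    have h2 := congrArg (fun X => X * Matrix.diagonal (fun _ : Fin m => (omega : M2 F))) h
    simp only [one_mul, mul_assoc, hD', mul_one] at h2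
    simpa [mul_assoc] using h2

theorem mul_eq_one_comm' {M N : BM (Fin m) F} (h : M * N = 1) : N * M = 1 := by
  apply (flat m F).injective
  rw [map_mul, map_one]
  exact mul_eq_one_comm.1 (by rw [← map_mul, h, map_one])

variable (m F)

/-- The symplectic group in blocks is the symplectic group. -/
def toSymp : Sp (Fin m) F ≃* Matrix.symplecticGroup (Fin m) F where
  toFun x := ⟨flat m F (mx x), (symp_iff _).2 (mx_mul_adjT x)⟩
  invFun A := ofMx ((flat m F).symm A.1)
    (mul_eq_one_comm' ((symp_iff _).1 (by rw [RingEquiv.apply_symm_apply]; exact A.2)))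
    ((symp_iff _).1 (by rw [RingEquiv.apply_symm_apply]; exact A.2))
  left_inv x := mx_injective (by simp)
  right_inv A := Subtype.ext (by simp)
  map_mul' x y := Subtype.ext (by simp [mx_mul])

theorem card_blockSp [Fintype F] :
    Nat.card (Sp (Fin m) F) =
      Fintype.card F ^ (m ^ 2) * ∏ i ∈ Finset.range m, ((Fintype.card F ^ 2) ^ (i + 1) - 1) := by
  rw [Nat.card_congr (toSymp m F).toEquiv]
  exact Cfsg.Agent.SylowLargeSp.card_sp rfl m

theorem padic_sq {q : ℕ} (hq : Odd q) (hq1 : 1 < q) (n : ℕ) (hn : n ≠ 0) :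
    padicValNat 2 ((q ^ 2) ^ n - 1) = padicValNat 2 (q ^ 2 - 1) + padicValNat 2 n := by
  have h1 := padic_even hq hq1 (i := 2 * n) (even_two_mul n) (by omega)
  have h2 := padic_even hq hq1 (i := 2) even_two (by omega)
  rw [padicValNat.mul (by norm_num) hn, padicValNat.self (by norm_num)] at h1
  rw [padicValNat.self (by norm_num)] at h2
  rw [← pow_mul]
  omega

/-- The power of two in the order of the symplectic group. -/
theorem factorization_card_blockSp [Fintype F] (hq : Odd (Fintype.card F)) :
    (Nat.card (Sp (Fin m) F)).factorization 2 =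
      m * (Nat.card (Matrix.SpecialLinearGroup (Fin 2) F)).factorization 2 +
        (Nat.factorial m).factorization 2 := by
  set q := Fintype.card F with hq'
  have hq1 : 1 < q := Fintype.one_lt_card
  have hne : ∀ i, (q ^ 2) ^ (i + 1) - 1 ≠ 0 := fun i => by
    have : 1 < (q ^ 2) ^ (i + 1) := Nat.one_lt_pow (by omega) (Nat.one_lt_pow two_ne_zero hq1)
    omega
  have hqv : ∀ n, (q ^ n).factorization 2 = 0 := fun n => by
    refine Nat.factorization_eq_zero_of_not_dvd fun h => ?_
    have h2 := Nat.Prime.dvd_of_dvd_pow Nat.prime_two h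
    rw [Nat.odd_iff] at hq; omega
  have h3 : q ^ 2 - 1 ≠ 0 := by simpa using hne 0
  have hsl : (Nat.card (Matrix.SpecialLinearGroup (Fin 2) F)).factorization 2 = padicValNat 2 (q ^ 2 - 1) := by
    rw [Cfsg.Lib.Linear.Two.card_SL_two, ← hq', Nat.factorization_mul (by omega) h3, Finsupp.add_apply]
    have := hqv 1
    rw [pow_one] at this
    rw [this, zero_add, Nat.factorization_def _ Nat.prime_two]
  have hsum : ∀ k, (∏ i ∈ Finset.range k, ((q ^ 2) ^ (i + 1) - 1)).factorization 2 =
      k * padicValNat 2 (q ^ 2 - 1) + (Nat.factorial k).factorization 2 := by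
    intro k
    induction k with
    | zero => simp
    | succ k ih =>
      rw [Finset.prod_range_succ, Nat.factorization_mul (Finset.prod_ne_zero_iff.2 fun i _ => hne i) (hne k),
        Finsupp.add_apply, ih, Nat.factorization_def _ Nat.prime_two, Nat.factorization_def _ Nat.prime_two,
        padic_sq hq hq1 _ (by omega), Nat.factorial_succ, Nat.factorization_def _ Nat.prime_two,
        padicValNat.mul (by omega) (Nat.factorial_ne_zero k)]
      ring
  rw [card_blockSp, Nat.factorization_mul (pow_ne_zero _ (by omega)) (Finset.prod_ne_zero_iff.2 fun i _ => hne i),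
    Finsupp.add_apply, hqv, zero_add, hsl, hsum]

end Cfsg.Lib.Linear.Pronormal.SpPlanes
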