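import Cfsg.Agent.Lib.Linear.Pronormal.Sp.Reduce

/-!
# Subgroups of odd index of a product of symplectic groups are pronormal
-/

set_option autoImplicit false
set_option linter.unusedSectionVars false
set_option linter.style.haveILetI false
set_option maxHeartbeats 1000000

namespace Cfsg.Lib.Linear.Pronormal.SpPlanes

open Matrix
open scoped MatrixGroups

variable {t : ℕ} {m : Fin t → ℕ} {F : Fin t → Type*} [∀ i, Field (F i)] [∀ i, NeZero (2 : F i)]
  [∀ i, Finite (F i)]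
variable {Q : ∀ i, Sylow 2 SL(2, F i)} {T : ∀ i, Sylow 2 (Equiv.Perm (Fin (m i)))}

/-- The product of the monomial Sylow subgroups. -/
def PT (Q : ∀ i, Sylow 2 SL(2, F i)) (T : ∀ i, Sylow 2 (Equiv.Perm (Fin (m i)))) :
    Subgroup (∀ i, Sp (Fin (m i)) (F i)) :=
  Subgroup.pi Set.univ fun i => PP (Q i) (T i)

theorem single_mem_PT {i : Fin t} {x : Sp (Fin (m i)) (F i)} (hx : x ∈ PP (Q i) (T i)) :
    (Pi.mulSingle i x : ∀ i, Sp (Fin (m i)) (F i)) ∈ PT Q T := by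
  intro j _
  by_cases h : j = i
  · subst h; simpa using hx
  · simp [h, one_mem]

theorem card_PT (Q : ∀ i, Sylow 2 SL(2, F i)) (T : ∀ i, Sylow 2 (Equiv.Perm (Fin (m i)))) :
    Nat.card (PT Q T) = 2 ^ (Nat.card (∀ i, Sp (Fin (m i)) (F i))).factorization 2 := by
  let e : PT Q T ≃ ∀ i, PP (Q i) (T i) :=
    { toFun := fun x i => ⟨x.1 i, x.2 i (Set.mem_univ i)⟩
      invFun := fun x => ⟨fun i => (x i).1, fun i _ => (x i).2⟩
      left_inv := fun x => rfl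
      right_inv := fun x => rfl }
  rw [Nat.card_congr e, Nat.card_pi, Nat.card_pi, Finset.prod_congr rfl fun i _ => card_PP_eq (Q i) (T i),
    Finset.prod_pow_eq_pow_sum, Nat.factorization_prod fun i _ => Nat.card_pos.ne', Finsupp.finsetSum_apply]

section

variable {H : Subgroup (∀ i, Sp (Fin (m i)) (F i))}

/-- The part of a generated subgroup inside one factor. -/
def KK (H : Subgroup (∀ i, Sp (Fin (m i)) (F i))) (g : ∀ i, Sp (Fin (m i)) (F i)) (i : Fin t) :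
    Subgroup (Sp (Fin (m i)) (F i)) :=
  (JJ H g).comap (MonoidHom.mulSingle (fun i => Sp (Fin (m i)) (F i)) i)

/-- The constant diagonal element. -/
noncomputable def cd (α : ∀ i, SL(2, F i)) : ∀ i, Sp (Fin (m i)) (F i) := fun i => dg fun _ => α i

theorem le_mon_of_KK (hm : ∀ i, ∃ k : ℕ, m i = 2 ^ k) (hPH : PT Q T ≤ H) {g : ∀ i, Sp (Fin (m i)) (F i)} {i : Fin t}
    (hK : KK H g i ≤ Mon (Fin (m i)) (F i)) {h : ∀ i, Sp (Fin (m i)) (F i)} (hh : h ∈ H) :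
    h i ∈ Mon (Fin (m i)) (F i) := by
  classical
  haveI : Fact (Nat.Prime 2) := ⟨Nat.prime_two⟩
  set K := KK H g i with hKdef
  have hPK : PP (Q i) (T i) ≤ K := fun x hx => mem_JJ_left (hPH (single_mem_PT hx))
  have hconj : ∀ x ∈ PP (Q i) (T i), h i * x * (h i)⁻¹ ∈ K := fun x hx => by
    show Pi.mulSingle i (h i * x * (h i)⁻¹) ∈ JJ H g
    have e : (Pi.mulSingle i (h i * x * (h i)⁻¹) : ∀ i, Sp (Fin (m i)) (F i)) = h * Pi.mulSingle i x * h⁻¹ := by
      funext j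
      by_cases hj : j = i
      · subst hj; simp
      · simp [hj]
    rw [e]
    exact mem_JJ_left (H.mul_mem (H.mul_mem hh (hPH (single_mem_PT hx))) (H.inv_mem hh))
  set P : Sylow 2 (Sp (Fin (m i)) (F i)) := Sylow.ofCard (PP (Q i) (T i)) (card_PP_eq (Q i) (T i)) with hP
  have hPle : (P : Subgroup (Sp (Fin (m i)) (F i))) ≤ K := by rw [hP, Sylow.coe_ofCard]; exact hPK
  have hA : IsPGroup 2 (((PP (Q i) (T i)).map (MulAut.conj (h i)).toMonoidHom).subgroupOf K) :=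
    ((IsPGroup.of_card (p := 2) (card_PP_eq (Q i) (T i))).map _).comap_subtype
  obtain ⟨S₁, hS₁⟩ := hA.exists_le_sylow
  obtain ⟨w, hw⟩ := MulAction.exists_smul_eq K S₁ (P.subtype hPle)
  have hN : (w : Sp (Fin (m i)) (F i)) * h i ∈ Subgroup.normalizer (PP (Q i) (T i) : Set (Sp (Fin (m i)) (F i))) := by
    refine Subgroup.mem_normalizer_fintype fun x hx => ?_
    have h1 : w * ⟨h i * x * (h i)⁻¹, hconj x hx⟩ * w⁻¹ ∈ (P.subtype hPle : Subgroup K) := by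
      rw [← hw]
      exact Subgroup.mem_map_of_mem (MulAut.conj w).toMonoidHom (hS₁ ⟨x, hx, rfl⟩)
    rw [Sylow.coe_subtype, Subgroup.mem_subgroupOf, hP, Sylow.coe_ofCard] at h1
    show (w : Sp (Fin (m i)) (F i)) * h i * x * ((w : Sp (Fin (m i)) (F i)) * h i)⁻¹ ∈ PP (Q i) (T i)
    rw [show (w : Sp (Fin (m i)) (F i)) * h i * x * ((w : Sp (Fin (m i)) (F i)) * h i)⁻¹ =
      (w : Sp (Fin (m i)) (F i)) * (h i * x * (h i)⁻¹) * (w : Sp (Fin (m i)) (F i))⁻¹ by group]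
    exact h1
  obtain ⟨k, hk⟩ := hm i
  obtain ⟨α, -, p, hp, e⟩ := exists_const_of_normalizer hk hN
  have h2 : h i = (w : Sp (Fin (m i)) (F i))⁻¹ * (dg (fun _ => α) * p) := by rw [← e, inv_mul_cancel_left]
  rw [h2]
  exact mul_mem (inv_mem (hK w.2)) (mul_mem (dg_mem_mon _) (PP_le_mon hp))

/-- The constants over a set of factors where the generated subgroup is monomial. -/
theorem pro_const_mon (hm : ∀ i, ∃ k : ℕ, m i = 2 ^ k) (hPH : PT Q T ≤ H) (α : ∀ i, SL(2, F i))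
    (hN : ∀ i, α i ∈ Subgroup.normalizer ((Q i : Subgroup SL(2, F i)) : Set SL(2, F i)))
    (hK : ∀ i, α i ≠ 1 → KK H (cd α) i ≤ Mon (Fin (m i)) (F i)) : Pro H (cd α) := by
  classical
  haveI : Fact (Nat.Prime 2) := ⟨Nat.prime_two⟩
  set I := {i : Fin t // α i ≠ 1} with hI
  let κ := Σ i : I, Fin (m i.1)
  let Ψ : (∀ c : κ, SL(2, F c.1.1)) →* (∀ i, Sp (Fin (m i)) (F i)) :=
    { toFun := fun f i => if hi : α i ≠ 1 then dg (fun r => f ⟨⟨i, hi⟩, r⟩) else 1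
      map_one' := by funext i; simp only [Pi.one_apply]; split_ifs <;> simp [← Pi.one_def]
      map_mul' := fun f f' => by
        funext i
        simp only [Pi.mul_apply]
        split_ifs
        · rw [← map_mul]; rfl
        · rw [one_mul] }
  have hΨI : ∀ f i (hi : α i ≠ 1), Ψ f i = dg (fun r => f ⟨⟨i, hi⟩, r⟩) := fun f i hi => dif_pos hi
  have hΨO : ∀ f i, ¬ α i ≠ 1 → Ψ f i = 1 := fun f i hi => dif_neg hi
  have hΨinj : Function.Injective Ψ := by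
    intro f f' e
    funext c
    obtain ⟨⟨i, hi⟩, r⟩ := c
    have h1 := congrFun e i
    rw [hΨI f i hi, hΨI f' i hi] at h1
    exact congrFun (dg_injective h1) r
  let QK : ∀ c : κ, Sylow 2 SL(2, F c.1.1) := fun c => Q c.1.1
  set L := H.comap Ψ with hL
  have hQL : ∀ f : ∀ c : κ, SL(2, F c.1.1), (∀ c, f c ∈ QK c) → f ∈ L := by
    intro f hf
    refine hPH fun i _ => ?_
    by_cases hi : α i ≠ 1
    · rw [hΨI f i hi]; exact dg_mem_PP fun r => hf ⟨⟨i, hi⟩, r⟩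
    · rw [hΨO f i hi]; exact (PP (Q i) (T i)).one_mem
  let a : ∀ c : κ, SL(2, F c.1.1) := fun c => α c.1.1
  have hΨa : Ψ a = cd α := by
    funext i
    by_cases hi : α i ≠ 1
    · rw [hΨI a i hi]; rfl
    · rw [hΨO a i hi]
      push Not at hi
      show 1 = dg (fun _ : Fin (m i) => α i)
      rw [hi]
      exact (map_one dg).symm
  obtain ⟨y, hy, hcomp, hnorm⟩ := exists_normalising (fun c : κ => F c.1.1) QK L hQL a fun c => hN c.1.1
  set g' := y⁻¹ * a with hg'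
  -- reduce to an element normalising `L`
  have hyJ : (Ψ y)⁻¹ ∈ JJ H (cd α) := by
    refine inv_mem ?_
    have hle : L ⊔ L.map (MulAut.conj a).toMonoidHom ≤ (JJ H (cd α)).comap Ψ := by
      refine sup_le (fun f hf => mem_JJ_left hf) ?_
      rintro _ ⟨f, hf, rfl⟩
      rw [Subgroup.mem_comap, MulEquiv.coe_toMonoidHom, MulAut.conj_apply, map_mul, map_mul, map_inv, hΨa]
      exact mem_JJ_conj hf
    exact hle hy
  refine Pro.of_mul hyJ ?_
  rw [show (Ψ y)⁻¹ * cd α = Ψ g' by rw [hg', map_mul, map_inv, hΨa]]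
  have hJle : JJ H (Ψ g') ≤ JJ H (cd α) := by
    have := JJ_mono hyJ
    rwa [show (Ψ y)⁻¹ * cd α = Ψ g' by rw [hg', map_mul, map_inv, hΨa]] at this
  have hmonH : ∀ h ∈ H, ∀ i, α i ≠ 1 → h i ∈ Mon (Fin (m i)) (F i) := fun h hh i hi =>
    le_mon_of_KK hm hPH (hK i hi) hh
  -- elements normalising the base part
  set LB := L.map Ψ with hLB
  have hLBH : LB ≤ H := Subgroup.map_comap_le _ _
  have hHn : H ≤ Subgroup.normalizer (LB : Set (∀ i, Sp (Fin (m i)) (F i))) := by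
    refine fun h hh => Subgroup.mem_normalizer_fintype ?_
    rintro _ ⟨f, hf, rfl⟩
    have hmem : h * Ψ f * h⁻¹ ∈ H := H.mul_mem (H.mul_mem hh hf) (H.inv_mem hh)
    have hex : ∀ i (hi : α i ≠ 1), ∃ u : Fin (m i) → SL(2, F i), (h * Ψ f * h⁻¹) i = dg u := by
      intro i hi
      obtain ⟨u, π, hu⟩ : ∃ (u : Fin (m i) → SL(2, F i)) (π : Equiv.Perm (Fin (m i))), h i = dg u * pm π := by
        obtain ⟨u, hu⟩ := exists_eq_dg_pm ⟨h i, hmonH h hh i hi⟩
        exact ⟨u, _, hu⟩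
      refine ⟨fun r => u r * f ⟨⟨i, hi⟩, π⁻¹ r⟩ * (u r)⁻¹, ?_⟩
      rw [Pi.mul_apply, Pi.mul_apply, Pi.inv_apply, hΨI f i hi, hu, conj_dg_pm]
    choose u hu using hex
    refine ⟨fun c => u c.1.1 c.1.2 c.2, ?_, ?_⟩
    · have e : Ψ (fun c => u c.1.1 c.1.2 c.2) = h * Ψ f * h⁻¹ := by
        funext i
        by_cases hi : α i ≠ 1
        · rw [hΨI _ i hi, hu i hi]
        · rw [hΨO _ i hi, Pi.mul_apply, Pi.mul_apply, Pi.inv_apply, hΨO f i hi, mul_one, mul_inv_cancel]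
      show Ψ _ ∈ H
      rw [e]; exact hmem
    · funext i
      by_cases hi : α i ≠ 1
      · rw [hΨI _ i hi, hu i hi]
      · rw [hΨO _ i hi, Pi.mul_apply, Pi.mul_apply, Pi.inv_apply, hΨO f i hi, mul_one, mul_inv_cancel]
  have hgn : Ψ g' ∈ Subgroup.normalizer (LB : Set (∀ i, Sp (Fin (m i)) (F i))) := by
    refine Subgroup.mem_normalizer_fintype ?_
    rintro _ ⟨f, hf, rfl⟩
    exact ⟨g' * f * g'⁻¹, hnorm f hf, by rw [map_mul, map_mul, map_inv]⟩
  set NJ := JJ H (Ψ g') ⊓ Subgroup.normalizer (LB : Set (∀ i, Sp (Fin (m i)) (F i))) with hNJ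
  -- the averaging element
  let ε : κ → ℤ := fun c => if g' c = a c then 1 else 0
  have hε : ∀ c : κ, g' c = α c.1.1 ^ ε c := by
    intro c
    simp only [ε]
    split_ifs with h
    · rw [_root_.zpow_one]; exact h
    · rcases hcomp c with e | e
      · rw [_root_.zpow_zero]; exact e
      · exact absurd e h
  let Sm : ∀ i, α i ≠ 1 → ℤ := fun i hi =>
    ∑ τ ∈ Finset.univ.filter (fun τ : Equiv.Perm (Fin (m i)) => τ ∈ T i),
      if hr : 0 < m i then ε ⟨⟨i, hi⟩, τ⁻¹ ⟨0, hr⟩⟩ else 0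
  let u : ∀ i, ℕ := fun i => (Finset.univ.filter (fun τ : Equiv.Perm (Fin (m i)) => τ ∈ T i)).card
  have hw : ∀ i (hi : α i ≠ 1),
      (Pi.mulSingle i (dg fun r => α i ^ ((u i : ℤ) * ε ⟨⟨i, hi⟩, r⟩ - Sm i hi)) : ∀ i, Sp (Fin (m i)) (F i)) ∈ NJ := by
    intro i hi
    let Φ : (Fin (m i) → Multiplicative ℤ) →* (∀ i, Sp (Fin (m i)) (F i)) :=
      (MonoidHom.mulSingle (fun i => Sp (Fin (m i)) (F i)) i).comp
        (dg.comp (MonoidHom.compLeft (zpowersHom SL(2, F i) (α i)) (Fin (m i))))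
    have hΦ : ∀ w, Φ w = Pi.mulSingle i (dg fun r => α i ^ Multiplicative.toAdd (w r)) := fun w => rfl
    let W : Equiv.Perm (Fin (m i)) → Fin (m i) → Multiplicative ℤ := fun τ r =>
      Multiplicative.ofAdd (ε ⟨⟨i, hi⟩, r⟩ - ε ⟨⟨i, hi⟩, τ⁻¹ r⟩)
    have hW : ∀ τ ∈ T i, Φ (W τ) ∈ NJ := by
      intro τ hτ
      set p : ∀ i, Sp (Fin (m i)) (F i) := Pi.mulSingle i (pm τ) with hp
      have hpH : p ∈ H := hPH (single_mem_PT (pm_mem_PP hτ))
      have h1 : Ψ g' * p * (Ψ g')⁻¹ * p⁻¹ ∈ NJ :=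
        ⟨(JJ H (Ψ g')).mul_mem (mem_JJ_conj hpH) (mem_JJ_left (H.inv_mem hpH)),
          Subgroup.mul_mem _ (Subgroup.mul_mem _ (Subgroup.mul_mem _ hgn (hHn hpH)) (Subgroup.inv_mem _ hgn)) (Subgroup.inv_mem _ (hHn hpH))⟩
      convert h1 using 1
      rw [hΦ]
      funext j
      by_cases hj : j = i
      · subst hj
        simp only [hp, Pi.mul_apply, Pi.inv_apply, Pi.mulSingle_eq_same]
        rw [hΨI g' j hi, mul_assoc _ (pm τ), ← map_inv dg, pm_mul_dg, ← mul_assoc, ← map_mul, mul_inv_cancel_right]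
        congr 1
        funext r
        simp only [W, toAdd_ofAdd, Pi.mul_apply, Pi.inv_apply, hε]
        rw [_root_.zpow_sub]
      · simp [hp, hj]
    have hprod : Φ (∏ τ ∈ Finset.univ.filter (fun τ : Equiv.Perm (Fin (m i)) => τ ∈ T i), W τ) ∈ NJ := by
      have : (∏ τ ∈ Finset.univ.filter (fun τ : Equiv.Perm (Fin (m i)) => τ ∈ T i), W τ) ∈ NJ.comap Φ :=
        Subgroup.prod_mem _ fun τ hτ => hW τ (Finset.mem_filter.1 hτ).2
      exact this
    rw [hΦ] at hprod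
    convert hprod using 4 with r
    rw [Finset.prod_apply, toAdd_prod]
    simp only [W, toAdd_ofAdd, Finset.sum_sub_distrib, Finset.sum_const, nsmul_eq_mul, u, Sm]
    have hpos : 0 < m i := Fin.pos r
    simp only [dif_pos hpos]
    congr 2
    obtain ⟨k, hk⟩ := hm i
    obtain ⟨π, hπ, hπr⟩ := sylow_transitive hk (T i) ⟨0, hpos⟩ r
    refine Finset.sum_bij' (fun τ _ => π * τ) (fun τ _ => π⁻¹ * τ) ?_ ?_ ?_ ?_ ?_
    · intro τ hτ
      simp only [Finset.mem_filter, Finset.mem_univ, true_and] at hτ ⊢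
      exact mul_mem hπ hτ
    · intro τ hτ
      simp only [Finset.mem_filter, Finset.mem_univ, true_and] at hτ ⊢
      exact mul_mem (inv_mem hπ) hτ
    · intro τ _; simp
    · intro τ _; simp
    · intro τ _
      rw [_root_.mul_inv_rev, Equiv.Perm.mul_apply, show π⁻¹ r = ⟨0, hpos⟩ by rw [← hπr]; simp]
  -- its correction
  have hu2 : ∀ i, ∃ e : ℕ, u i = 2 ^ e := fun i => by
    obtain ⟨e, he⟩ := (IsPGroup.iff_card).1 (T i).2
    refine ⟨e, ?_⟩
    rw [← he, Nat.card_eq_fintype_card]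
    exact (Fintype.card_subtype _).symm
  let z : ∀ i, Sp (Fin (m i)) (F i) := fun i =>
    if hi : α i ≠ 1 then dg (fun r => α i ^ (-(u i : ℤ) * ((u i : ℤ) * ε ⟨⟨i, hi⟩, r⟩ - Sm i hi))) else 1
  have hz : z ∈ NJ := by
    refine Subgroup.pi_mem_of_mulSingle_mem z fun i => ?_
    by_cases hi : α i ≠ 1
    · have h1 := zpow_mem (hw i hi) (-(u i : ℤ))
      have h2 : MonoidHom.mulSingle (fun i => ↥(Sp (Fin (m i)) (F i))) i
          ((dg fun r => α i ^ ((u i : ℤ) * ε ⟨⟨i, hi⟩, r⟩ - Sm i hi)) ^ (-(u i : ℤ))) ∈ NJ := by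
        rw [map_zpow]
        exact h1
      rw [← map_zpow] at h2
      convert h2 using 1
      simp only [z, dif_pos hi, MonoidHom.mulSingle_apply]
      congr 2
      funext r
      rw [Pi.pow_apply, ← _root_.zpow_mul, mul_comm]
    · simp only [z, dif_neg hi, Pi.mulSingle_one]
      exact one_mem _
  refine Pro.of_mul hz.1 ?_
  let β : ∀ i, SL(2, F i) := fun i => if hi : α i ≠ 1 then α i ^ ((u i : ℤ) * Sm i hi) else 1
  let q : ∀ c : κ, SL(2, F c.1.1) := fun c => α c.1.1 ^ ((1 - (u c.1.1 : ℤ) * u c.1.1) * ε c)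
  let bb : ∀ c : κ, SL(2, F c.1.1) := fun c => β c.1.1
  have hzg : z * Ψ g' = Ψ bb * Ψ q := by
    funext i
    by_cases hi : α i ≠ 1
    · rw [Pi.mul_apply, Pi.mul_apply, hΨI g' i hi, hΨI bb i hi, hΨI q i hi]
      simp only [z, dif_pos hi]
      rw [← map_mul, ← map_mul]
      congr 1
      funext r
      simp only [Pi.mul_apply, hε, bb, β, q, dif_pos hi]
      rw [← _root_.zpow_add, ← _root_.zpow_add]
      congr 1
      ring
    · rw [Pi.mul_apply, Pi.mul_apply, hΨO g' i hi, hΨO bb i hi, hΨO q i hi]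
      simp only [z, dif_neg hi]
  have hqQ : ∀ c, q c ∈ QK c := by
    intro c
    obtain ⟨e, he⟩ := hu2 c.1.1
    obtain ⟨v, hv⟩ : (3 : ℤ) ∣ (1 - (u c.1.1 : ℤ) * u c.1.1) := by
      rw [he]
      push_cast
      rw [← mul_pow, show (2 : ℤ) * 2 = 4 by norm_num]
      have := sub_dvd_pow_sub_pow (4 : ℤ) 1 e
      rw [one_pow, show (4 : ℤ) - 1 = 3 by norm_num] at this
      exact dvd_sub_comm.1 this
    show α c.1.1 ^ _ ∈ Q c.1.1
    rw [hv, mul_assoc, _root_.zpow_mul]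
    refine zpow_mem ?_ _
    rw [show (3 : ℤ) = ((3 : ℕ) : ℤ) from rfl, zpow_natCast]
    exact nq_pow_three (hN c.1.1)
  have hqH : Ψ q ∈ H := hQL q hqQ
  rw [hzg]
  refine Pro.mul_right hqH (Pro.of_normalizes fun h hh => ?_)
  -- the constant normalises `H`
  have hbn : Ψ bb ∈ Subgroup.normalizer (LB : Set (∀ i, Sp (Fin (m i)) (F i))) := by
    rw [show Ψ bb = z * Ψ g' * (Ψ q)⁻¹ by rw [hzg, mul_inv_cancel_right]]
    exact mul_mem (mul_mem hz.2 hgn) (inv_mem (hHn hqH))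
  have hbN : ∀ c : κ, bb c ∈ Subgroup.normalizer ((QK c : Subgroup SL(2, F c.1.1)) : Set SL(2, F c.1.1)) := fun c => by
    simp only [bb, β]
    split_ifs
    · exact zpow_mem (hN c.1.1) _
    · exact one_mem _
  -- Frattini for the base part
  let PQ : Subgroup (∀ c : κ, SL(2, F c.1.1)) := Subgroup.pi Set.univ fun c => (QK c : Subgroup SL(2, F c.1.1))
  have hPQL : PQ ≤ L := fun f hf => hQL f fun c => hf c (Set.mem_univ c)
  have hPQc : Nat.card PQ = 2 ^ (Nat.card (∀ c : κ, SL(2, F c.1.1))).factorization 2 := by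
    let e : PQ ≃ ∀ c : κ, (QK c : Subgroup SL(2, F c.1.1)) :=
      { toFun := fun x c => ⟨x.1 c, x.2 c (Set.mem_univ c)⟩
        invFun := fun x => ⟨fun c => (x c).1, fun c _ => (x c).2⟩
        left_inv := fun x => rfl
        right_inv := fun x => rfl }
    rw [Nat.card_congr e, Nat.card_pi, Nat.card_pi, Finset.prod_congr rfl fun c _ => (QK c).card_eq_multiplicity,
      Finset.prod_pow_eq_pow_sum, Nat.factorization_prod fun c _ => Nat.card_pos.ne', Finsupp.finsetSum_apply]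
  set PS : Sylow 2 (∀ c : κ, SL(2, F c.1.1)) := Sylow.ofCard PQ hPQc with hPS
  have hPSle : (PS : Subgroup (∀ c : κ, SL(2, F c.1.1))) ≤ L := by rw [hPS, Sylow.coe_ofCard]; exact hPQL
  have hA : IsPGroup 2 ((((PQ.map Ψ).map (MulAut.conj h).toMonoidHom).comap Ψ).subgroupOf L) :=
    ((((IsPGroup.of_card hPQc).map Ψ).map _).comap_of_injective Ψ hΨinj).comap_subtype
  obtain ⟨S₁, hS₁⟩ := hA.exists_le_sylow
  obtain ⟨ℓ, hℓ⟩ := MulAction.exists_smul_eq L S₁ (PS.subtype hPSle)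
  have hh' : ∀ f, (∀ c, f c ∈ QK c) →
      ∃ f', (∀ c, f' c ∈ QK c) ∧ (Ψ ℓ * h) * Ψ f * (Ψ ℓ * h)⁻¹ = Ψ f' := by
    intro f hf
    obtain ⟨w, hw, hwe⟩ : h * Ψ f * h⁻¹ ∈ LB :=
      (Subgroup.mem_normalizer_iff.1 (hHn hh) (Ψ f)).1 ⟨f, hQL f hf, rfl⟩
    refine ⟨(ℓ : ∀ c : κ, SL(2, F c.1.1)) * w * (ℓ : ∀ c : κ, SL(2, F c.1.1))⁻¹, ?_, ?_⟩
    · have hwA : (⟨w, hw⟩ : L) ∈ (((PQ.map Ψ).map (MulAut.conj h).toMonoidHom).comap Ψ).subgroupOf L := by
        refine ⟨Ψ f, ⟨f, fun c _ => hf c, rfl⟩, ?_⟩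
        exact hwe.symm
      have h1 : ℓ * ⟨w, hw⟩ * ℓ⁻¹ ∈ (PS.subtype hPSle : Subgroup L) := by
        rw [← hℓ]
        exact Subgroup.mem_map_of_mem (MulAut.conj ℓ).toMonoidHom (hS₁ hwA)
      rw [Sylow.coe_subtype, Subgroup.mem_subgroupOf, hPS, Sylow.coe_ofCard] at h1
      exact fun c => h1 c (Set.mem_univ c)
    · rw [map_mul, map_mul, map_inv, hwe]
      group
  set h' := Ψ ℓ * h with hh'def
  have hℓH : Ψ ℓ ∈ H := ℓ.2
  have hh'H : h' ∈ H := H.mul_mem hℓH hh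
  have hex : ∀ i (hi : α i ≠ 1), ∃ v : Fin (m i) → SL(2, F i),
      (∀ r, v r ∈ Subgroup.normalizer ((Q i : Subgroup SL(2, F i)) : Set SL(2, F i))) ∧
      ∃ π, h' i = dg v * pm π := by
    intro i hi
    obtain ⟨v, hv⟩ := exists_eq_dg_pm ⟨h' i, hmonH h' hh'H i hi⟩
    set π := permOf (⟨h' i, hmonH h' hh'H i hi⟩ : Mon (Fin (m i)) (F i))
    refine ⟨v, fun r => Subgroup.mem_normalizer_fintype fun x hx => ?_, π, hv⟩
    obtain ⟨f', hf', e⟩ := hh' (fun c => if hc : c = (⟨⟨i, hi⟩, π⁻¹ r⟩ : κ) then hc ▸ x else 1) fun c => by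
      by_cases hc : c = (⟨⟨i, hi⟩, π⁻¹ r⟩ : κ)
      · subst hc; rw [dif_pos rfl]; exact hx
      · rw [dif_neg hc]; exact one_mem _
    have e1 := congrFun e i
    rw [Pi.mul_apply, Pi.mul_apply, Pi.inv_apply, hΨI _ i hi, hΨI f' i hi, show h' i = dg v * pm π from hv,
      conj_dg_pm] at e1
    have e2 := congrFun (dg_injective e1) r
    simp only [dite_true] at e2
    show v r * x * (v r)⁻¹ ∈ (Q i : Subgroup SL(2, F i))
    rw [e2]
    exact hf' ⟨⟨i, hi⟩, r⟩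
  choose v hvN π hvπ using hex
  have hcomm : Ψ bb * h' * (Ψ bb)⁻¹ * h'⁻¹ = Ψ (fun c => bb c * v c.1.1 c.1.2 c.2 * (bb c)⁻¹ * (v c.1.1 c.1.2 c.2)⁻¹) := by
    funext i
    by_cases hi : α i ≠ 1
    · rw [Pi.mul_apply, Pi.mul_apply, Pi.mul_apply, Pi.inv_apply, Pi.inv_apply, hΨI bb i hi, hΨI _ i hi,
        hvπ i hi, ← map_inv dg, show ∀ w x y z : Sp (Fin (m i)) (F i), w * (x * y) * z * (x * y)⁻¹ =
          w * (x * y * z * (x * y)⁻¹) from fun w x y z => by group, conj_dg_pm, ← map_mul]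
      congr 1
      funext r
      simp only [Pi.mul_apply, Pi.inv_apply, bb, β, dif_pos hi]
      group
    · rw [Pi.mul_apply, Pi.mul_apply, Pi.mul_apply, Pi.inv_apply, Pi.inv_apply, hΨO bb i hi, hΨO _ i hi]
      group
  have h1 : Ψ bb * h' * (Ψ bb)⁻¹ ∈ H := by
    have h2 : Ψ bb * h' * (Ψ bb)⁻¹ * h'⁻¹ ∈ H := by
      rw [hcomm]
      exact hQL _ fun c => nq_comm (hbN c) (hvN c.1.1 c.1.2 c.2)
    have h3 := H.mul_mem h2 hh'H
    rwa [inv_mul_cancel_right] at h3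
  have h4 : Ψ bb * (Ψ ℓ)⁻¹ * (Ψ bb)⁻¹ ∈ H :=
    hLBH ((Subgroup.mem_normalizer_iff.1 hbn _).1 (LB.inv_mem ⟨ℓ, ℓ.2, rfl⟩))
  have h5 := H.mul_mem h4 h1
  rwa [show Ψ bb * (Ψ ℓ)⁻¹ * (Ψ bb)⁻¹ * (Ψ bb * h' * (Ψ bb)⁻¹) = Ψ bb * h * (Ψ bb)⁻¹ by rw [hh'def]; group] at h5

/-- Constants are conjugators. -/
theorem pro_const (hm : ∀ i, ∃ k : ℕ, m i = 2 ^ k) (hPH : PT Q T ≤ H) (α : ∀ i, SL(2, F i))
    (hN : ∀ i, α i ∈ Subgroup.normalizer ((Q i : Subgroup SL(2, F i)) : Set SL(2, F i))) : Pro H (cd α) := by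
  classical
  have hbad : ∀ i, α i ∉ Q i → ¬ KK H (cd α) i ≤ Mon (Fin (m i)) (F i) →
      ∃ γ : SL(2, F i), γ * α i ∈ Q i ∧ dg (fun _ : Fin (m i) => γ) ∈ KK H (cd α) i := by
    intro i hiQ hiK
    obtain ⟨k, hk⟩ := hm i
    have hne : Subgroup.normalizer ((Q i : Subgroup SL(2, F i)) : Set SL(2, F i)) ≠ Q i :=
      fun e => hiQ (e ▸ hN i : α i ∈ (Q i : Subgroup SL(2, F i)))
    obtain h | ⟨β, hβN, hβQ, hβK⟩ := le_mon_or_exists_const (T := T i) (K := KK H (cd α) i) hk hne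
      (fun x hx => mem_JJ_left (hPH (single_mem_PT hx)) : PP (Q i) (T i) ≤ KK H (cd α) i)
    · exact absurd h hiK
    · obtain ⟨l, hl⟩ := nq_generate (hN i) hβN hβQ
      refine ⟨β ^ l, hl, ?_⟩
      have := (KK H (cd α) i).pow_mem hβK l
      rwa [← map_pow] at this
  choose γ hγQ hγK using hbad
  let keep : ∀ i, Prop := fun i => α i ∉ Q i ∧ KK H (cd α) i ≤ Mon (Fin (m i)) (F i)
  let z : ∀ i, Sp (Fin (m i)) (F i) := fun i =>
    if hb : α i ∉ Q i ∧ ¬ KK H (cd α) i ≤ Mon (Fin (m i)) (F i) then dg (fun _ => γ i hb.1 hb.2) else 1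
  have hz : z ∈ JJ H (cd α) := by
    refine Subgroup.pi_mem_of_mulSingle_mem z fun i => ?_
    simp only [z]
    split_ifs with hb
    · exact hγK i hb.1 hb.2
    · rw [Pi.mulSingle_one]; exact one_mem _
  refine Pro.of_mul hz ?_
  let α' : ∀ i, SL(2, F i) := fun i => if keep i then α i else 1
  set p := (cd α' : ∀ i, Sp (Fin (m i)) (F i))⁻¹ * (z * cd α) with hp
  have hpP : p ∈ PT Q T := by
    intro i _
    show (dg (fun _ : Fin (m i) => α' i))⁻¹ * (z i * dg (fun _ : Fin (m i) => α i)) ∈ PP (Q i) (T i)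
    simp only [z, α', keep]
    by_cases hq : α i ∈ Q i
    · rw [if_neg (fun h => h.1 hq), dif_neg (fun h => h.1 hq), one_mul]
      exact mul_mem (inv_mem (dg_mem_PP fun _ => one_mem _)) (dg_mem_PP fun _ => hq)
    · by_cases hk : KK H (cd α) i ≤ Mon (Fin (m i)) (F i)
      · rw [if_pos ⟨hq, hk⟩, dif_neg (fun h => h.2 hk), one_mul, inv_mul_cancel]
        exact one_mem _
      · rw [if_neg (fun h => hk h.2), dif_pos ⟨hq, hk⟩, ← map_mul]
        exact mul_mem (inv_mem (dg_mem_PP fun _ => one_mem _)) (dg_mem_PP fun _ => hγQ i hq hk)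
  have e : z * cd α = cd α' * p := by rw [hp, mul_inv_cancel_left]
  rw [e]
  refine Pro.mul_right (hPH hpP) (pro_const_mon hm hPH α' (fun i => ?_) fun i hi => ?_)
  · simp only [α']; split_ifs
    · exact hN i
    · exact one_mem _
  · have hk : keep i := by
      by_contra hk
      exact hi (if_neg hk)
    refine le_trans (Subgroup.comap_mono ?_) hk.2
    have := JJ_mono hz
    rwa [e, JJ_mul_right (hPH hpP)] at this

/-- Subgroups of odd index of a product of symplectic groups on powers of two planes are pronormal. -/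
theorem pronormal_pi (hm : ∀ i, ∃ k : ℕ, m i = 2 ^ k) (hH : Odd H.index) : Cfsg.IsPronormal H := by
  classical
  haveI : Fact (Nat.Prime 2) := ⟨Nat.prime_two⟩
  have hQ : ∀ i, Nonempty (Sylow 2 SL(2, F i)) := fun i => inferInstance
  have hT : ∀ i, Nonempty (Sylow 2 (Equiv.Perm (Fin (m i)))) := fun i => inferInstance
  let Q : ∀ i, Sylow 2 SL(2, F i) := fun i => (hQ i).some
  let T : ∀ i, Sylow 2 (Equiv.Perm (Fin (m i))) := fun i => (hT i).some
  set P : Sylow 2 (∀ i, Sp (Fin (m i)) (F i)) := Sylow.ofCard (PT Q T) (card_PT Q T) with hP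
  obtain ⟨P', hP'⟩ := Cfsg.Lib.Linear.Pronormal.exists_sylow_le (p := 2) (H := H)
    (fun h => Nat.not_even_iff_odd.2 hH (even_iff_two_dvd.2 h))
  obtain ⟨g₀, hg₀⟩ := MulAction.exists_smul_eq (∀ i, Sp (Fin (m i)) (F i)) P' P
  refine Cfsg.Lib.Linear.Pronormal.pronormal_of_comap (MulAut.conj g₀⁻¹).toMonoidHom
    (MulAut.conj g₀⁻¹).surjective ?_
  set H' := H.comap (MulAut.conj g₀⁻¹).toMonoidHom with hH'
  have hPH : PT Q T ≤ H' := by
    intro x hx
    have hx' : x ∈ (P : Subgroup (∀ i, Sp (Fin (m i)) (F i))) := by rw [hP, Sylow.coe_ofCard]; exact hx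
    rw [← hg₀] at hx'
    obtain ⟨w, hw, rfl⟩ := hx'
    show g₀⁻¹ * (g₀ * w * g₀⁻¹) * g₀⁻¹⁻¹ ∈ H
    rw [show g₀⁻¹ * (g₀ * w * g₀⁻¹) * g₀⁻¹⁻¹ = w by group]
    exact hP' hw
  intro g
  show Pro H' g
  have hPJ : (P : Subgroup (∀ i, Sp (Fin (m i)) (F i))) ≤ JJ H' g := by
    rw [hP, Sylow.coe_ofCard]; exact fun x hx => mem_JJ_left (hPH hx)
  have hA : IsPGroup 2 (((PT Q T).map (MulAut.conj g).toMonoidHom).subgroupOf (JJ H' g)) :=
    ((IsPGroup.of_card (p := 2) (card_PT Q T)).map _).comap_subtype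
  obtain ⟨S₁, hS₁⟩ := hA.exists_le_sylow
  obtain ⟨x, hx⟩ := MulAction.exists_smul_eq (JJ H' g) S₁ (P.subtype hPJ)
  refine Pro.of_mul x.2 ?_
  set n := (x : ∀ i, Sp (Fin (m i)) (F i)) * g with hn
  have hnP : ∀ w ∈ PT Q T, n * w * n⁻¹ ∈ PT Q T := by
    intro w hw
    have h1 : x * ⟨g * w * g⁻¹, mem_JJ_conj (hPH hw)⟩ * x⁻¹ ∈ (P.subtype hPJ : Subgroup (JJ H' g)) := by
      rw [← hx]
      exact Subgroup.mem_map_of_mem (MulAut.conj x).toMonoidHom (hS₁ ⟨w, hw, rfl⟩)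
    rw [Sylow.coe_subtype, Subgroup.mem_subgroupOf, hP, Sylow.coe_ofCard] at h1
    rw [show n * w * n⁻¹ = (x : ∀ i, Sp (Fin (m i)) (F i)) * (g * w * g⁻¹) * (x : ∀ i, Sp (Fin (m i)) (F i))⁻¹ by
      rw [hn]; group]
    exact h1
  have hni : ∀ i, n i ∈ Subgroup.normalizer (PP (Q i) (T i) : Set (Sp (Fin (m i)) (F i))) := fun i =>
    Subgroup.mem_normalizer_fintype fun w hw => by
      have h1 := hnP _ (single_mem_PT hw) i (Set.mem_univ i)
      simpa using h1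
  choose α hαN p hp hnp using fun i => exists_const_of_normalizer (hm i).choose_spec (hni i)
  have e : n = cd α * fun i => p i := funext hnp
  rw [e]
  exact Pro.mul_right (hPH fun i _ => hp i) (pro_const hm hPH α hαN)

end

end Cfsg.Lib.Linear.Pronormal.SpPlanes
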