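import Cfsg.Agent.Lib.Linear.Pronormal.Sp.Frames
import Mathlib.GroupTheory.Perm.Sign

/-!
# At least three planes: the sign changes have no further conjugates

A swapper composed with a conjugate is monomial of rank at most four. This leaves three or four planes, where the
determinants of the components satisfy an identity that breaks after conjugating with a quaternion element.
-/

set_option autoImplicit false
set_option linter.unusedSectionVars false

namespace Cfsg.Lib.Linear.Pronormal.SpPlanes

open Matrix Finset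
open scoped MatrixGroups

variable {ι : Type*} [Fintype ι] [DecidableEq ι] {F : Type*} [Field F] [Finite F] [NeZero (2 : F)]
variable {X : Subgroup (Sp ι F)} {i j : SL(2, F)}

/-- The column of a coordinate. -/
def col (x : Sp ι F) (a : ι) : ι → M2 F := fun r => mx x r a

theorem nrm_col (x : Sp ι F) (a : ι) : nrm (col x a) = 1 := by
  rw [show col x a = mx x *ᵥ ev a from (mulVec_ev _ _).symm, nrm_mulVec (adjT_mul_mx x), nrm_ev]

theorem conj_zc_eq_refl (x : Sp ι F) (a : ι) : x * zc a * x⁻¹ = refl (col x a) (nrm_col x a) := by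
  rw [zc, conj_refl]
  apply mx_injective
  rw [mx_refl, mx_refl, mulVec_ev]
  rfl

theorem sum_det_col (x : Sp ι F) (a : ι) : ∑ c, (mx x c a).det = 1 := by
  have h : nrm (col x a) = 1 := nrm_col x a
  rw [nrm] at h
  simp only [col, adj_mul_self] at h
  rw [← Finset.sum_smul] at h
  have := congrFun (congrFun h 0) 0
  simpa using this

theorem det_mon (m : Mon ι F) (c : ι) : (mx (m : Sp ι F) (permOf m c) c).det = 1 := by
  have h := mx_mon_det m c
  rw [adj_mul_self] at h
  have := congrFun (congrFun h 0) 0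
  simpa using this

/-- A matrix of blocks, triangular with `-1` on the diagonal, is injective. -/
theorem inj_of_triangular {k : ℕ} (A : Matrix (Fin k) (Fin k) (M2 F)) (hd : ∀ l, A l l = -1)
    (hu : ∀ l m, l < m → A l m = 0) (v : Fin k → M2 F) (h : A *ᵥ v = 0) : v = 0 := by
  have key : ∀ n : ℕ, ∀ l : Fin k, (l : ℕ) = n → v l = 0 := by
    intro n
    induction n using Nat.strong_induction_on with
    | _ n ih =>
      intro l hl
      have h1 := congrFun h l
      simp only [Matrix.mulVec, dotProduct, Pi.zero_apply] at h1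
      rw [Finset.sum_eq_single l (fun m _ hm => ?_) (by simp), hd, neg_mul, one_mul, neg_eq_zero] at h1
      · exact h1
      · rcases lt_or_gt_of_ne hm with hlt | hgt
        · rw [ih (m : ℕ) (by rw [← hl]; exact hlt) m rfl, mul_zero]
        · rw [hu l m hgt, zero_mul]
  exact funext fun l => key _ l rfl

namespace Ctx

variable (hX : Ctx X i j)
include hX

/-- A conjugate outside the frame commutes with no sign change. -/
theorem col_ne_zero {x : Sp ι F} (hx : x ∈ X) {a : ι} (ho : ∀ k, x * zc a * x⁻¹ ≠ zc k) (c : ι) :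
    mx x c a ≠ 0 := by
  intro h
  obtain ⟨k, hk⟩ := hX.eq_zc_of_commute (c := c) (⟨x, hx, a, rfl⟩ : IsD X (x * zc a * x⁻¹)) (by
    rw [conj_zc_eq_refl]; exact commute_zc_of_eq_zero _ h)
  exact ho k hk

theorem not_commute_out {d : Sp ι F} (hd : IsD X d) (ho : ∀ k, d ≠ zc k) (c : ι) : ¬ Commute d (zc c) :=
  fun h => (hX.eq_zc_of_commute hd h).elim fun k hk => ho k hk

omit hX in
/-- The principal block of a monomial element minus one. -/
theorem sub_one_block (m : Mon ι F) {k : ℕ} (f : Fin k → ι) (hf : Function.Injective f)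
    (hmove : ∀ a, permOf m (f a) ≠ f a)
    (htri : ∀ a b, b < a → permOf m (f a) ≠ f b) (v : Fin k → M2 F)
    (h : ((mx (m : Sp ι F) - 1).submatrix f f) *ᵥ v = 0) : v = 0 := by
  refine inj_of_triangular _ (fun l => ?_) (fun l l' hll => ?_) v h
  · rw [Matrix.submatrix_apply, Matrix.sub_apply, mx_eq_zero_of_perm m (Ne.symm (hmove l)), Matrix.one_apply_eq,
      zero_sub]
  · rw [Matrix.submatrix_apply, Matrix.sub_apply, mx_eq_zero_of_perm m (Ne.symm (htri l' l hll)),
      Matrix.one_apply_ne (fun e => hll.ne (hf e)), sub_zero]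

/-- A monomial product of two conjugates outside the frame: at most two planes are moved independently. -/
theorem no_three {m : Mon ι F} {x y : Sp ι F} {a b : ι}
    (hm : (m : Sp ι F) = y * zc b * y⁻¹ * (x * zc a * x⁻¹)) {p q r : ι} (hpq : p ≠ q) (hpr : p ≠ r)
    (hqr : q ≠ r) (hp : permOf m p ≠ p) (hq : permOf m q ≠ q) (hr : permOf m r ≠ r)
    (h1 : permOf m q ≠ p) (h2 : permOf m r ≠ p) (h3 : permOf m r ≠ q) : False := by
  have hfac : mx (m : Sp ι F) - 1 = twoA (col y b) (col x a) * twoY (col y b) (col x a) := by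
    rw [hm, mx_mul, conj_zc_eq_refl, conj_zc_eq_refl, mx_refl, mx_refl, prod_sub_one]
  have hf : Function.Injective (![p, q, r] : Fin 3 → ι) := by
    intro u v huv
    fin_cases u <;> fin_cases v <;> simp_all [Ne.symm hpq, Ne.symm hpr, Ne.symm hqr]
  have := card_le_of_factor (![p, q, r] : Fin 3 → ι) (A := twoA (col y b) (col x a))
    (Y := twoY (col y b) (col x a)) (fun v hv => by
      rw [← hfac] at hv
      refine sub_one_block m _ hf ?_ ?_ v hv
      · intro u; fin_cases u <;> simp_all
      · intro u v huv; fin_cases u <;> fin_cases v <;> simp_all)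
  simp at this

/-- For an element outside the frame and two planes there is a monomial product moving one onto the other. -/
theorem exists_pair {w : Sp ι F} (hw : IsD X w) (ho : ∀ k, w ≠ zc k) {i1 i2 : ι} (h12 : i1 ≠ i2) :
    ∃ v, IsD X v ∧ (∀ k, v ≠ zc k) ∧ ∃ m : Mon ι F, (m : Sp ι F) = v * w ∧ permOf m i1 = i2 := by
  have hzD : ∀ k, IsD X (w * zc k * w) := fun k => by
    have := (isD_zc (X := X) k).conj (hw.mem hX.toSetup)
    rwa [hw.inv] at this
  set d0 := w * zc i1 * w with hd0
  have hnc : ¬ Commute d0 (zc i2) := by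
    intro h
    obtain ⟨k, hk⟩ := hX.eq_zc_of_commute (hzD i1) h
    exact hX.not_commute_out hw ho i1 (hX.commute_of_conj hw (hk ▸ zc_commute k i1))
  obtain ⟨v, hv, hvnc, hvd⟩ := hX.exists_swapper (hzD i1) hnc
  refine ⟨v, hv, fun k hk => hvnc (hk ▸ zc_commute k i2), ?_⟩
  have hconj : ∀ k, (v * w) * zc k * (v * w)⁻¹ = v * (w * zc k * w) * v := fun k => by
    rw [_root_.mul_inv_rev, hv.inv, hw.inv]; group
  have hmem : v * w ∈ Mon ι F := by
    intro k
    have hD : IsD X ((v * w) * zc k * (v * w)⁻¹) :=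
      (isD_zc k).conj (mul_mem (hv.mem hX.toSetup) (hw.mem hX.toSetup))
    refine hX.eq_zc_of_commute hD (c := i2) ?_
    have h1 : Commute (w * zc k * w⁻¹) (w * zc i1 * w⁻¹) := (Commute.conj_iff w).2 (zc_commute k i1)
    rw [hw.inv] at h1
    have h2 := (Commute.conj_iff v).2 h1
    rw [hv.inv] at h2
    rw [hconj]
    have h3 : v * (w * zc i1 * w) * v = zc i2 := by
      rw [show w * zc i1 * w = v * zc i2 * v from hvd.symm,
        show v * (v * zc i2 * v) * v = (v * v) * zc i2 * (v * v) by group, hv.mul_self, one_mul, mul_one]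
    rwa [h3] at h2
  refine ⟨⟨_, hmem⟩, rfl, permOf_eq ?_⟩
  rw [hconj, show w * zc i1 * w = v * zc i2 * v from hvd.symm,
    show v * (v * zc i2 * v) * v = (v * v) * zc i2 * (v * v) by group, hv.mul_self, one_mul, mul_one]

/-- The commuting case: the permutation has no fixed point and the components agree. -/
theorem commute_case {x : Sp ι F} (hx : x ∈ X) {a : ι} (ho : ∀ k, x * zc a * x⁻¹ ≠ zc k) {v : Sp ι F}
    (hv : IsD X v) {m : Mon ι F} (hm : (m : Sp ι F) = v * (x * zc a * x⁻¹)) {i1 i2 : ι} (h12 : i1 ≠ i2)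
    (hπ : permOf m i1 = i2) (hc : Commute v (x * zc a * x⁻¹)) :
    Fintype.card ι ≠ 3 ∧ Fintype.card ι < 5 ∧ (mx x i2 a).det = (mx x i1 a).det := by
  classical
  obtain ⟨b, hb⟩ := hX.eq_zc_of_commute (c := a) (hv.conj (inv_mem hx)) (by
    rw [inv_inv]
    have := (Commute.conj_iff x⁻¹).2 hc
    rwa [inv_inv, show x⁻¹ * (x * zc a * x⁻¹) * x = zc a by group] at this)
  have hvx : v = x * zc b * x⁻¹ := by rw [← hb]; group
  have hba : b ≠ a := by
    intro e
    have h1 : m = 1 := Subtype.ext (by rw [hm, hvx, e]; exact (isD_zc (X := X) a).conj hx |>.mul_self)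
    exact h12 (by
      rw [← hπ, h1, show permOf (1 : Mon ι F) = 1 from map_one (permHom ι F), Equiv.Perm.one_apply])
  have hmm : (m : Sp ι F) = x * (zc b * zc a) * x⁻¹ := by rw [hm, hvx]; group
  have hsq : ∀ c, permOf m (permOf m c) = c := fun c => by
    have h1 : m * m = 1 := Subtype.ext (by
      rw [Subgroup.coe_mul, hmm, show x * (zc b * zc a) * x⁻¹ * (x * (zc b * zc a) * x⁻¹) =
        x * (zc b * (zc a * zc b) * zc a) * x⁻¹ by group, (zc_commute a b).eq,
        show zc b * (zc b * zc a) * zc a = (zc b * zc b) * (zc a * zc a) by group, zc_mul_self, zc_mul_self]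
      simp)
    have h2 := congrFun (congrArg DFunLike.coe (map_mul (permHom ι F) m m)) c
    rw [h1, map_one] at h2
    exact h2.symm
  have hfpf : ∀ c, permOf m c ≠ c := by
    intro c hc'
    have h1 : Commute (x⁻¹ * zc c * x) (zc b * zc a) := by
      have h2 : (m : Sp ι F) * zc c * (m : Sp ι F)⁻¹ = zc c := (conj_zc_perm m c).trans (by rw [hc'])
      have h3 : Commute (zc c) (m : Sp ι F) := (mul_inv_eq_iff_eq_mul.1 h2).symm
      have h4 := (Commute.conj_iff x⁻¹).2 h3
      rwa [inv_inv, hmm, show x⁻¹ * (x * (zc b * zc a) * x⁻¹) * x = zc b * zc a by group] at h4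
    have hD : IsD X (x⁻¹ * zc c * x) := by simpa using (isD_zc (X := X) c).conj (inv_mem hx)
    obtain ⟨k, hk⟩ := hX.eq_zc_of_commute_two hD hba h1
    have hc2 := (Commute.conj_iff x).2 (zc_commute k a (F := F))
    rw [show x * zc k * x⁻¹ = zc c by rw [← hk]; group] at hc2
    exact hX.not_commute_out ⟨x, hx, a, rfl⟩ ho c hc2.symm
  have hπ' : permOf m i2 = i1 := by rw [← hπ, hsq]
  refine ⟨fun h3 => ?_, ?_, ?_⟩
  · obtain ⟨c, hc1, hc2⟩ : ∃ c, c ≠ i1 ∧ c ≠ i2 := by
      by_contra! hh
      have : (Finset.univ : Finset ι) ⊆ {i1, i2} := fun c _ => by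
        by_cases h : c = i1
        · simp [h]
        · simp [hh c h]
      have := (Finset.card_le_card this).trans Finset.card_le_two
      rw [Finset.card_univ, h3] at this
      omega
    have huniv : ({i1, i2, c} : Finset ι) = Finset.univ := Finset.eq_univ_of_card _ (by
      rw [Finset.card_insert_of_notMem (by simp [h12, Ne.symm hc1]),
        Finset.card_insert_of_notMem (by simp [Ne.symm hc2]), Finset.card_singleton, h3])
    have hmem := Finset.mem_univ (permOf m c)
    rw [← huniv] at hmem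
    simp only [Finset.mem_insert, Finset.mem_singleton] at hmem
    rcases hmem with h | h | h
    · exact hc2 ((permOf m).injective (h.trans hπ'.symm))
    · exact hc1 ((permOf m).injective (h.trans hπ.symm))
    · exact hfpf c h
  · by_contra h5
    push Not at h5
    obtain ⟨c, hc1, hc2⟩ : ∃ c, c ≠ i1 ∧ c ≠ i2 := by
      by_contra! hh
      have : (Finset.univ : Finset ι) ⊆ {i1, i2} := fun c _ => by
        by_cases h : c = i1
        · simp [h]
        · simp [hh c h]
      have := (Finset.card_le_card this).trans Finset.card_le_two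
      rw [Finset.card_univ] at this
      omega
    obtain ⟨e, he⟩ : ∃ e, e ∉ ({i1, i2, c, permOf m c} : Finset ι) := by
      by_contra! hh
      have := (Finset.card_le_card (fun x _ => hh x : (Finset.univ : Finset ι) ⊆ _)).trans
        Finset.card_le_four
      rw [Finset.card_univ] at this
      omega
    simp only [Finset.mem_insert, Finset.mem_singleton, not_or] at he
    obtain ⟨e1, e2, e3, e4⟩ := he
    exact hX.no_three (hvx ▸ hm) (Ne.symm hc1) (Ne.symm e1) (Ne.symm e3) (hfpf _) (hfpf _) (hfpf _)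
      (fun h => hc2 ((permOf m).injective (h.trans hπ'.symm)))
      (fun h => e2 ((permOf m).injective (h.trans hπ'.symm)))
      (fun h => e4 (by rw [← h, hsq]))
  · have hneg : mx (m : Sp ι F) *ᵥ col x a = -col x a := by
      have h1 : mx (m : Sp ι F) = mx x * (mx (zc b : Sp ι F) * mx (zc a : Sp ι F)) * adjT (mx x) := by
        rw [hmm, mx_mul, mx_mul, mx_mul, mx_inv]
      have h2 : adjT (mx x) *ᵥ col x a = ev a := by
        rw [show col x a = mx x *ᵥ ev a from (mulVec_ev _ _).symm, Matrix.mulVec_mulVec, adjT_mul_mx,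
          Matrix.one_mulVec]
      have h3 : (mx (zc b : Sp ι F) * mx (zc a : Sp ι F)) *ᵥ (ev a : ι → M2 F) = -ev a := by
        rw [mulVec_ev]
        ext1 r
        rw [mx_zc_mul, mx_zc]
        by_cases hr : r = a <;> by_cases hrb : r = b <;> simp_all [ev]
      rw [h1, ← Matrix.mulVec_mulVec, h2, ← Matrix.mulVec_mulVec, h3, Matrix.mulVec_neg, mulVec_ev]
      rfl
    have h4 := congrFun hneg i2
    simp only [Matrix.mulVec, dotProduct, col, Pi.neg_apply] at h4
    rw [Finset.sum_eq_single i1 (fun c _ hc' => by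
      rw [mx_eq_zero_of_perm m (r := i2) (c := c) (fun h => hc' ((permOf m).injective (h.symm.trans hπ.symm))),
        zero_mul]) (by simp)] at h4
    have h5 := congrArg Matrix.det h4
    rw [Matrix.det_mul, ← hπ, det_mon, one_mul, Matrix.det_neg, Fintype.card_fin] at h5
    rw [← hπ, h5]
    ring

/-- The non-commuting case: three planes, and an identity between the components. -/
theorem odd_case {x : Sp ι F} (hx : x ∈ X) {a : ι} {v : Sp ι F}
    (hv : IsD X v) (hvo : ∀ k, v ≠ zc k) {m : Mon ι F} (hm : (m : Sp ι F) = v * (x * zc a * x⁻¹))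
    {i1 i2 : ι} (h12 : i1 ≠ i2) (hπ : permOf m i1 = i2) (hc : ¬ Commute v (x * zc a * x⁻¹)) :
    ∃ i3, i3 ≠ i1 ∧ i3 ≠ i2 ∧ (Finset.univ : Finset ι) = {i1, i2, i3} ∧
      (1 - 2 * (mx x i1 a).det) ^ 2 = 4 * (mx x i2 a).det * (mx x i3 a).det := by
  classical
  have hwD : IsD X (x * zc a * x⁻¹) := ⟨x, hx, a, rfl⟩
  have hodd : Odd (orderOf (m : Sp ι F)) := by
    have hd : IsD X (x⁻¹ * v * x) := by simpa using hv.conj (inv_mem hx)
    have h := hX.odd_order hd (a := a) (fun h => hc (by
      have := (Commute.conj_iff x).2 h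
      rwa [show x * (x⁻¹ * v * x) * x⁻¹ = v by group] at this))
    rwa [show zc a * (x⁻¹ * v * x) = x⁻¹ * (m : Sp ι F)⁻¹ * x⁻¹⁻¹ by
      rw [hm, _root_.mul_inv_rev, hv.inv, hwD.inv]; group,
      show orderOf (x⁻¹ * (m : Sp ι F)⁻¹ * x⁻¹⁻¹) = orderOf (m : Sp ι F)⁻¹ from
        orderOf_injective (MulAut.conj x⁻¹).toMonoidHom (MulAut.conj x⁻¹).injective _, orderOf_inv] at h
  have hord : Odd (orderOf (permOf m)) := by
    refine hodd.of_dvd_nat ?_
    rw [Subgroup.orderOf_coe]
    exact orderOf_map_dvd (permHom ι F) m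
  have hper : ∀ c, permOf m (permOf m c) = c → permOf m c = c := by
    intro c h2
    obtain ⟨k, hk⟩ := hord
    have h1 : ((permOf m) ^ (2 * k + 1)) c = c := by rw [← hk, pow_orderOf_eq_one]; rfl
    have h3 : ∀ n : ℕ, ((permOf m) ^ (2 * n)) c = c := fun n => by
      induction n with
      | zero => simp
      | succ n ih => rw [Nat.mul_succ, pow_add, Equiv.Perm.mul_apply, pow_two, Equiv.Perm.mul_apply, h2, ih]
    rw [pow_succ', Equiv.Perm.mul_apply, h3] at h1
    exact h1
  set i3 := permOf m i2 with hi3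
  have h32 : i3 ≠ i2 := fun h => h12 ((permOf m).injective (hπ.trans h.symm))
  have h31 : i3 ≠ i1 := fun h => h12 (((hper i1 (by rw [hπ]; exact h)).symm.trans hπ))
  obtain ⟨y, hy, b, rfl⟩ := hv
  have hback : permOf m i3 = i1 := by
    by_contra h
    exact hX.no_three hm h12 (Ne.symm h31) (Ne.symm h32) (by rw [hπ]; exact Ne.symm h12)
      h32 (fun e => h32 ((permOf m).injective (e.trans rfl)))
      h31 h (fun e => h31 ((permOf m).injective (e.trans hπ.symm)))
  have huniv : (Finset.univ : Finset ι) = {i1, i2, i3} := by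
    refine (Finset.eq_univ_iff_forall.2 fun d => ?_).symm
    by_contra hd
    simp only [Finset.mem_insert, Finset.mem_singleton, not_or] at hd
    obtain ⟨d1, d2, d3⟩ := hd
    have hd' : permOf m d = d := by
      by_contra hmv
      exact hX.no_three hm h12 (Ne.symm d1) (Ne.symm d2) (by rw [hπ]; exact Ne.symm h12) h32 hmv
        h31 (fun e => d3 ((permOf m).injective (e.trans hback.symm)))
        (fun e => d1 ((permOf m).injective (e.trans hπ.symm)))
    have hfac : mx (m : Sp ι F) - 1 = twoA (col y b) (col x a) * twoY (col y b) (col x a) := by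
      rw [hm, mx_mul, conj_zc_eq_refl, conj_zc_eq_refl, mx_refl, mx_refl, prod_sub_one]
    have hf : Function.Injective (![i1, i2] : Fin 2 → ι) := by
      intro u w huw; fin_cases u <;> fin_cases w <;> simp_all [Ne.symm h12]
    have hrow := row_eq_zero_of_factor (![i1, i2] : Fin 2 → ι) le_rfl (A := twoA (col y b) (col x a))
      (Y := twoY (col y b) (col x a)) (fun w hw => by
        rw [← hfac] at hw
        refine sub_one_block m _ hf ?_ ?_ w hw
        · intro u; fin_cases u
          · simp [hπ, Ne.symm h12]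
          · simpa [← hi3] using h32
        · intro u w huw; fin_cases u <;> fin_cases w <;> simp_all [← hi3]) (r := d) (fun k => by
          rw [← hfac, Matrix.sub_apply]
          fin_cases k
          · rw [mx_eq_zero_of_perm m (by simpa [hπ] using d2), Matrix.one_apply_ne (by simpa using d1), sub_zero]
          · rw [mx_eq_zero_of_perm m (by simpa [← hi3] using d3), Matrix.one_apply_ne (by simpa using d2),
              sub_zero]) 0
    exact hX.col_ne_zero hy hvo d (by simpa [twoA, col] using hrow)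
  refine ⟨i3, h31, h32, huniv, ?_⟩
  set w := x * zc a * x⁻¹ with hw
  have hrel : (m : Sp ι F) * w = w * (m : Sp ι F)⁻¹ := by
    rw [hm, mul_assoc, hwD.mul_self, mul_one, _root_.mul_inv_rev, hwD.inv,
      IsD.inv (X := X) ⟨y, hy, b, rfl⟩, ← mul_assoc, hwD.mul_self, one_mul]
  have h1 := congrArg (fun g => mx g i2 i1) hrel
  rw [← hπ, mul_mx_mon] at h1
  have hinv : permOf m⁻¹ i1 = i3 := by
    have h2 := congrFun (congrArg DFunLike.coe (map_inv (permHom ι F) m)) i1
    refine h2.trans ?_
    show (permOf m)⁻¹ i1 = i3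
    exact (Equiv.Perm.inv_eq_iff_eq).2 hback.symm
  rw [show (m : Sp ι F)⁻¹ = ((m⁻¹ : Mon ι F) : Sp ι F) from rfl, mx_mul_mon, hinv, hπ, hw, conj_zc_eq_refl,
    mx_refl, show ((m⁻¹ : Mon ι F) : Sp ι F) = (m : Sp ι F)⁻¹ from rfl, mx_inv, adjT_apply] at h1
  simp only [reflM, Matrix.sub_apply, Matrix.add_apply, rk_apply, col, Matrix.one_apply_eq,
    Matrix.one_apply_ne (Ne.symm h32), zero_sub] at h1
  set A := mx (m : Sp ι F) i2 i1
  set φ1 := mx x i1 a
  set φ2 := mx x i2 a
  set φ3 := mx x i3 a
  have hA : A.det = 1 := by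
    have := det_mon m i1
    rwa [hπ] at this
  have hC : (adjugate (mx (m : Sp ι F) i1 i3)).det = 1 := by
    rw [Matrix.det_adjugate, Fintype.card_fin, pow_one]
    have := det_mon m i3
    rwa [hback] at this
  have e1 : (1 : M2 F) - (φ1 * adjugate φ1 + φ1 * adjugate φ1) = (1 - 2 * φ1.det) • (1 : M2 F) := by
    rw [self_mul_adj, sub_smul, two_mul, add_smul, one_smul]
  have e2 : -(φ2 * adjugate φ3 + φ2 * adjugate φ3) = (-2 : F) • (φ2 * adjugate φ3) := by
    rw [neg_smul, two_smul]
  rw [e1, e2, mul_smul_comm, mul_one, smul_mul_assoc] at h1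
  have h2 := congrArg Matrix.det h1
  rw [Matrix.det_smul, Matrix.det_smul, Matrix.det_mul, Matrix.det_mul, hA, hC, Matrix.det_adjugate,
    Fintype.card_fin, pow_one] at h2
  linear_combination h2

/-- The identity for four planes and for three. -/
theorem det_facts (h3 : 3 ≤ Fintype.card ι) {x : Sp ι F} (hx : x ∈ X) {a : ι}
    (ho : ∀ k, x * zc a * x⁻¹ ≠ zc k) :
    (Fintype.card ι = 4 ∧ ∀ c, 4 * (mx x c a).det = 1) ∨
      (Fintype.card ι = 3 ∧ ∀ r s t : ι, r ≠ s → r ≠ t → s ≠ t →
        (1 - 2 * (mx x r a).det) ^ 2 = 4 * (mx x s a).det * (mx x t a).det) := by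
  classical
  have hwD : IsD X (x * zc a * x⁻¹) := ⟨x, hx, a, rfl⟩
  by_cases h4 : Fintype.card ι = 3
  · refine Or.inr ⟨h4, fun r s t hrs hrt hst => ?_⟩
    obtain ⟨v, hv, hvo, m, hm, hπ⟩ := hX.exists_pair hwD ho hrs
    by_cases hc : Commute v (x * zc a * x⁻¹)
    · exact absurd h4 (hX.commute_case hx ho hv hm hrs hπ hc).1
    · obtain ⟨u, hu1, hu2, huniv, he⟩ := hX.odd_case hx hv hvo hm hrs hπ hc
      have : t ∈ ({r, s, u} : Finset ι) := huniv ▸ Finset.mem_univ t
      simp only [Finset.mem_insert, Finset.mem_singleton, Ne.symm hrt, Ne.symm hst, false_or] at this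
      rwa [this]
  · have key : ∀ r s : ι, r ≠ s → Fintype.card ι = 4 ∧ (mx x s a).det = (mx x r a).det := by
      intro r s hrs
      obtain ⟨v, hv, hvo, m, hm, hπ⟩ := hX.exists_pair hwD ho hrs
      by_cases hc : Commute v (x * zc a * x⁻¹)
      · obtain ⟨h1, h2, h5⟩ := hX.commute_case hx ho hv hm hrs hπ hc
        exact ⟨by omega, h5⟩
      · obtain ⟨u, hu1, hu2, huniv, -⟩ := hX.odd_case hx hv hvo hm hrs hπ hc
        have hh := congrArg Finset.card huniv
        rw [Finset.card_univ] at hh
        have := hh.trans_le Finset.card_le_three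
        omega
    obtain ⟨r, s, hrs⟩ := Fintype.exists_pair_of_one_lt_card (show 1 < Fintype.card ι by omega)
    refine Or.inl ⟨(key r s hrs).1, fun c => ?_⟩
    have hall : ∀ d, (mx x d a).det = (mx x c a).det := fun d => by
      rcases eq_or_ne c d with rfl | h
      · rfl
      · exact (key c d h).2
    have hs := sum_det_col x a
    rw [Finset.sum_congr rfl (fun d _ => hall d), Finset.sum_const, Finset.card_univ, (key r s hrs).1] at hs
    rw [← hs, nsmul_eq_mul]
    norm_num

/-- No conjugate of a sign change lies outside the frame. -/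
theorem frame_eq (h3 : 3 ≤ Fintype.card ι) {d : Sp ι F} (hd : IsD X d) : ∃ k, d = zc k := by
  classical
  by_contra! hout
  obtain ⟨x, hx, a₀, rfl⟩ := hd
  have hallout : ∀ v k, x * zc v * x⁻¹ ≠ zc k := by
    intro v k h
    obtain ⟨l, hl⟩ := hX.eq_zc_of_commute (c := k) (⟨x, hx, a₀, rfl⟩ : IsD X (x * zc a₀ * x⁻¹))
      (h ▸ (Commute.conj_iff x).2 (zc_commute a₀ v))
    exact hout l hl
  have hinvout : ∀ c k, x⁻¹ * zc c * x⁻¹⁻¹ ≠ zc k := by
    intro c k h
    exact hallout k c (by rw [← h]; group)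
  obtain ⟨c₀, -, -⟩ := Fintype.exists_pair_of_one_lt_card (show 1 < Fintype.card ι by omega)
  set q : Sp ι F := one c₀ i with hq
  have hqX : q ∈ X := (hX.mem c₀).1
  set y := x⁻¹ * q * x with hy
  have hyX : y ∈ X := mul_mem (mul_mem (inv_mem hx) hqX) hx
  -- the conjugate frame is different
  have hyout : ∀ v k, y * zc v * y⁻¹ ≠ zc k := by
    intro v k h
    set w := x * zc v * x⁻¹ with hw
    have hwD : IsD X w := ⟨x, hx, v, rfl⟩
    have h1 : q * w * q⁻¹ = x * zc k * x⁻¹ := by rw [← h, hy, hw]; group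
    have h2 : Commute w (q * w * q⁻¹) := by rw [h1]; exact (Commute.conj_iff x).2 (zc_commute v k)
    have h3 := (Commute.conj_iff q).2 h2
    rw [show q * (q * w * q⁻¹) * q⁻¹ = (q * q) * w * (q * q)⁻¹ by group, hq,
      one_mul_self c₀ i hX.anti.hii, zc_inv] at h3
    have hzD : IsD X (zc c₀ * w * zc c₀) := by
      have := hwD.conj (hX.toSetup.zc_mem c₀)
      rwa [zc_inv] at this
    have h4 : Commute w (zc c₀ * w * zc c₀) := hX.trans (hwD.conj hqX) hwD hzD h2.symm h3
    have h5 : IsD X (x⁻¹ * zc c₀ * x) := by simpa using (isD_zc (X := X) c₀).conj (inv_mem hx)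
    have h6 := hX.commute_of_conj h5 (a := v) (by
      have := (Commute.conj_iff x⁻¹).2 h4
      rw [inv_inv, hw, show x⁻¹ * (x * zc v * x⁻¹) * x = zc v by group] at this
      rw [show x⁻¹ * zc c₀ * x * zc v * (x⁻¹ * zc c₀ * x) =
        x⁻¹ * (zc c₀ * (x * zc v * x⁻¹) * zc c₀) * x by group]
      exact this.symm)
    have h7 := (Commute.conj_iff x).2 h6
    rw [show x * (x⁻¹ * zc c₀ * x) * x⁻¹ = zc c₀ by group] at h7
    exact hX.not_commute_out hwD (hallout v) c₀ h7.symm
  have ha : ∀ v, mx x⁻¹ v c₀ = adjugate (mx x c₀ v) := fun v => by rw [mx_inv]; rfl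
  have hdetinv : ∀ v, (mx x⁻¹ v c₀).det = (mx x c₀ v).det := fun v => by
    rw [ha, Matrix.det_adjugate, Fintype.card_fin, pow_one]
  -- the components of the new frame
  have hent : ∀ u v, mx y u v =
      (if u = v then 1 else 0) + adjugate (mx x c₀ u) * ((i : M2 F) - 1) * mx x c₀ v := by
    intro u v
    have h1 : mx q = 1 + Matrix.diagonal (fun c => if c = c₀ then (i : M2 F) - 1 else 0) := by
      ext1 r s
      rw [hq, mx_one_apply, Matrix.add_apply, Matrix.one_apply, Matrix.diagonal_apply]
      by_cases h : r = s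
      · rw [if_pos h, if_pos h, if_pos h]
        by_cases hc : r = c₀ <;> simp [hc]
      · rw [if_neg h, if_neg h, if_neg h, add_zero]
    rw [hy, mx_mul, mx_mul, mx_inv, h1, mul_add, mul_one, add_mul, adjT_mul_mx, Matrix.add_apply,
      Matrix.one_apply, Matrix.mul_apply]
    congr 1
    rw [Finset.sum_eq_single c₀ (fun k _ hk => by rw [Matrix.mul_diagonal, if_neg hk, mul_zero, zero_mul]) (by simp),
      Matrix.mul_diagonal, if_pos rfl, adjT_apply]
  have htr : (i : M2 F).trace = 0 := by
    have h1 := add_adj (i : M2 F)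
    rw [hX.anti.adj_left two_ne_zero, add_neg_cancel] at h1
    have := congrFun (congrFun h1.symm 0) 0
    simpa using this
  have hdi : ((i : M2 F) - 1).det = 2 := by
    rw [sub_eq_add_neg, det_add, hX.anti.det_left two_ne_zero, hX.anti.adj_left two_ne_zero, neg_mul_neg,
      mul_one, htr, Matrix.det_neg, Fintype.card_fin, Matrix.det_one]
    ring
  have hoff : ∀ u v, u ≠ v → (mx y u v).det = 2 * (mx x c₀ u).det * (mx x c₀ v).det := by
    intro u v huv
    rw [hent, if_neg huv, zero_add, Matrix.det_mul, Matrix.det_mul, Matrix.det_adjugate, Fintype.card_fin,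
      pow_one, hdi]
    ring
  have hon : ∀ v, (mx y v v).det = 1 - 2 * (mx x c₀ v).det + 2 * (mx x c₀ v).det ^ 2 := by
    intro v
    rw [hent, if_pos rfl, det_add, Matrix.det_one, adjugate_one, one_mul, Matrix.det_mul, Matrix.det_mul,
      Matrix.det_adjugate, Fintype.card_fin, pow_one, hdi, Matrix.trace_mul_cycle, self_mul_adj,
      smul_mul_assoc, one_mul, Matrix.trace_smul, Matrix.trace_sub, htr, Matrix.trace_one, Fintype.card_fin,
      smul_eq_mul]
    push_cast
    ring
  rcases hX.det_facts h3 (inv_mem hx) (hinvout c₀) with ⟨h4, hb⟩ | ⟨h4, hb⟩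
  · obtain ⟨u, v, huv⟩ := Fintype.exists_pair_of_one_lt_card (show 1 < Fintype.card ι by omega)
    rcases hX.det_facts h3 hyX (hyout v) with ⟨-, hc⟩ | ⟨h5, -⟩
    · have e1 := hb u; rw [hdetinv] at e1
      have e2 := hb v; rw [hdetinv] at e2
      have e3 := hc u; rw [hoff u v huv] at e3
      have : (1 : F) = 0 := by linear_combination (-2 : F) * e3 + (4 * (mx x c₀ v).det) * e1 + e2
      exact one_ne_zero this
    · omega
  · obtain ⟨r, s, t, hrs, hrt, hst⟩ := Fintype.two_lt_card_iff.1 (show 2 < Fintype.card ι by omega)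
    have hall : ∀ p q' u : ι, p ≠ q' → p ≠ u → q' ≠ u →
        (1 - 2 * (mx x c₀ p).det) ^ 2 = 4 * (mx x c₀ q').det * (mx x c₀ u).det ∧
        ((1 - 2 * (mx x c₀ p).det) = 0 ∨ 4 * (mx x c₀ p).det = 1) := by
      intro p q' u h1 h2 h3'
      have eb := hb p q' u h1 h2 h3'
      rw [hdetinv, hdetinv, hdetinv] at eb
      refine ⟨eb, ?_⟩
      rcases hX.det_facts h3 hyX (hyout p) with ⟨h5, -⟩ | ⟨-, hc⟩
      · omega
      · have ec := hc p q' u h1 h2 h3'
        rw [hon, hoff q' p (Ne.symm h1), hoff u p (Ne.symm h2)] at ec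
        have : (1 - 2 * (mx x c₀ p).det) ^ 2 * (1 - 4 * (mx x c₀ p).det) = 0 := by
          linear_combination ec - 4 * (mx x c₀ p).det ^ 2 * eb
        rcases mul_eq_zero.1 this with h | h
        · exact Or.inl ((pow_eq_zero_iff two_ne_zero).1 h)
        · exact Or.inr (sub_eq_zero.1 h).symm
    obtain ⟨er, cr⟩ := hall r s t hrs hrt hst
    obtain ⟨es, cs⟩ := hall s r t (Ne.symm hrs) hst hrt
    obtain ⟨et, ct⟩ := hall t r s (Ne.symm hrt) (Ne.symm hst) hrs
    have hsum : (mx x c₀ r).det + (mx x c₀ s).det + (mx x c₀ t).det = 1 := by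
      have h := sum_det_col x⁻¹ c₀
      rw [Finset.sum_congr rfl (fun d _ => hdetinv d),
        show (Finset.univ : Finset ι) = {r, s, t} from (Finset.eq_univ_of_card _ (by
          rw [Finset.card_insert_of_notMem (by simp [hrs, hrt]),
            Finset.card_insert_of_notMem (by simp [hst]), Finset.card_singleton, h4])).symm,
        Finset.sum_insert (by simp [hrs, hrt]), Finset.sum_insert (by simp [hst]), Finset.sum_singleton] at h
      linear_combination h
    set A := (mx x c₀ r).det
    set B := (mx x c₀ s).det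
    set C := (mx x c₀ t).det
    have hnz : ∀ p q' u : F, (1 - 2 * p) ^ 2 = 4 * q' * u →
        (1 - 2 * q' = 0 ∨ 4 * q' = 1) → (1 - 2 * u = 0 ∨ 4 * u = 1) → 1 - 2 * p ≠ 0 := by
      intro p q' u e hq' hu hp
      rw [hp, zero_pow two_ne_zero] at e
      have hz : q' = 0 ∨ u = 0 := by
        have h4' : (4 : F) ≠ 0 := by
          rw [show (4 : F) = 2 * 2 by norm_num]; exact mul_ne_zero two_ne_zero two_ne_zero
        rcases mul_eq_zero.1 e.symm with h | h
        · exact Or.inl ((mul_eq_zero.1 h).resolve_left h4')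
        · exact Or.inr h
      rcases hz with rfl | rfl
      · rcases hq' with h | h <;> simp at h
      · rcases hu with h | h <;> simp at h
    have kr := cr.resolve_left (hnz A B C er cs ct)
    have ks := cs.resolve_left (hnz B A C es cr ct)
    have kt := ct.resolve_left (hnz C A B et cr cs)
    have : (1 : F) = 0 := by linear_combination (-4 : F) * hsum + kr + ks + kt
    exact one_ne_zero this

end Ctx

end Cfsg.Lib.Linear.Pronormal.SpPlanes
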