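import Cfsg.Agent.Lib.Linear.Pronormal.Sp.Frame

/-!
# An element of the normaliser of the Sylow subgroup outside it

The swapper permutes five frames; a word in it and the quaternion elements fixes two frames and moves a third.
-/

set_option autoImplicit false
set_option linter.unusedSectionVars false
set_option linter.style.haveILetI false
set_option maxHeartbeats 1000000

namespace Cfsg.Lib.Linear.Pronormal.SpPlanes

open Matrix
open scoped MatrixGroups

/-- The product of the axes modulo sign. -/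
def mulV (h : Fin 3) : Option (Fin 3) → Option (Fin 3)
  | none => some h
  | some l => if h = l then none else some (-(h + l))

/-- The action of an axis on the five frames. -/
def actV (h : Fin 3) : Option (Option (Fin 3)) → Option (Option (Fin 3)) := Option.map (mulV h)

/-- The action of the swapper on the five frames. -/
def actK (σ : Fin 3 → Fin 3) : Option (Option (Fin 3)) → Option (Option (Fin 3))
  | none => some none
  | some none => none
  | some (some l) => some (some (σ l))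

theorem exists_word : ∀ σ : Fin 3 → Fin 3, Function.Injective σ → ∃ x y z : Fin 3,
    (actV x (actK σ (actV y (actK σ (actV z (actK σ none)))))) = none ∧
    (actV x (actK σ (actV y (actK σ (actV z (actK σ (some none))))))) = some none ∧
    ∃ l : Fin 3, (actV x (actK σ (actV y (actK σ (actV z (actK σ (some (some l)))))))) ≠ some (some l) := by
  unfold Function.Injective
  decide

variable {m : ℕ} {F : Type*} [Field F] [NeZero (2 : F)] [Finite F]
variable {Q : Sylow 2 SL(2, F)} {T : Sylow 2 (Equiv.Perm (Fin m))} {i j : SL(2, F)} {a b : Fin m}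
variable {K : Subgroup (Sp (Fin m) F)}

/-- The representative of an axis. -/
def vv (i j : SL(2, F)) : Option (Fin 3) → SL(2, F)
  | none => 1
  | some l => ax i j l

/-- The representative of a frame. -/
def pt (i j : SL(2, F)) (a b : Fin m) : Option (Option (Fin 3)) → Sp (Fin m) F
  | none => zc a
  | some o => S a b (vv i j o)

/-- An element permutes the five frames as prescribed. -/
def Acts (i j : SL(2, F)) (a b : Fin m) (g : Sp (Fin m) F)
    (π : Option (Option (Fin 3)) → Option (Option (Fin 3))) : Prop :=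
  g ∈ Sup' (fun r => r = a ∨ r = b) ∧ ∀ o, R a b (pt i j a b (π o)) (g * pt i j a b o * g⁻¹)

theorem Acts.mul (hab : a ≠ b) {g g' : Sp (Fin m) F}
    {π π' : Option (Option (Fin 3)) → Option (Option (Fin 3))} (h : Acts i j a b g π) (h' : Acts i j a b g' π') :
    Acts i j a b (g * g') (π ∘ π') := by
  refine ⟨mul_mem h.1 h'.1, fun o => ?_⟩
  rw [show g * g' * pt i j a b o * (g * g')⁻¹ = g * (g' * pt i j a b o * g'⁻¹) * g⁻¹ by group]
  exact (h.2 (π' o)).trans (R.conj hab h.1 (h'.2 o))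

theorem sim_conj_of_mem (h : Anti (i : M2 F) j) (hi : i ∈ Q) (hj : j ∈ Q) (h8 : Nat.card Q = 8) {g : SL(2, F)}
    (hg : g ∈ Q) (x : Fin 3) : Sim (g * ax i j x * g⁻¹) (ax i j x) := by
  rcases eight_elements h hi hj h8 hg with e | ⟨y, e⟩
  · have h1 := (e.mul (Sim.rfl' (x := ax i j x))).mul e.inv
    rwa [one_mul, inv_one, mul_one] at h1
  · refine ((e.mul Sim.rfl').mul e.inv).trans ?_
    by_cases hyx : y = x
    · subst hyx; rw [mul_inv_cancel_right]; exact Sim.rfl'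
    · right
      rw [Matrix.SpecialLinearGroup.coe_mul, Matrix.SpecialLinearGroup.coe_mul,
        Matrix.SpecialLinearGroup.coe_inv, (ax_anti h hyx).adj_left two_ne_zero, mul_neg,
        mul_assoc, (ax_anti h hyx).anti, mul_neg, (ax_anti h hyx).ii_mul, neg_neg]

theorem ax_mulV (h : Anti (i : M2 F) j) (x : Fin 3) (o : Option (Fin 3)) :
    Sim (ax i j x * vv i j o) (vv i j (mulV x o)) := by
  rcases o with _ | l
  · simp only [vv, mulV, mul_one]; exact Sim.rfl'
  · simp only [mulV]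
    by_cases hxl : x = l
    · subst hxl
      rw [if_pos rfl]
      exact Or.inr (by
        show ((ax i j x * ax i j x : SL(2, F)) : M2 F) = -((1 : SL(2, F)) : M2 F)
        rw [Matrix.SpecialLinearGroup.coe_mul, ax_sq h x, Matrix.SpecialLinearGroup.coe_one])
    · rw [if_neg hxl]
      have key : ∀ x l : Fin 3, x ≠ l → -(x + l) ≠ x ∧ -(x + l) ≠ l := by decide
      exact ax_mul h hxl (key x l hxl).1 (key x l hxl).2

theorem Exch.acts_one (hE : Exch K Q T i j a b) (x : Fin 3) :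
    Acts i j a b (one a (ax i j x)) (actV x) := by
  refine ⟨one_mem_sup' (p := fun r => r = a ∨ r = b) (Or.inl rfl) _, fun o => ?_⟩
  rw [one_eq_D (b := b)]
  rcases o with _ | o
  · show R a b (zc a) (D a b (ax i j x) 1 * zc a * (D a b (ax i j x) 1)⁻¹)
    rw [zc_eq_D (b := b) hE.anti, D_inv, D_mul, D_mul, ← nu_central hE.anti, mul_inv_cancel_right, one_mul, one_mul,
      inv_one]
    exact R.refl _
  · show R a b (S a b (vv i j (mulV x o))) (D a b (ax i j x) 1 * S a b (vv i j o) * (D a b (ax i j x) 1)⁻¹)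
    rw [D_S hE.ne, inv_one, mul_one]
    exact (R_S_of_sim hE.ne hE.anti (ax_mulV hE.anti x o)).symm

theorem Exch.za_S_za (hE : Exch K Q T i j a b) (v : SL(2, F)) :
    (zc a : Sp (Fin m) F) * S a b v * (zc a)⁻¹ = S a b v * (zc a * zc b) := by
  rw [← S_nu hE.ne hE.anti]
  nth_rw 1 [zc_eq_D (b := b) hE.anti]
  nth_rw 1 [zc_eq_D (b := b) hE.anti]
  rw [D_S hE.ne, inv_one, mul_one]

theorem Exch.S_za_S (hE : Exch K Q T i j a b) (v : SL(2, F)) :
    S a b v * zc a * (S a b v)⁻¹ = (zc b : Sp (Fin m) F) := by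
  rw [zc_eq_D (b := b) hE.anti, zc_eq_D' hE.ne hE.anti, S_D hE.ne, mul_one, mul_inv_cancel,
    show v⁻¹ * (i * i) * v = i * i by rw [mul_assoc, nu_central hE.anti, inv_mul_cancel_left]]

theorem zc_za_ee : (zc a : Sp (Fin m) F) * (zc a * zc b) = zc b := by
  rw [← mul_assoc, zc_mul_self, one_mul]

/-- An element of the pair moving the sign change to the other one exchanges the planes. -/
theorem Exch.eq_S (hE : Exch K Q T i j a b) {u : Sp (Fin m) F}
    (hu : u ∈ PP Q T ⊓ Sup' fun r => r = a ∨ r = b) (hu2 : u * u = 1)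
    (h : u * zc a * u⁻¹ = zc b) : ∃ g ∈ Q, u = S a b g := by
  obtain ⟨g, hg, h', -, e | e⟩ := mem_PU hE.ne hu.1 hu.2
  · exfalso
    rw [e, zc_eq_D (b := b) hE.anti, zc_eq_D' hE.ne hE.anti, D_inv, D_mul, D_mul, ← nu_central hE.anti,
      mul_inv_cancel_right] at h
    obtain ⟨h1, -⟩ := D_injective hE.ne h
    have h2 := congrArg (fun z : SL(2, F) => (z : M2 F)) h1
    simp only [Matrix.SpecialLinearGroup.coe_mul, hE.anti.hii, Matrix.SpecialLinearGroup.coe_one] at h2
    exact one_ne_zero (eq_zero_of_neg_eq h2)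
  · refine ⟨g, hg, ?_⟩
    rw [e, DS_DS hE.ne, ← D_one] at hu2
    obtain ⟨h1, -⟩ := D_injective hE.ne hu2
    rw [e, S, eq_inv_of_mul_eq_one_right h1]

/-- The swapper of the two frames permutes the frames of exchanges. -/
theorem Exch.exists_swapper (hE : Exch K Q T i j a b) :
    ∃ k ∈ K ⊓ Sup' (fun r => r = a ∨ r = b), ∃ σ : Fin 3 → Fin 3, Function.Injective σ ∧
      Acts i j a b k (actK σ) := by
  classical
  haveI : Fact (Nat.Prime 2) := ⟨Nat.prime_two⟩
  obtain ⟨k, hk, hks⟩ := hE.exists_move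
  set p := fun r : Fin m => r = a ∨ r = b with hp
  set PU := PP Q T ⊓ Sup' p with hPU
  set KU := K ⊓ Sup' p with hKU
  set A := PU ⊓ (Mon (Fin m) F).comap (MulAut.conj k).toMonoidHom with hA
  have hR : ∀ u ∈ PU, R a b (pm (Equiv.swap a b)) (u * pm (Equiv.swap a b) * u⁻¹) → u ∈ A := by
    intro u hu h
    refine ⟨hu, mon_of_za hE.ne (mul_mem (mul_mem hk.2 hu.2) (inv_mem hk.2)) ?_⟩
    have := R.conj hE.ne hk.2 h
    rw [hks] at this
    show R a b (zc a) (k * u * k⁻¹ * zc a * (k * u * k⁻¹)⁻¹)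
    rwa [show k * u * k⁻¹ * zc a * (k * u * k⁻¹)⁻¹ = k * (u * pm (Equiv.swap a b) * u⁻¹) * k⁻¹ by
      rw [← hks]; group]
  have hsA : (pm (Equiv.swap a b) : Sp (Fin m) F) ∈ A :=
    hR _ hE.swap_mem (by rw [mul_inv_cancel_right]; exact R.refl _)
  have hzaA : (zc a : Sp (Fin m) F) ∈ A := hR _ hE.za_mem (by
    rw [← S_one (a := a) (b := b), hE.za_S_za]
    exact Or.inr rfl)
  have hSA : ∀ l, S a b (ax i j l) ∈ A := fun l => hR _ (hE.S_mem (ax_mem hE.hi hE.hj l)) (by
    rw [← S_one (a := a) (b := b), S_S hE.ne, inv_one, mul_one]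
    refine R_S_of_sim hE.ne hE.anti (Or.inr ?_)
    rw [Matrix.SpecialLinearGroup.coe_mul, ax_sq hE.anti l, neg_neg, Matrix.SpecialLinearGroup.coe_one])
  have hPUKU : PU ≤ KU := fun u hu => ⟨hE.hK hu.1, hu.2⟩
  have hA2 : IsPGroup 2 A :=
    (IsPGroup.of_card (p := 2) (n := (Nat.card (Sp (Fin m) F)).factorization 2) (card_PP_eq Q T)).to_le
      (inf_le_left.trans inf_le_left)
  obtain ⟨y, hy, hyle⟩ := hE.exists_conj_le (H := KU ⊓ Mon (Fin m) F) (B := A.map (MulAut.conj k).toMonoidHom)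
    (le_inf hPUKU (inf_le_left.trans PP_le_mon)) (inf_le_left.trans inf_le_right) (hA2.map _) (by
      rintro _ ⟨u, hu, rfl⟩
      exact ⟨KU.mul_mem (KU.mul_mem hk (hPUKU hu.1)) (KU.inv_mem hk), hu.2⟩)
  have hyz : y * zc a * y⁻¹ = zc a ∨ y * zc a * y⁻¹ = zc b := by
    obtain ⟨d, hd⟩ := hy.2 a
    have hdU : p d := mem_of_zc_mem_sup' (F := F) (p := p) (hd ▸
      mul_mem (mul_mem hy.1.2 hE.za_mem.2) (inv_mem hy.1.2))
    rcases hdU with rfl | rfl
    exacts [Or.inl hd, Or.inr hd]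
  obtain ⟨k₁, hk₁, hk₁s, hk₁A⟩ : ∃ k₁ ∈ KU, k₁ * pm (Equiv.swap a b) * k₁⁻¹ = zc a ∧
      ∀ u ∈ A, k₁ * u * k₁⁻¹ ∈ PU := by
    have hyA : ∀ u ∈ A, y * k * u * (y * k)⁻¹ ∈ PU := fun u hu => by
      rw [show y * k * u * (y * k)⁻¹ = y * (k * u * k⁻¹) * y⁻¹ by group]
      exact hyle _ ⟨u, hu, rfl⟩
    rcases hyz with h | h
    · refine ⟨y * k, mul_mem hy.1 hk, ?_, hyA⟩
      rw [show y * k * pm (Equiv.swap a b) * (y * k)⁻¹ = y * (k * pm (Equiv.swap a b) * k⁻¹) * y⁻¹ by group, hks, h]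
    · refine ⟨pm (Equiv.swap a b) * (y * k), mul_mem (hPUKU hE.swap_mem) (mul_mem hy.1 hk), ?_, fun u hu => ?_⟩
      · rw [show pm (Equiv.swap a b) * (y * k) * pm (Equiv.swap a b) * (pm (Equiv.swap a b) * (y * k))⁻¹ =
          pm (Equiv.swap a b) * (y * (k * pm (Equiv.swap a b) * k⁻¹) * y⁻¹) * (pm (Equiv.swap a b))⁻¹ by group,
          hks, h, zc_eq_D' hE.ne hE.anti, swap_D hE.ne, mul_inv_cancel_right, zc_eq_D (b := b) hE.anti]
      · rw [show pm (Equiv.swap a b) * (y * k) * u * (pm (Equiv.swap a b) * (y * k))⁻¹ =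
          pm (Equiv.swap a b) * (y * k * u * (y * k)⁻¹) * (pm (Equiv.swap a b))⁻¹ by group]
        exact mul_mem (mul_mem hE.swap_mem (hyA u hu)) (inv_mem hE.swap_mem)
  -- normalise the image of the sign change
  have hee : ∀ {g : Sp (Fin m) F}, g ∈ Sup' p → g * (zc a * zc b) * g⁻¹ = zc a * zc b := fun hg => by
    rw [(sup_commute_ee hE.ne hg).symm.eq, mul_inv_cancel_right]
  obtain ⟨g₁, hg₁, hk₁z⟩ : ∃ g ∈ Q, k₁ * zc a * k₁⁻¹ = S a b g := by
    refine hE.eq_S (hk₁A _ hzaA) (by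
      rw [show k₁ * zc a * k₁⁻¹ * (k₁ * zc a * k₁⁻¹) = k₁ * (zc a * zc a) * k₁⁻¹ by group, zc_mul_self]; group) ?_
    have h1 := hE.za_S_za (1 : SL(2, F))
    rw [S_one] at h1
    have h2 := congrArg (fun u => k₁ * u * k₁⁻¹) h1
    rw [show k₁ * (zc a * pm (Equiv.swap a b) * (zc a)⁻¹) * k₁⁻¹ =
        k₁ * zc a * k₁⁻¹ * (k₁ * pm (Equiv.swap a b) * k₁⁻¹) * (k₁ * zc a * k₁⁻¹)⁻¹ by group, hk₁s,
      show k₁ * (pm (Equiv.swap a b) * (zc a * zc b)) * k₁⁻¹ =
        (k₁ * pm (Equiv.swap a b) * k₁⁻¹) * (k₁ * (zc a * zc b) * k₁⁻¹) by group, hk₁s, hee hk₁.2, zc_za_ee] at h2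
    exact h2
  set k₀ := D a b g₁⁻¹ 1 * k₁ with hk₀
  have hDm : D a b g₁⁻¹ 1 ∈ PU := ⟨D_mem_PP (inv_mem hg₁) (one_mem Q), D_mem_sup' _ _⟩
  have hk₀K : k₀ ∈ KU := mul_mem (hPUKU hDm) hk₁
  have hk₀s : k₀ * pm (Equiv.swap a b) * k₀⁻¹ = zc a := by
    rw [hk₀, show D a b g₁⁻¹ 1 * k₁ * pm (Equiv.swap a b) * (D a b g₁⁻¹ 1 * k₁)⁻¹ =
      D a b g₁⁻¹ 1 * (k₁ * pm (Equiv.swap a b) * k₁⁻¹) * (D a b g₁⁻¹ 1)⁻¹ by group, hk₁s,
      zc_eq_D (b := b) hE.anti, D_inv, D_mul, D_mul, ← nu_central hE.anti, mul_inv_cancel_right, one_mul, one_mul,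
      inv_one]
  have hk₀z : k₀ * zc a * k₀⁻¹ = pm (Equiv.swap a b) := by
    rw [hk₀, show D a b g₁⁻¹ 1 * k₁ * zc a * (D a b g₁⁻¹ 1 * k₁)⁻¹ =
      D a b g₁⁻¹ 1 * (k₁ * zc a * k₁⁻¹) * (D a b g₁⁻¹ 1)⁻¹ by group, hk₁z, D_S hE.ne, inv_mul_cancel, inv_one,
      one_mul, S_one]
  have himg : ∀ l, ∃ l', R a b (S a b (ax i j l')) (k₀ * S a b (ax i j l) * k₀⁻¹) := by
    intro l
    set u := k₀ * S a b (ax i j l) * k₀⁻¹ with hu
    have huP : u ∈ PU := by
      rw [hu, hk₀, show D a b g₁⁻¹ 1 * k₁ * S a b (ax i j l) * (D a b g₁⁻¹ 1 * k₁)⁻¹ =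
        D a b g₁⁻¹ 1 * (k₁ * S a b (ax i j l) * k₁⁻¹) * (D a b g₁⁻¹ 1)⁻¹ by group]
      exact mul_mem (mul_mem hDm (hk₁A _ (hSA l))) (inv_mem hDm)
    have hsv : S a b (ax i j l) * pm (Equiv.swap a b) * (S a b (ax i j l))⁻¹ =
        pm (Equiv.swap a b) * (zc a * zc b) := by
      rw [← S_one (a := a) (b := b), S_S hE.ne, inv_one, mul_one, ← S_nu hE.ne hE.anti]
      congr 1
      exact Subtype.ext (by simp [hE.anti.hii, ax_sq hE.anti l])
    obtain ⟨v, hv, huv⟩ : ∃ v ∈ Q, u = S a b v := by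
      refine hE.eq_S huP (by
        rw [hu, show k₀ * S a b (ax i j l) * k₀⁻¹ * (k₀ * S a b (ax i j l) * k₀⁻¹) =
          k₀ * (S a b (ax i j l) * S a b (ax i j l)) * k₀⁻¹ by group, S_mul_self hE.ne]; group) ?_
      have h1 := congrArg (fun w => k₀ * w * k₀⁻¹) hsv
      rw [show k₀ * (S a b (ax i j l) * pm (Equiv.swap a b) * (S a b (ax i j l))⁻¹) * k₀⁻¹ =
          u * (k₀ * pm (Equiv.swap a b) * k₀⁻¹) * u⁻¹ by rw [hu]; group, hk₀s,
        show k₀ * (pm (Equiv.swap a b) * (zc a * zc b)) * k₀⁻¹ =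
          (k₀ * pm (Equiv.swap a b) * k₀⁻¹) * (k₀ * (zc a * zc b) * k₀⁻¹) by group, hk₀s, hee hk₀K.2,
        zc_za_ee] at h1
      exact h1
    have hanti : pm (Equiv.swap a b) * u * (pm (Equiv.swap a b))⁻¹ = u * (zc a * zc b) := by
      have h1 := congrArg (fun w => k₀ * w * k₀⁻¹) (hE.za_S_za (ax i j l))
      rw [show k₀ * (zc a * S a b (ax i j l) * (zc a)⁻¹) * k₀⁻¹ =
          (k₀ * zc a * k₀⁻¹) * u * (k₀ * zc a * k₀⁻¹)⁻¹ by rw [hu]; group, hk₀z,
        show k₀ * (S a b (ax i j l) * (zc a * zc b)) * k₀⁻¹ = u * (k₀ * (zc a * zc b) * k₀⁻¹) by rw [hu]; group,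
        hee hk₀K.2] at h1
      exact h1
    rw [huv, ← S_nu hE.ne hE.anti, ← S_one (a := a) (b := b), S_S hE.ne, mul_one, one_mul] at hanti
    have hv2 : v⁻¹ = i * i * v := S_injective hE.ne hanti
    rcases eight_elements hE.anti hE.hi hE.hj hE.h8 hv with hs | ⟨l', hs⟩
    · exfalso
      rw [inv_eq_of_mul_eq_one_right (mul_self_eq_one hs), eq_comm, mul_eq_right] at hv2
      have h2 := congrArg (fun z : SL(2, F) => (z : M2 F)) hv2
      simp only [Matrix.SpecialLinearGroup.coe_mul, hE.anti.hii, Matrix.SpecialLinearGroup.coe_one] at h2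
      exact one_ne_zero (eq_zero_of_neg_eq h2)
    · exact ⟨l', huv ▸ R_S_of_sim hE.ne hE.anti hs.symm⟩
  choose σ hσ using himg
  refine ⟨k₀, hk₀K, σ, fun l l' e => ?_, hk₀K.2, ?_⟩
  · have h1 := ((hσ l).symm.trans (e ▸ hσ l' : R a b (S a b (ax i j (σ l))) (k₀ * S a b (ax i j l') * k₀⁻¹)))
    have h2 := R.conj hE.ne (inv_mem hk₀K.2) h1
    rw [show ∀ w, k₀⁻¹ * (k₀ * w * k₀⁻¹) * k₀⁻¹⁻¹ = w from fun w => by group,
      show ∀ w, k₀⁻¹ * (k₀ * w * k₀⁻¹) * k₀⁻¹⁻¹ = w from fun w => by group] at h2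
    exact ax_inj hE.anti (sim_of_R_S hE.ne hE.anti h2)
  · rintro (_ | _ | l)
    · show R a b (S a b 1) (k₀ * zc a * k₀⁻¹)
      rw [hk₀z, S_one]; exact R.refl _
    · show R a b (zc a) (k₀ * S a b 1 * k₀⁻¹)
      rw [S_one, hk₀s]; exact R.refl _
    · exact hσ l

/-- An element of `K` of constant class outside the Sylow subgroup on the two planes. -/
theorem Exch.exists_class (hE : Exch K Q T i j a b) :
    ∃ α ∈ Subgroup.normalizer ((Q : Subgroup SL(2, F)) : Set SL(2, F)), α ∉ Q ∧ D a b α α ∈ K := by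
  classical
  obtain ⟨k, hk, σ, hσ, hact⟩ := hE.exists_swapper
  obtain ⟨x, y, z, h0, h1, l, hl⟩ := exists_word σ hσ
  set n := one a (ax i j x) * (k * (one a (ax i j y) * (k * (one a (ax i j z) * k)))) with hn
  set π := actV x ∘ actK σ ∘ actV y ∘ actK σ ∘ actV z ∘ actK σ with hπ
  have hone : ∀ w : Fin 3, one a (ax i j w) ∈ K := fun w => hE.hK (one_mem_PP a (ax_mem hE.hi hE.hj w))
  have hnK : n ∈ K :=
    mul_mem (hone x) (mul_mem hk.1 (mul_mem (hone y) (mul_mem hk.1 (mul_mem (hone z) hk.1))))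
  have hnA : Acts i j a b n π :=
    (hE.acts_one x).mul hE.ne (hact.mul hE.ne ((hE.acts_one y).mul hE.ne (hact.mul hE.ne
      ((hE.acts_one z).mul hE.ne hact))))
  have hswap : Acts i j a b (pm (Equiv.swap a b)) (fun o => o) := by
    refine ⟨swap_mem_sup', ?_⟩
    rintro (_ | o)
    · refine Or.inr ?_
      show pm (Equiv.swap a b) * zc a * (pm (Equiv.swap a b))⁻¹ = zc a * (zc a * zc b)
      rw [← S_one (a := a) (b := b), hE.S_za_S, zc_za_ee]
    · show R a b (S a b (vv i j o)) (pm (Equiv.swap a b) * S a b (vv i j o) * (pm (Equiv.swap a b))⁻¹)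
      rw [← S_one (a := a) (b := b), S_S hE.ne, one_mul, mul_one]
      refine R_S_of_sim hE.ne hE.anti ?_
      rcases o with _ | w
      · simp only [vv, inv_one]; exact Sim.rfl'
      · right
        show (ax i j w : M2 F) = -((ax i j w)⁻¹ : SL(2, F))
        obtain ⟨w', hw'⟩ := exists_ne w
        rw [Matrix.SpecialLinearGroup.coe_inv, (ax_anti hE.anti hw'.symm).adj_left two_ne_zero, neg_neg]
  have hn0 := hnA.2 none
  rw [show π none = none from h0] at hn0
  change R a b (zc a) (n * zc a * n⁻¹) at hn0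
  obtain ⟨n', hn'K, hn'A, hn'z⟩ : ∃ n' ∈ K, Acts i j a b n' π ∧ n' * zc a * n'⁻¹ = (zc a : Sp (Fin m) F) := by
    rcases hn0 with h | h
    · exact ⟨n, hnK, hnA, h⟩
    · refine ⟨pm (Equiv.swap a b) * n, mul_mem (hE.hK hE.swap_mem.1) hnK, hswap.mul hE.ne hnA, ?_⟩
      rw [show pm (Equiv.swap a b) * n * zc a * (pm (Equiv.swap a b) * n)⁻¹ =
        pm (Equiv.swap a b) * (n * zc a * n⁻¹) * (pm (Equiv.swap a b))⁻¹ by group]
      erw [h]
      rw [zc_za_ee, zc_eq_D' hE.ne hE.anti, swap_D hE.ne, mul_inv_cancel_right, zc_eq_D (b := b) hE.anti]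
  have hn'M : n' ∈ Mon (Fin m) F := mon_of_za hE.ne hn'A.1 (Or.inl hn'z)
  obtain ⟨f, hf⟩ := exists_eq_dg_pm ⟨n', hn'M⟩
  have hout : ∀ r, ¬ (r = a ∨ r = b) → permOf ⟨n', hn'M⟩ r = r ∧ f r = 1 := by
    intro r hr
    have hp : permOf ⟨n', hn'M⟩ r = r := permOf_eq (conj_zc_of_col fun q hq => by
      show mx n' q r = 0
      rw [hn'A.1 q r (Or.inr hr), Matrix.one_apply_ne hq])
    refine ⟨hp, ?_⟩
    have h2 := hn'A.1 r r (Or.inl hr)
    rw [show n' = dg f * pm (permOf ⟨n', hn'M⟩) from hf, mx_dg_pm, hp, if_pos rfl, Matrix.one_apply_eq] at h2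
    exact Subtype.ext h2
  have hpa : permOf ⟨n', hn'M⟩ a = a := permOf_eq hn'z
  have hperm : permOf ⟨n', hn'M⟩ = 1 := by
    refine Equiv.ext fun r => ?_
    by_cases hr : r = a ∨ r = b
    · rcases hr with hr | hr
      · rw [hr]; exact hpa
      · rw [hr]
        have hnb : n' * zc b * n'⁻¹ = zc b := by
          conv_lhs => rw [← zc_za_ee (a := a)]
          rw [show n' * (zc a * (zc a * zc b)) * n'⁻¹ = n' * zc a * ((zc a * zc b) * n'⁻¹) by group,
            (sup_commute_ee hE.ne (inv_mem hn'A.1)).eq, ← mul_assoc, hn'z, zc_za_ee]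
        exact permOf_eq hnb
    · exact (hout r hr).1
  set α := f a
  set β := f b
  have hnD : n' = D a b α β := by
    rw [show n' = dg f * pm (permOf ⟨n', hn'M⟩) from hf, hperm, map_one, mul_one, D]
    congr 1
    funext e
    simp only [pairF]
    split_ifs with e1 e2
    · rw [e1]
    · rw [e2]
    · exact (hout e (by simp [e1, e2])).2
  have hSv : ∀ o, R a b (pt i j a b (π (some o))) (S a b (α * vv i j o * β⁻¹)) := fun o => by
    have := hn'A.2 (some o)
    rwa [hnD, show pt i j a b (some o) = S a b (vv i j o) from rfl, D_S hE.ne] at this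
  have hαβ : Sim α β := by
    have h2 := hSv none
    rw [show π (some none) = some none from h1] at h2
    have h3 : Sim (1 : SL(2, F)) (α * 1 * β⁻¹) := sim_of_R_S hE.ne hE.anti h2
    rw [mul_one] at h3
    have := (h3.mul (Sim.rfl' (x := β))).symm
    rwa [one_mul, inv_mul_cancel_right] at this
  have hfix : ∀ q : Option (Option (Fin 3)), π q = none → q = none := by
    intro q hq
    by_contra hne
    have e1 := hn'A.2 q
    rw [hq] at e1
    rcases q with _ | o
    · exact hne rfl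
    · rw [hnD, show pt i j a b (some o) = S a b (vv i j o) from rfl, D_S hE.ne] at e1
      have h4 := R.conj hE.ne (S_mem_sup' (1 : SL(2, F))) e1
      -- the sign change of a plane is not an exchange
      rcases e1 with e2 | e2
      · rw [show pt i j a b none = zc a from rfl, zc_eq_D (b := b) hE.anti] at e2
        exact D_ne_DS hE.ne _ _ _ _ e2.symm
      · rw [show pt i j a b none = zc a from rfl, zc_za_ee, zc_eq_D' hE.ne hE.anti] at e2
        exact D_ne_DS hE.ne _ _ _ _ e2.symm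
  have himage : ∀ w, ∃ w', π (some (some w)) = some w' ∧ Sim (α * ax i j w * α⁻¹) (vv i j w') := by
    intro w
    rcases hπw : π (some (some w)) with _ | w'
    · exact absurd (hfix _ hπw) (by simp)
    · refine ⟨w', rfl, ?_⟩
      have h2 := hSv (some w)
      rw [hπw] at h2
      exact ((Sim.rfl'.mul hαβ.inv).trans (sim_of_R_S hE.ne hE.anti h2).symm)
  have hαN : α ∈ Subgroup.normalizer ((Q : Subgroup SL(2, F)) : Set SL(2, F)) := by
    refine Subgroup.mem_normalizer_fintype fun q hq => ?_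
    rcases eight_elements hE.anti hE.hi hE.hj hE.h8 hq with e | ⟨w, e⟩
    · exact mem_of_sim hE.anti hE.hi (one_mem _) ((e.conj α).trans (by
        rw [mul_one, mul_inv_cancel]; exact Sim.rfl'))
    · obtain ⟨w', -, hs⟩ := himage w
      refine mem_of_sim hE.anti hE.hi ?_ ((e.conj α).trans hs)
      rcases w' with _ | w''
      · exact one_mem _
      · exact ax_mem hE.hi hE.hj w''
  refine ⟨α, hαN, fun hαQ => ?_, ?_⟩
  · obtain ⟨w', hw', hs⟩ := himage l
    have h2 := (sim_conj_of_mem hE.anti hE.hi hE.hj hE.h8 hαQ l).symm.trans hs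
    refine hl ?_
    show π (some (some l)) = _
    rw [hw']
    rcases w' with _ | w''
    · exact absurd h2 (ax_not_scalar hE.anti l)
    · rw [ax_inj hE.anti h2]
  · have h2 : D a b α α = n' * D a b 1 (β⁻¹ * α) := by rw [hnD, D_mul, mul_one, mul_inv_cancel_left]
    rw [h2]
    refine mul_mem hn'K (hE.hK (D_mem_PP (one_mem Q) ?_))
    refine mem_of_sim hE.anti hE.hi (one_mem _) ?_
    have := (Sim.rfl' (x := β⁻¹)).mul hαβ
    rwa [inv_mul_cancel] at this

end Cfsg.Lib.Linear.Pronormal.SpPlanes
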