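import Cfsg.Agent.Lib.Linear.Pronormal.Sp.Supp

/-!
# The monomial elements of two planes

`D g h` acts on the two planes separately and `S v` exchanges them.
-/

set_option autoImplicit false
set_option linter.unusedSectionVars false
set_option linter.style.haveILetI false

namespace Cfsg.Lib.Linear.Pronormal.SpPlanes

open Matrix
open scoped MatrixGroups

variable {ι : Type*} [Fintype ι] [DecidableEq ι] {F : Type*} [Field F]

/-- A pair as a family. -/
def pairF (a b : ι) (g h : SL(2, F)) : ι → SL(2, F) := fun e => if e = a then g else if e = b then h else 1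

/-- The element acting on each of two planes. -/
def D (a b : ι) (g h : SL(2, F)) : Sp ι F := dg (pairF a b g h)

/-- The exchange of two planes. -/
def S (a b : ι) (v : SL(2, F)) : Sp ι F := D a b v v⁻¹ * pm (Equiv.swap a b)

variable {a b : ι}

theorem D_mul (g h g' h' : SL(2, F)) : D a b g h * D a b g' h' = D a b (g * g') (h * h') := by
  rw [D, D, D, ← map_mul]
  congr 1
  funext e
  simp only [pairF, Pi.mul_apply]
  split_ifs <;> simp

theorem D_one : D a b (1 : SL(2, F)) 1 = 1 := by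
  rw [D, ← map_one dg]
  congr 1
  funext e
  simp only [pairF, Pi.one_apply]
  split_ifs <;> rfl

theorem D_inv (g h : SL(2, F)) : (D a b g h)⁻¹ = D a b g⁻¹ h⁻¹ :=
  inv_eq_of_mul_eq_one_right (by rw [D_mul, mul_inv_cancel, mul_inv_cancel, D_one])

theorem one_eq_D (g : SL(2, F)) : one a g = D a b g 1 := by
  rw [one, D]
  congr 1
  funext e
  simp only [pairF]
  by_cases h : e = a
  · subst h; simp
  · simp [h]

theorem one_eq_D' (hab : a ≠ b) (g : SL(2, F)) : one b g = D a b 1 g := by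
  rw [one, D]
  congr 1
  funext e
  simp only [pairF]
  by_cases h : e = b
  · subst h; simp [Ne.symm hab]
  · simp [h]

theorem swap_D (hab : a ≠ b) (g h : SL(2, F)) :
    (pm (Equiv.swap a b) : Sp ι F) * D a b g h = D a b h g * pm (Equiv.swap a b) := by
  rw [D, D, pm_mul_dg]
  congr 2
  funext e
  simp only [pairF, Equiv.swap_inv]
  by_cases h1 : e = a
  · subst h1; simp [Ne.symm hab]
  · by_cases h2 : e = b
    · subst h2; simp [Ne.symm hab]
    · simp [h1, h2, Equiv.swap_apply_of_ne_of_ne h1 h2]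

theorem swap_mul_self : (pm (Equiv.swap a b) : Sp ι F) * pm (Equiv.swap a b) = 1 := by
  rw [← map_mul, Equiv.swap_mul_self, map_one]

theorem DS_mul (hab : a ≠ b) (g h g' h' : SL(2, F)) :
    D a b g h * pm (Equiv.swap a b) * D a b g' h' = D a b (g * h') (h * g') * pm (Equiv.swap a b) := by
  rw [mul_assoc, swap_D hab, ← mul_assoc, D_mul]

theorem DS_sq (hab : a ≠ b) (g h : SL(2, F)) :
    D a b g h * pm (Equiv.swap a b) * (D a b g h * pm (Equiv.swap a b)) = D a b (g * h) (h * g) := by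
  rw [← mul_assoc, DS_mul hab, mul_assoc, swap_mul_self, mul_one]

theorem DS_DS (hab : a ≠ b) (g h g' h' : SL(2, F)) :
    D a b g h * pm (Equiv.swap a b) * (D a b g' h' * pm (Equiv.swap a b)) = D a b (g * h') (h * g') := by
  rw [← mul_assoc, DS_mul hab, mul_assoc, swap_mul_self, mul_one]

theorem DS_inv (hab : a ≠ b) (g h : SL(2, F)) :
    (D a b g h * pm (Equiv.swap a b))⁻¹ = D a b h⁻¹ g⁻¹ * pm (Equiv.swap a b) :=
  inv_eq_of_mul_eq_one_right (by
    rw [← mul_assoc, DS_mul hab, mul_inv_cancel, mul_inv_cancel, D_one, one_mul, swap_mul_self])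

theorem S_inv (hab : a ≠ b) (v : SL(2, F)) : (S a b v)⁻¹ = S a b v := by rw [S, DS_inv hab, inv_inv]

theorem S_mul_self (hab : a ≠ b) (v : SL(2, F)) : S a b v * S a b v = 1 := by
  nth_rw 2 [← S_inv hab v]
  exact mul_inv_cancel _

theorem S_one : S a b (1 : SL(2, F)) = pm (Equiv.swap a b) := by rw [S, inv_one, D_one, one_mul]

theorem D_S (hab : a ≠ b) (g h v : SL(2, F)) :
    D a b g h * S a b v * (D a b g h)⁻¹ = S a b (g * v * h⁻¹) := by
  rw [S, S, ← mul_assoc, D_mul, D_inv, DS_mul hab]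
  congr 2
  group

theorem S_D (hab : a ≠ b) (v g h : SL(2, F)) :
    S a b v * D a b g h * (S a b v)⁻¹ = D a b (v * h * v⁻¹) (v⁻¹ * g * v) := by
  rw [S, DS_mul hab, DS_inv hab, inv_inv, ← mul_assoc, DS_mul hab, mul_assoc, swap_mul_self, mul_one]

theorem S_S (hab : a ≠ b) (w v : SL(2, F)) :
    S a b w * S a b v * (S a b w)⁻¹ = S a b (w * v⁻¹ * w) := by
  rw [S_inv hab, S, S, S, DS_DS hab, ← mul_assoc, D_mul]
  congr 2
  group

theorem D_injective (hab : a ≠ b) {g h g' h' : SL(2, F)} (e : D a b g h = D a b g' h') : g = g' ∧ h = h' := by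
  have e1 := dg_injective e
  have ha := congrFun e1 a
  have hb := congrFun e1 b
  simp [pairF, Ne.symm hab] at ha hb
  exact ⟨ha, hb⟩

theorem S_injective (hab : a ≠ b) : Function.Injective (S a b : SL(2, F) → Sp ι F) :=
  fun v w e => (D_injective hab (mul_right_cancel e)).1

theorem D_ne_DS [NeZero (2 : F)] (hab : a ≠ b) (g h g' h' : SL(2, F)) :
    D a b g h ≠ D a b g' h' * pm (Equiv.swap a b) := by
  intro e
  have h1 : D a b (g'⁻¹ * g) (h'⁻¹ * h) = pm (Equiv.swap a b) := by
    rw [← D_mul, ← D_inv, e, inv_mul_cancel_left]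
  have h2 := congrArg (fun x => mx x a b) h1
  simp only [D, mx_dg, mx_pm, Matrix.diagonal_apply_ne _ hab, Equiv.swap_apply_right] at h2
  simp at h2

section

variable [NeZero (2 : F)] {i j : SL(2, F)}

theorem nu_central (h : Anti (i : M2 F) j) (g : SL(2, F)) : i * i * g = g * (i * i) := by
  refine Subtype.ext ?_
  simp [h.hii]

theorem nu_inv (h : Anti (i : M2 F) j) : (i * i)⁻¹ = i * i :=
  inv_eq_of_mul_eq_one_right (Subtype.ext (by simp [h.hii, mul_assoc, h.ii_mul]))

theorem zc_eq_D (h : Anti (i : M2 F) j) : (zc a : Sp ι F) = D a b (i * i) 1 := by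
  rw [← one_mul_self a i h.hii, one, ← map_mul, ← Pi.mulSingle_mul, ← one, one_eq_D]

theorem zc_eq_D' (hab : a ≠ b) (h : Anti (i : M2 F) j) : (zc b : Sp ι F) = D a b 1 (i * i) := by
  rw [← one_mul_self b i h.hii, one, ← map_mul, ← Pi.mulSingle_mul, ← one, one_eq_D' hab]

theorem ee_eq_D (hab : a ≠ b) (h : Anti (i : M2 F) j) : (zc a : Sp ι F) * zc b = D a b (i * i) (i * i) := by
  rw [zc_eq_D h, zc_eq_D' hab h, D_mul, one_mul, mul_one]

theorem S_nu (hab : a ≠ b) (h : Anti (i : M2 F) j) (v : SL(2, F)) :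
    S a b (i * i * v) = S a b v * (zc a * zc b) := by
  rw [ee_eq_D hab h, S, S, DS_mul hab]
  congr 2
  · exact (nu_central h v).trans rfl
  · rw [_root_.mul_inv_rev, nu_inv h]

theorem sup_commute_ee (hab : a ≠ b) {x : Sp ι F} (hx : x ∈ Sup' fun r => r = a ∨ r = b) :
    Commute (zc a * zc b) x := by
  apply mx_injective
  ext1 r s
  rw [mul_assoc, mx_mul, mx_zc_mul, mx_mul, mx_zc_mul, ← mul_assoc, ← mul_assoc x, mx_mul, mx_mul_zc, mx_mul,
    mx_mul_zc, mul_assoc (mx x r s)]
  by_cases hr : r = a ∨ r = b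
  · by_cases hs : s = a ∨ s = b
    · rcases hr with rfl | rfl <;> rcases hs with rfl | rfl <;> simp [hab, hab.symm]
    · rw [hx r s (Or.inr hs), Matrix.one_apply_ne fun e => hs (by rw [← e]; exact hr)]; simp
  · by_cases he : r = s
    · subst he; push Not at hr; simp [hr.1, hr.2]
    · rw [hx r s (Or.inl hr), Matrix.one_apply_ne he]; simp

theorem D_mem_sup' (g h : SL(2, F)) : D a b g h ∈ Sup' (fun r => r = a ∨ r = b) := by
  intro r s hrs
  rw [D, mx_dg, Matrix.one_apply, Matrix.diagonal_apply]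
  by_cases he : r = s
  · subst he
    rw [if_pos rfl, if_pos rfl]
    have hr : ¬ (r = a ∨ r = b) := hrs.elim id id
    push Not at hr
    simp [pairF, hr.1, hr.2]
  · rw [if_neg he, if_neg he]

theorem swap_mem_sup' : (pm (Equiv.swap a b) : Sp ι F) ∈ Sup' (fun r => r = a ∨ r = b) :=
  pm_mem_sup' fun r hr => by push Not at hr; exact Equiv.swap_apply_of_ne_of_ne hr.1 hr.2

theorem S_mem_sup' (v : SL(2, F)) : S a b v ∈ Sup' (fun r => r = a ∨ r = b) :=
  mul_mem (D_mem_sup' _ _) swap_mem_sup'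

/-- Equality up to the negation of both planes. -/
def R (a b : ι) (u u' : Sp ι F) : Prop := u' = u ∨ u' = u * (zc a * zc b)

theorem ee_sq : (zc a : Sp ι F) * zc b * (zc a * zc b) = 1 := by
  rw [show (zc a : Sp ι F) * zc b * (zc a * zc b) = zc a * (zc b * zc a) * zc b by group,
    (zc_commute b a).eq, show (zc a : Sp ι F) * (zc a * zc b) * zc b = (zc a * zc a) * (zc b * zc b) by group,
    zc_mul_self, zc_mul_self, one_mul]

theorem R.refl (u : Sp ι F) : R a b u u := Or.inl rfl

theorem R.symm {u u' : Sp ι F} : R a b u u' → R a b u' u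
  | Or.inl h => Or.inl h.symm
  | Or.inr h => Or.inr (by rw [h, mul_assoc, ee_sq, mul_one])

theorem R.trans {u v w : Sp ι F} : R a b u v → R a b v w → R a b u w
  | Or.inl h, Or.inl h' => Or.inl (h'.trans h)
  | Or.inl h, Or.inr h' => Or.inr (by rw [h', h])
  | Or.inr h, Or.inl h' => Or.inr (h'.trans h)
  | Or.inr h, Or.inr h' => Or.inl (by rw [h', h, mul_assoc, ee_sq, mul_one])

theorem R.conj (hab : a ≠ b) {g : Sp ι F} (hg : g ∈ Sup' fun r => r = a ∨ r = b) {u u' : Sp ι F} :
    R a b u u' → R a b (g * u * g⁻¹) (g * u' * g⁻¹)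
  | Or.inl h => Or.inl (by rw [h])
  | Or.inr h => Or.inr (by
      rw [h, show g * (u * (zc a * zc b)) * g⁻¹ = g * u * ((zc a * zc b) * g⁻¹) by group,
        (sup_commute_ee hab (inv_mem hg)).eq, ← mul_assoc])

theorem R_S_of_sim (hab : a ≠ b) (h : Anti (i : M2 F) j) {v w : SL(2, F)} (hs : Sim v w) :
    R a b (S a b v) (S a b w) := by
  rcases hs with e | e
  · rw [Subtype.ext e]; exact R.refl _
  · refine Or.inr ?_
    rw [← S_nu hab h]
    congr 1
    refine Subtype.ext ?_
    simp [h.hii, e]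

theorem sim_of_R_S (hab : a ≠ b) (h : Anti (i : M2 F) j) {v w : SL(2, F)} (hr : R a b (S a b v) (S a b w)) :
    Sim v w := by
  rcases hr with e | e
  · rw [S_injective hab e]; exact Sim.rfl'
  · rw [← S_nu hab h] at e
    rw [S_injective hab e]
    right
    simp [h.hii]

/-- An element of the two planes mapping a sign change to one of the two permutes the planes. -/
theorem mon_of_za (hab : a ≠ b) {w : Sp ι F} (hw : w ∈ Sup' fun r => r = a ∨ r = b)
    (h : R a b (zc a) (w * zc a * w⁻¹)) : w ∈ Mon ι F := by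
  have hz : (zc a : Sp ι F) * (zc a * zc b) = zc b := by rw [← mul_assoc, zc_mul_self, one_mul]
  intro c
  by_cases hc : c = a ∨ c = b
  · rcases hc with rfl | rfl
    · rcases h with h | h
      · exact ⟨c, h⟩
      · exact ⟨b, h.trans hz⟩
    · have hb : (zc c : Sp ι F) = zc a * (zc a * zc c) := hz.symm
      have h' : w * zc c * w⁻¹ = w * zc a * w⁻¹ * (zc a * zc c) := by
        conv_lhs => rw [hb]
        rw [show w * (zc a * (zc a * zc c)) * w⁻¹ = w * zc a * ((zc a * zc c) * w⁻¹) by group,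
          (sup_commute_ee hab (inv_mem hw)).eq, ← mul_assoc]
      rcases h with h | h
      · exact ⟨c, by rw [h', h, hz]⟩
      · exact ⟨a, by rw [h', h, mul_assoc, ee_sq, mul_one]⟩
  · refine ⟨c, conj_zc_of_col fun r hr => ?_⟩
    rw [hw r c (Or.inr hc), Matrix.one_apply_ne hr]

theorem mem_of_zc_mem_sup' {p : ι → Prop} {d : ι} (h : (zc d : Sp ι F) ∈ Sup' p) : p d := by
  by_contra hd
  have h1 := h d d (Or.inl hd)
  rw [mx_zc, if_pos rfl, if_pos rfl, Matrix.one_apply_eq] at h1
  exact one_ne_zero (eq_zero_of_neg_eq h1)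

end

end Cfsg.Lib.Linear.Pronormal.SpPlanes
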