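import Mathlib.LinearAlgebra.Matrix.Adjugate
import Mathlib.LinearAlgebra.Matrix.SpecialLinearGroup
import Mathlib.LinearAlgebra.Matrix.Trace
import Mathlib.FieldTheory.Finite.Basic
import Mathlib.Tactic.LinearCombination
import Mathlib.Tactic.NoncommRing

/-!
# Two by two matrices and anti-commuting elements of order four
-/

set_option autoImplicit false

namespace Cfsg.Lib.Linear.Pronormal.SpPlanes

open Matrix

/-- Two by two matrices. -/
abbrev M2 (F : Type*) := Matrix (Fin 2) (Fin 2) F

variable {F : Type*} [Field F]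

theorem adj_add (A B : M2 F) : adjugate (A + B) = adjugate A + adjugate B := by
  ext i j
  fin_cases i <;> fin_cases j <;> simp [adjugate_fin_two] <;> ring

theorem adj_neg (A : M2 F) : adjugate (-A) = -adjugate A := by
  rw [eq_neg_iff_add_eq_zero, ← adj_add, neg_add_cancel, adjugate_zero]

theorem adj_sub (A B : M2 F) : adjugate (A - B) = adjugate A - adjugate B := by
  rw [sub_eq_add_neg, adj_add, adj_neg, ← sub_eq_add_neg]

theorem adj_adj (A : M2 F) : adjugate (adjugate A) = A :=
  adjugate_adjugate' A |>.trans (by simp)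

theorem adj_mul_self (A : M2 F) : adjugate A * A = A.det • (1 : M2 F) := adjugate_mul A

theorem self_mul_adj (A : M2 F) : A * adjugate A = A.det • (1 : M2 F) := mul_adjugate A

theorem add_adj (A : M2 F) : A + adjugate A = A.trace • (1 : M2 F) := by
  ext i j
  fin_cases i <;> fin_cases j <;> simp [adjugate_fin_two, trace_fin_two] <;> ring

theorem det_add (A B : M2 F) : (A + B).det = A.det + B.det + (adjugate A * B).trace := by
  rw [adjugate_fin_two, det_fin_two, det_fin_two, det_fin_two, trace_fin_two]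
  simp only [Matrix.mul_apply, Fin.sum_univ_two, Matrix.add_apply, Matrix.of_apply, Matrix.cons_val_zero,
    Matrix.cons_val_one]
  ring

theorem eq_smul_of_diag {A : M2 F} (h01 : A 0 1 = 0) (h10 : A 1 0 = 0) (h : A 0 0 = A 1 1) :
    A = A 0 0 • (1 : M2 F) := by
  ext i j
  fin_cases i <;> fin_cases j <;> simp [h01, h10, h]

/-- The centraliser of a non-scalar matrix is commutative. -/
theorem mul_comm_of_commute {X Y Z : M2 F} (hX : ∀ c : F, X ≠ c • (1 : M2 F)) (hY : X * Y = Y * X)
    (hZ : X * Z = Z * X) : Y * Z = Z * Y := by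
  have key : ∀ W : M2 F, X * W = W * X → ∃ t u : F, W = t • X + u • (1 : M2 F) := by
    intro W hW
    have e : ∀ i j, (X * W) i j = (W * X) i j := fun i j => by rw [hW]
    simp only [Matrix.mul_apply, Fin.sum_univ_two] at e
    have e00 := e 0 0
    have e01 := e 0 1
    have e10 := e 1 0
    by_cases hb : X 0 1 = 0
    · by_cases hc : X 1 0 = 0
      · have hd : X 1 1 - X 0 0 ≠ 0 := fun h => hX _ (eq_smul_of_diag hb hc (sub_eq_zero.1 h).symm)
        have w01 : W 0 1 = 0 := (mul_eq_zero.1 (show W 0 1 * (X 1 1 - X 0 0) = 0 by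
          linear_combination -e01 + (W 1 1 - W 0 0) * hb)).resolve_right hd
        have w10 : W 1 0 = 0 := (mul_eq_zero.1 (show W 1 0 * (X 1 1 - X 0 0) = 0 by
          linear_combination e10 + (W 1 1 - W 0 0) * hc)).resolve_right hd
        refine ⟨(W 1 1 - W 0 0) / (X 1 1 - X 0 0), W 0 0 - (W 1 1 - W 0 0) / (X 1 1 - X 0 0) * X 0 0, ?_⟩
        ext i j
        fin_cases i <;> fin_cases j <;> simp [hb, hc, w01, w10] <;> field_simp <;> ring
      · refine ⟨W 1 0 / X 1 0, W 0 0 - W 1 0 / X 1 0 * X 0 0, ?_⟩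
        ext i j
        fin_cases i <;> fin_cases j <;> simp <;> field_simp <;>
          first | ring1 | linear_combination e00 | linear_combination -e00 | linear_combination e10 | linear_combination -e10
    · refine ⟨W 0 1 / X 0 1, W 0 0 - W 0 1 / X 0 1 * X 0 0, ?_⟩
      ext i j
      fin_cases i <;> fin_cases j <;> simp <;> field_simp <;>
        first | ring1 | linear_combination e00 | linear_combination -e00 | linear_combination e01 | linear_combination -e01
  obtain ⟨t, u, rfl⟩ := key Y hY
  obtain ⟨t', u', rfl⟩ := key Z hZ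
  simp only [mul_add, add_mul, smul_mul_assoc, mul_smul_comm, one_mul, mul_one, smul_add, smul_smul]
  rw [mul_comm t' t, mul_comm u' t, mul_comm t' u, mul_comm u' u]
  abel

/-- A pair of anti-commuting square roots of `-1`. -/
structure Anti (i j : M2 F) : Prop where
  hii : i * i = -1
  hjj : j * j = -1
  anti : j * i = -(i * j)

namespace Anti

variable {i j : M2 F}

theorem ji_mul (h : Anti i j) (X : M2 F) : j * (i * X) = -(i * (j * X)) := by
  rw [← mul_assoc, h.anti, neg_mul, mul_assoc]

theorem ii_mul (h : Anti i j) (X : M2 F) : i * (i * X) = -X := by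
  rw [← mul_assoc, h.hii, neg_mul, one_mul]

theorem jj_mul (h : Anti i j) (X : M2 F) : j * (j * X) = -X := by
  rw [← mul_assoc, h.hjj, neg_mul, one_mul]

theorem symm (h : Anti i j) : Anti j i := ⟨h.hjj, h.hii, by rw [h.anti, neg_neg]⟩

theorem kk (h : Anti i j) : i * j * (i * j) = -1 := by
  rw [mul_assoc, h.ji_mul, mul_neg, h.ii_mul, h.hjj, neg_neg]

theorem mul_anti (h : Anti i j) : Anti i (i * j) :=
  ⟨h.hii, h.kk, by rw [mul_assoc, h.anti, mul_neg]⟩

theorem scalar_of_commute (h2 : (2 : F) ≠ 0) (h : Anti i j) {X : M2 F} (hi : X * i = i * X) (hj : X * j = j * X) :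
    ∃ c : F, X = c • (1 : M2 F) := by
  by_contra hc
  push Not at hc
  have h1 := mul_comm_of_commute hc hi hj
  rw [h.anti] at h1
  have h3 : (2 : F) • (i * j) = 0 := by rw [two_smul]; nth_rw 2 [h1]; exact add_neg_cancel _
  have h4 : i * j = 0 := (smul_eq_zero.1 h3).resolve_left h2
  have h5 := h.kk
  rw [h4, mul_zero] at h5
  exact one_ne_zero (neg_eq_zero.1 h5.symm)

theorem avg (h2 : (2 : F) ≠ 0) (h : Anti i j) (M : M2 F) :
    M - i * M * i - j * M * j - i * j * M * (i * j) = (2 * M.trace) • (1 : M2 F) := by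
  obtain ⟨c, hc⟩ := h.scalar_of_commute h2 (X := M - i * M * i - j * M * j - i * j * M * (i * j)) (by
    simp only [sub_mul, mul_sub, mul_assoc, h.hii, h.hjj, h.ii_mul, h.jj_mul, h.ji_mul, h.anti, mul_neg,
      neg_mul, neg_neg, mul_one]
    abel) (by
    simp only [sub_mul, mul_sub, mul_assoc, h.hii, h.hjj, h.ii_mul, h.jj_mul, h.ji_mul, h.anti, mul_neg,
      neg_mul, neg_neg, mul_one]
    abel)
  have ht : ∀ g : M2 F, g * g = -1 → (g * M * g).trace = -M.trace := fun g hg => by
    rw [trace_mul_cycle, hg, neg_mul, one_mul, trace_neg]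
  have := congrArg trace hc
  rw [trace_sub, trace_sub, trace_sub, ht i h.hii, ht j h.hjj, ht _ h.kk, trace_smul, trace_one,
    Fintype.card_fin, smul_eq_mul, Nat.cast_ofNat] at this
  rw [hc]
  congr 1
  have h4 : 2 * (2 * M.trace - c) = 0 := by linear_combination this
  exact (sub_eq_zero.1 ((mul_eq_zero.1 h4).resolve_left h2)).symm

theorem det_eq_one_left {g : M2 F} (hg : g * g = -1) (hne : ∀ c : F, g ≠ c • (1 : M2 F)) :
    g.det = 1 ∧ adjugate g = -g := by
  have ht : g.trace = 0 := by
    have h1 : g + adjugate g = g.trace • (1 : M2 F) := add_adj g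
    have h3 := congrArg (fun X => g * X) h1
    simp only [mul_add, hg, self_mul_adj, mul_smul_comm, mul_one] at h3
    by_contra h0
    refine hne (g.trace⁻¹ * (g.det - 1)) ?_
    rw [← smul_smul, sub_smul, one_smul, show g.det • (1 : M2 F) - 1 = -1 + g.det • 1 by abel, h3,
      smul_smul, inv_mul_cancel₀ h0, one_smul]
  have hadj : adjugate g = -g := by
    have h1 := add_adj g
    rw [ht, zero_smul] at h1
    exact eq_neg_of_add_eq_zero_right h1
  have h1 := self_mul_adj g
  rw [hadj, mul_neg, hg, neg_neg] at h1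
  have := congrFun (congrFun h1 0) 0
  simp at this
  exact ⟨this.symm, hadj⟩

theorem ne_scalar (h2 : (2 : F) ≠ 0) (h : Anti i j) (c : F) : i ≠ c • (1 : M2 F) := by
  intro hc
  have h1 := h.anti
  rw [hc, mul_smul_comm, smul_mul_assoc, mul_one, one_mul] at h1
  have h3 : (2 : F) • (c • j) = 0 := by rw [two_smul]; nth_rw 2 [h1]; exact add_neg_cancel _
  have h4 := (smul_eq_zero.1 h3).resolve_left h2
  have h5 := h.hii
  rw [hc, smul_mul_assoc, one_mul, smul_smul] at h5
  rcases smul_eq_zero.1 h4 with hz | hz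
  · rw [hz, mul_zero, zero_smul] at h5
    exact one_ne_zero (neg_eq_zero.1 h5.symm)
  · have h6 := h.hjj
    rw [hz, mul_zero] at h6
    exact one_ne_zero (neg_eq_zero.1 h6.symm)

theorem adj_left (h2 : (2 : F) ≠ 0) (h : Anti i j) : adjugate i = -i :=
  (det_eq_one_left h.hii (h.ne_scalar h2)).2

theorem det_left (h2 : (2 : F) ≠ 0) (h : Anti i j) : i.det = 1 :=
  (det_eq_one_left h.hii (h.ne_scalar h2)).1

end Anti

/-- Over a finite field of odd order there is an anti-commuting pair. -/
theorem exists_anti [Finite F] : ∃ i j : M2 F, Anti i j ∧ i.det = 1 ∧ j.det = 1 := by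
  haveI := Fintype.ofFinite F
  obtain ⟨p, hp⟩ := CharP.exists F
  haveI : Fact p.Prime := ⟨CharP.char_is_prime F p⟩
  obtain ⟨a, b, hab⟩ := CharP.sq_add_sq F p (-1 : ℤ)
  have hab' : (a : F) ^ 2 + (b : F) ^ 2 = -1 := by push_cast at hab; exact hab
  refine ⟨!![0, -1; 1, 0], !![(a : F), (b : F); (b : F), -(a : F)], ⟨?_, ?_, ?_⟩, ?_, ?_⟩
  · ext i j; fin_cases i <;> fin_cases j <;> simp [Matrix.mul_apply, Fin.sum_univ_two]
  · ext i j
    fin_cases i <;> fin_cases j <;> simp [Matrix.mul_apply, Fin.sum_univ_two] <;>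
      first | linear_combination hab' | ring
  · ext i j; fin_cases i <;> fin_cases j <;> simp [Matrix.mul_apply, Fin.sum_univ_two]
  · simp [det_fin_two]
  · simp [det_fin_two]; linear_combination -hab'

end Cfsg.Lib.Linear.Pronormal.SpPlanes
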