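import Cfsg.Agent.Lib.Linear.Pronormal.Sp.Swap
import Cfsg.Agent.Lib.Linear.Pronormal.Unipotent

/-!
# Reducing the conjugating element

`Pro H g` says that `H` and its conjugate by `g` are conjugate in the group they generate.
-/

set_option autoImplicit false
set_option linter.unusedSectionVars false
set_option linter.style.haveILetI false

namespace Cfsg.Lib.Linear.Pronormal.SpPlanes

section Abstract

variable {G : Type*} [Group G] {H : Subgroup G}

/-- The subgroup generated by `H` and its conjugate. -/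
def JJ (H : Subgroup G) (g : G) : Subgroup G := H ⊔ H.map (MulAut.conj g).toMonoidHom

/-- The conjugate is a conjugate in the generated subgroup. -/
def Pro (H : Subgroup G) (g : G) : Prop :=
  ∃ y ∈ JJ H g, H.map (MulAut.conj g).toMonoidHom = H.map (MulAut.conj y).toMonoidHom

theorem map_conj_mul (a b : G) :
    H.map (MulAut.conj (a * b)).toMonoidHom =
      (H.map (MulAut.conj b).toMonoidHom).map (MulAut.conj a).toMonoidHom := by
  rw [Subgroup.map_map]
  congr 1
  ext x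
  simp [mul_assoc]

theorem map_conj_of_mem {h : G} (hh : h ∈ H) : H.map (MulAut.conj h).toMonoidHom = H := by
  refine le_antisymm ?_ fun x hx => ⟨h⁻¹ * x * h, H.mul_mem (H.mul_mem (H.inv_mem hh) hx) hh, ?_⟩
  · rintro _ ⟨x, hx, rfl⟩
    exact H.mul_mem (H.mul_mem hh hx) (H.inv_mem hh)
  · show h * (h⁻¹ * x * h) * h⁻¹ = x
    group

theorem JJ_mono {g z : G} (hz : z ∈ JJ H g) : JJ H (z * g) ≤ JJ H g := by
  refine sup_le le_sup_left ?_
  rw [map_conj_mul]
  rintro _ ⟨x, hx, rfl⟩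
  exact (JJ H g).mul_mem ((JJ H g).mul_mem hz (le_sup_right (a := H) hx)) ((JJ H g).inv_mem hz)

theorem JJ_mul_right {g p : G} (hp : p ∈ H) : JJ H (g * p) = JJ H g := by
  rw [JJ, JJ, map_conj_mul, map_conj_of_mem hp]

theorem Pro.of_mul {g z : G} (hz : z ∈ JJ H g) (h : Pro H (z * g)) : Pro H g := by
  obtain ⟨y, hy, he⟩ := h
  refine ⟨z⁻¹ * y, (JJ H g).mul_mem ((JJ H g).inv_mem hz) (JJ_mono hz hy), ?_⟩
  rw [map_conj_mul z⁻¹ y, ← he, ← map_conj_mul, inv_mul_cancel_left]

theorem Pro.mul_right {g p : G} (hp : p ∈ H) (h : Pro H g) : Pro H (g * p) := by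
  obtain ⟨y, hy, he⟩ := h
  exact ⟨y, (JJ_mul_right hp).symm ▸ hy, by rw [map_conj_mul, map_conj_of_mem hp, he]⟩

theorem Pro.of_normalizes [Finite G] {g : G} (hg : ∀ h ∈ H, g * h * g⁻¹ ∈ H) : Pro H g := by
  refine ⟨1, one_mem _, ?_⟩
  rw [map_conj_of_mem H.one_mem]
  refine Subgroup.eq_of_le_of_card_ge ?_ ?_
  · rintro _ ⟨x, hx, rfl⟩
    exact hg x hx
  · rw [Subgroup.card_map_of_injective (MulAut.conj g).injective]

theorem mem_JJ_left {g h : G} (hh : h ∈ H) : h ∈ JJ H g := le_sup_left (b := H.map (MulAut.conj g).toMonoidHom) hh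

theorem mem_JJ_conj {g h : G} (hh : h ∈ H) : g * h * g⁻¹ ∈ JJ H g :=
  le_sup_right (a := H) ⟨h, hh, rfl⟩

end Abstract

end Cfsg.Lib.Linear.Pronormal.SpPlanes
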