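import Cfsg.Agent.Lib.Linear.Pronormal.Sp.Block
import Mathlib.LinearAlgebra.FreeModule.Finite.Matrix

/-!
# Products of reflections in planes have small rank
-/

set_option autoImplicit false
set_option linter.unusedSectionVars false

namespace Cfsg.Lib.Linear.Pronormal.SpPlanes

open Matrix Finset

variable {ι : Type*} [Fintype ι] [DecidableEq ι] {F : Type*} [Field F]

section rank

variable {κ κ' : Type*} [Fintype κ] [Fintype κ']

/-- Multiplication by a matrix of blocks, linear over the field. -/
def colMap (Y : Matrix κ' κ (M2 F)) : (κ → M2 F) →ₗ[F] (κ' → M2 F) where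
  toFun v := Y *ᵥ v
  map_add' := Matrix.mulVec_add Y
  map_smul' c v := Matrix.mulVec_smul Y c v

theorem finrank_cols : Module.finrank F (κ → M2 F) = Fintype.card κ * 4 := by
  simp [Module.finrank_pi_fintype, Module.finrank_matrix]

theorem inj_right {A : Matrix ι κ' (M2 F)} {Y : Matrix κ' ι (M2 F)} (f : κ → ι)
    (h : ∀ v : κ → M2 F, ((A * Y).submatrix f f) *ᵥ v = 0 → v = 0) :
    Function.Injective (colMap (Y.submatrix id f)) := by
  rw [injective_iff_map_eq_zero]
  intro v hv
  refine h v ?_
  rw [show (A * Y).submatrix f f = A.submatrix f id * Y.submatrix id f from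
    Matrix.submatrix_mul A Y f id f Function.bijective_id, ← Matrix.mulVec_mulVec]
  show A.submatrix f id *ᵥ (colMap (Y.submatrix id f) v) = 0
  rw [hv, Matrix.mulVec_zero]

/-- A product through few columns has no large invertible principal submatrix. -/
theorem card_le_of_factor {A : Matrix ι κ' (M2 F)} {Y : Matrix κ' ι (M2 F)} (f : κ → ι)
    (h : ∀ v : κ → M2 F, ((A * Y).submatrix f f) *ᵥ v = 0 → v = 0) :
    Fintype.card κ ≤ Fintype.card κ' := by
  have := LinearMap.finrank_le_finrank_of_injective (inj_right f h)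
  rw [finrank_cols, finrank_cols] at this
  omega

/-- If an invertible principal submatrix uses all columns, a vanishing row comes from a vanishing row. -/
theorem row_eq_zero_of_factor {A : Matrix ι κ' (M2 F)} {Y : Matrix κ' ι (M2 F)} (f : κ → ι)
    (hc : Fintype.card κ' ≤ Fintype.card κ)
    (h : ∀ v : κ → M2 F, ((A * Y).submatrix f f) *ᵥ v = 0 → v = 0) {r : ι} (hr : ∀ k, (A * Y) r (f k) = 0) :
    ∀ a, A r a = 0 := by
  classical
  have hi := inj_right f h
  have hs : Function.Surjective (colMap (Y.submatrix id f)) :=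
    (LinearMap.injective_iff_surjective_of_finrank_eq_finrank (by
      have := LinearMap.finrank_le_finrank_of_injective hi
      rw [finrank_cols, finrank_cols] at this ⊢
      omega)).1 hi
  intro a
  obtain ⟨v, hv⟩ := hs (Pi.single a 1)
  have h0 : A r a = ∑ b, A r b * (Pi.single a (1 : M2 F) : κ' → M2 F) b := by
    rw [Finset.sum_eq_single a (fun b _ hb => by simp [hb]) (by simp)]; simp
  rw [h0, ← hv]
  show ∑ b, A r b * ((Y.submatrix id f) *ᵥ v) b = 0
  simp only [Matrix.mulVec, dotProduct, Matrix.submatrix_apply, id_eq, Finset.mul_sum]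
  rw [Finset.sum_comm]
  refine Finset.sum_eq_zero fun k _ => ?_
  have := hr k
  rw [Matrix.mul_apply] at this
  simp only [← mul_assoc]
  rw [← Finset.sum_mul, this, zero_mul]

end rank

/-- The columns of the difference to one of a single reflection. -/
def oneA (φ : ι → M2 F) : Matrix ι (Fin 1) (M2 F) := Matrix.of fun r _ => φ r

/-- Its rows. -/
def oneY (φ : ι → M2 F) : Matrix (Fin 1) ι (M2 F) :=
  Matrix.of fun _ s => -(adjugate (φ s) + adjugate (φ s))

theorem reflM_sub_one (φ : ι → M2 F) : reflM φ - 1 = oneA φ * oneY φ := by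
  ext1 r s
  simp [reflM, oneA, oneY, Matrix.mul_apply, mul_add]

/-- The columns of the difference to one of a product of two reflections. -/
def twoA (ψ φ : ι → M2 F) : Matrix ι (Fin 2) (M2 F) := Matrix.of fun r a => ![ψ r, (reflM ψ *ᵥ φ) r] a

/-- Its rows. -/
def twoY (ψ φ : ι → M2 F) : Matrix (Fin 2) ι (M2 F) :=
  Matrix.of fun a s => ![-(adjugate (ψ s) + adjugate (ψ s)), -(adjugate (φ s) + adjugate (φ s))] a

theorem mul_rk_apply (M : BM ι F) (φ : ι → M2 F) (r s : ι) :
    (M * rk φ) r s = (M *ᵥ φ) r * adjugate (φ s) := by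
  simp [Matrix.mul_apply, Matrix.mulVec, dotProduct, Finset.sum_mul, mul_assoc]

theorem prod_sub_one (ψ φ : ι → M2 F) : reflM ψ * reflM φ - 1 = twoA ψ φ * twoY ψ φ := by
  ext1 r s
  have e : reflM ψ * reflM φ - 1 = (reflM ψ - 1) - (reflM ψ * rk φ + reflM ψ * rk φ) := by
    rw [show reflM φ = 1 - (rk φ + rk φ) from rfl, mul_sub, mul_one, mul_add]; abel
  rw [e]
  rw [Matrix.sub_apply, Matrix.sub_apply, Matrix.add_apply, mul_rk_apply]
  simp only [Matrix.mul_apply, Fin.sum_univ_two, twoA, twoY,
    Matrix.of_apply, Matrix.cons_val_zero, Matrix.cons_val_one, mul_neg, mul_add]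
  rw [show reflM ψ r s - (1 : BM ι F) r s = -(ψ r * adjugate (ψ s) + ψ r * adjugate (ψ s)) by
    rw [reflM, Matrix.sub_apply, Matrix.add_apply, rk_apply]; abel]
  abel

theorem commute_zc_of_eq_zero [NeZero (2 : F)] {φ : ι → M2 F} (h : nrm φ = 1) {c : ι} (hc : φ c = 0) :
    Commute (refl φ h) (zc c : Sp ι F) := by
  rw [commute_zc_iff]
  intro r hr
  rw [mx_refl, reflM]
  constructor <;> simp [hc, hr, Ne.symm hr, adjugate_zero]

end Cfsg.Lib.Linear.Pronormal.SpPlanes
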