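import Cfsg.Agent.Lib.Linear.Pronormal.Sp.Two
import Cfsg.Agent.Lib.Coprime.Action
import Cfsg.Agent.Lib.Linear.GLTwo
import Cfsg.Agent.S2431

/-!
# A Sylow `2`-subgroup of `SL₂` and its normaliser

When the Sylow subgroup is not self-normalising it is the quaternion group of order eight and an element of the
normaliser outside it moves the three axes.
-/

set_option autoImplicit false
set_option linter.unusedSectionVars false

namespace Cfsg.Lib.Linear.Pronormal.SpPlanes

open Matrix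
open scoped MatrixGroups

variable {F : Type*} [Field F] [NeZero (2 : F)]

/-- Equality up to sign. -/
def Sim (x y : SL(2, F)) : Prop := (x : M2 F) = y ∨ (x : M2 F) = -(y : M2 F)

theorem Sim.rfl' {x : SL(2, F)} : Sim x x := Or.inl rfl

theorem Sim.symm {x y : SL(2, F)} : Sim x y → Sim y x
  | Or.inl h => Or.inl h.symm
  | Or.inr h => Or.inr (by rw [h, neg_neg])

theorem Sim.trans {x y z : SL(2, F)} (h : Sim x y) (h' : Sim y z) : Sim x z := by
  rcases h with h | h <;> rcases h' with h' | h'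
  · exact Or.inl (h.trans h')
  · exact Or.inr (h.trans h')
  · exact Or.inr (by rw [h, h'])
  · exact Or.inl (by rw [h, h', neg_neg])

theorem Sim.mul {x y x' y' : SL(2, F)} (h : Sim x y) (h' : Sim x' y') : Sim (x * x') (y * y') := by
  simp only [Sim, Matrix.SpecialLinearGroup.coe_mul]
  rcases h with h | h <;> rcases h' with h' | h' <;> simp [h, h']

theorem Sim.inv {x y : SL(2, F)} (h : Sim x y) : Sim x⁻¹ y⁻¹ := by
  simp only [Sim, Matrix.SpecialLinearGroup.coe_inv]
  rcases h with h | h <;> simp [h, adj_neg]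

theorem Sim.conj {x y : SL(2, F)} (a : SL(2, F)) (h : Sim x y) : Sim (a * x * a⁻¹) (a * y * a⁻¹) :=
  (Sim.rfl'.mul h).mul Sim.rfl'

theorem sim_one_of_scalar {g : SL(2, F)} {c : F} (h : (g : M2 F) = c • (1 : M2 F)) : Sim g 1 := by
  have hd := g.2
  rw [h, Matrix.det_smul, Matrix.det_one, Fintype.card_fin, mul_one] at hd
  rcases sq_eq_one_iff.1 hd with e | e <;> rw [e] at h <;> simp only [Sim, Matrix.SpecialLinearGroup.coe_one]
  · exact Or.inl (by rw [h, one_smul])
  · exact Or.inr (by rw [h, neg_smul, one_smul])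

theorem mul_self_eq_one {g : SL(2, F)} (h : Sim g 1) : g * g = 1 := by
  apply Subtype.ext
  rw [Matrix.SpecialLinearGroup.coe_mul]
  rcases h with h | h <;> simp [h]

theorem eq_one_of_odd {g : SL(2, F)} [Finite F] (h : Sim g 1) (ho : Odd (orderOf g)) : g = 1 := by
  have h2 : orderOf g ∣ 2 := orderOf_dvd_of_pow_eq_one (by rw [pow_two, mul_self_eq_one h])
  rcases (Nat.dvd_prime Nat.prime_two).1 h2 with e | e
  · exact orderOf_eq_one_iff.1 e
  · rw [e] at ho; exact absurd ho (by decide)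

theorem Anti.neg_right {i j : M2 F} (h : Anti i j) : Anti i (-j) :=
  ⟨h.hii, by rw [neg_mul_neg, h.hjj], by rw [neg_mul, mul_neg, h.anti]⟩

variable {i j : SL(2, F)}

/-- The three axes. -/
def ax (i j : SL(2, F)) : Fin 3 → SL(2, F) := ![i, j, i * j]

theorem ax_anti (h : Anti (i : M2 F) j) {a b : Fin 3} (hab : a ≠ b) :
    Anti (ax i j a : M2 F) (ax i j b) := by
  have h1 : Anti (i : M2 F) ((i : M2 F) * j) := h.mul_anti
  have h2 : Anti (j : M2 F) ((i : M2 F) * j) := by
    have := h.symm.mul_anti.neg_right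
    rwa [h.anti, neg_neg] at this
  fin_cases a <;> fin_cases b <;> first
    | exact absurd rfl hab
    | (simp [ax]; first | exact h | exact h.symm | exact h1 | exact h1.symm | exact h2 | exact h2.symm)

theorem ax_sq (h : Anti (i : M2 F) j) (a : Fin 3) : (ax i j a : M2 F) * ax i j a = -1 := by
  obtain ⟨b, hb⟩ := exists_ne a
  exact (ax_anti h hb.symm).hii

theorem ax_mul (h : Anti (i : M2 F) j) {a b c : Fin 3} (hab : a ≠ b) (hca : c ≠ a) (hcb : c ≠ b) :
    Sim (ax i j a * ax i j b) (ax i j c) := by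
  fin_cases a <;> fin_cases b <;> fin_cases c <;>
    first
      | exact absurd rfl hab
      | exact absurd rfl hca
      | exact absurd rfl hcb
      | (simp [ax, Sim, h.anti, h.hii, h.hjj, h.ii_mul, h.ji_mul, mul_assoc])

theorem ax_not_scalar (h : Anti (i : M2 F) j) (a : Fin 3) : ¬ Sim (ax i j a) 1 := fun hs => by
  have h1 := ax_sq h a
  rw [← Matrix.SpecialLinearGroup.coe_mul, mul_self_eq_one hs, Matrix.SpecialLinearGroup.coe_one] at h1
  exact one_ne_zero (eq_zero_of_neg_eq h1.symm)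

theorem ax_inj (h : Anti (i : M2 F) j) {a b : Fin 3} (hs : Sim (ax i j a) (ax i j b)) : a = b := by
  by_contra hab
  have hx := ax_anti h hab
  have h0 : (ax i j a : M2 F) * ax i j b = 0 := by
    refine eq_zero_of_neg_eq ?_
    rw [← hx.anti]
    rcases hs with e | e <;> simp [e]
  have := hx.kk
  rw [h0, zero_mul] at this
  exact one_ne_zero (neg_eq_zero.1 this.symm)

variable (Q : Sylow 2 SL(2, F))

/-- An element commuting up to sign with both generators is, up to sign, one of eight. -/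
theorem sim_of_conj (h : Anti (i : M2 F) j) {a : SL(2, F)} (hi : Sim (a * i * a⁻¹) i)
    (hj : Sim (a * j * a⁻¹) j) : Sim a 1 ∨ ∃ b, Sim a (ax i j b) := by
  have key : ∀ {g x : SL(2, F)}, Sim (g * x * g⁻¹) x →
      ((g : M2 F) * x = x * g ∨ (g : M2 F) * x = -((x : M2 F) * g)) := by
    intro g x hs
    rcases hs with e | e <;> [left; right] <;>
    · have := congrArg (fun M => M * (g : M2 F)) e
      rw [← Matrix.SpecialLinearGroup.coe_mul, inv_mul_cancel_right, Matrix.SpecialLinearGroup.coe_mul] at this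
      simpa using this
  have fin : ∀ g : SL(2, F), (g : M2 F) * i = i * g → (g : M2 F) * j = j * g → Sim g 1 := fun g e e' => by
    obtain ⟨c, hc⟩ := h.scalar_of_commute two_ne_zero e e'
    exact sim_one_of_scalar hc
  -- multiply by the axis anti-commuting in the same way
  have key2 : ∀ b : Fin 3, (((ax i j b * a : SL(2, F)) : M2 F) * i = i * ((ax i j b * a : SL(2, F)) : M2 F)) →
      (((ax i j b * a : SL(2, F)) : M2 F) * j = j * ((ax i j b * a : SL(2, F)) : M2 F)) → ∃ c, Sim a (ax i j c) := by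
    intro b e e'
    refine ⟨b, ?_⟩
    have h1 := (Sim.rfl' (x := ax i j b)).mul (fin _ e e')
    rw [mul_one, ← mul_assoc] at h1
    rcases h1 with e1 | e1 <;> rw [Matrix.SpecialLinearGroup.coe_mul, Matrix.SpecialLinearGroup.coe_mul, ax_sq h b,
      neg_one_mul, neg_eq_iff_eq_neg] at e1
    · exact Or.inr e1
    · exact Or.inl (by rw [e1, neg_neg])
  rcases key hi with e | e <;> rcases key hj with e' | e'
  · exact Or.inl (fin a e e')
  · refine Or.inr (key2 0 ?_ ?_) <;> simp [ax, mul_assoc, e, e', h.ji_mul, h.ii_mul]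
  · refine Or.inr (key2 1 ?_ ?_) <;> simp [ax, mul_assoc, e, e', h.ji_mul, h.jj_mul, h.anti]
  · refine Or.inr (key2 2 ?_ ?_) <;> simp [ax, mul_assoc, e, e', h.ji_mul, h.ii_mul, h.jj_mul, h.anti]

variable [Finite F]

theorem exists_sylow_anti : ∃ (Q : Sylow 2 SL(2, F)) (i j : SL(2, F)),
    Anti (i : M2 F) j ∧ i ∈ Q ∧ j ∈ Q := by
  obtain ⟨i, j, h, hi, hj⟩ := exists_anti (F := F)
  let i' : SL(2, F) := ⟨i, hi⟩
  let j' : SL(2, F) := ⟨j, hj⟩
  obtain ⟨Q, hQ⟩ := (anti_isPGroup (i := i') (j := j') h).exists_le_sylow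
  exact ⟨Q, i', j', h, hQ (Subgroup.subset_closure (by simp)), hQ (Subgroup.subset_closure (by simp))⟩

theorem ax_mem {Q : Sylow 2 SL(2, F)} (hi : i ∈ Q) (hj : j ∈ Q) (a : Fin 3) : ax i j a ∈ Q := by
  fin_cases a
  exacts [hi, hj, mul_mem hi hj]

theorem mem_of_sim {H : Subgroup SL(2, F)} (h : Anti (i : M2 F) j) (hi : i ∈ H) {x y : SL(2, F)} (hy : y ∈ H)
    (hs : Sim x y) : x ∈ H := by
  rcases hs with e | e
  · exact Subtype.ext e ▸ hy
  · have : x = i * i * y := Subtype.ext (by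
      rw [Matrix.SpecialLinearGroup.coe_mul, Matrix.SpecialLinearGroup.coe_mul, h.hii, e, neg_one_mul])
    exact this ▸ mul_mem (mul_mem hi hi) hy

/-- A Sylow subgroup that is not self-normalising has order eight. -/
theorem normalizer_data (hne : Subgroup.normalizer ((Q : Subgroup SL(2, F)) : Set SL(2, F)) ≠ Q) :
    Nat.card Q = 8 ∧ ((Q : Subgroup SL(2, F)).subgroupOf
      (Subgroup.normalizer ((Q : Subgroup SL(2, F)) : Set SL(2, F)))).index = 3 := by
  haveI : Fintype F := Fintype.ofFinite F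
  have hodd : Odd (Fintype.card F) :=
    Nat.odd_iff.2 (FiniteField.odd_card_of_char_ne_two (F := F) (fun h => two_ne_zero (α := F) (by
      haveI := ringChar.of_eq h
      exact CharTwo.two_eq_zero)))
  obtain ⟨-, h17, h35⟩ := Cfsg.Agent.S2431.result hodd Q
  have ho := Nat.odd_iff.1 hodd
  have hq : Fintype.card F % 8 = 3 ∨ Fintype.card F % 8 = 5 := by
    by_contra hc
    exact hne (h17 (by omega))
  have hQ : Nat.card Q = 8 := by
    obtain ⟨u, hu, huo⟩ : ∃ u, Fintype.card F * (Fintype.card F ^ 2 - 1) = 8 * u ∧ Odd u := by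
      obtain ⟨t, ht, ht'⟩ : ∃ t, Fintype.card F = 8 * t + 3 ∧ True ∨ Fintype.card F = 8 * t + 5 ∧ True := by
        rcases hq with h | h
        · exact ⟨Fintype.card F / 8, Or.inl ⟨by omega, trivial⟩⟩
        · exact ⟨Fintype.card F / 8, Or.inr ⟨by omega, trivial⟩⟩
      · refine ⟨(8 * t + 3) * (8 * t ^ 2 + 6 * t + 1), ?_, ?_⟩
        · rw [ht, show (8 * t + 3) ^ 2 - 1 = 8 * (8 * t ^ 2 + 6 * t + 1) by
            rw [show (8 * t + 3) ^ 2 = 8 * (8 * t ^ 2 + 6 * t + 1) + 1 by ring]; rfl]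
          ring
        · exact Nat.odd_mul.2 ⟨⟨4 * t + 1, by ring⟩, ⟨4 * t ^ 2 + 3 * t, by ring⟩⟩
      · rename_i h
        refine ⟨(8 * t + 5) * (8 * t ^ 2 + 10 * t + 3), ?_, ?_⟩
        · rw [h.1, show (8 * t + 5) ^ 2 - 1 = 8 * (8 * t ^ 2 + 10 * t + 3) by
            rw [show (8 * t + 5) ^ 2 = 8 * (8 * t ^ 2 + 10 * t + 3) + 1 by ring]; rfl]
          ring
        · exact Nat.odd_mul.2 ⟨⟨4 * t + 2, by ring⟩, ⟨4 * t ^ 2 + 5 * t + 1, by ring⟩⟩
    rw [Q.card_eq_multiplicity, Cfsg.Lib.Linear.Two.card_SL_two, hu,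
      Nat.factorization_mul (by norm_num) huo.pos.ne', Finsupp.add_apply,
      Nat.factorization_eq_zero_of_not_dvd (n := u) (fun h => Nat.not_even_iff_odd.2 huo (even_iff_two_dvd.2 h)),
      add_zero, show (8 : ℕ) = 2 ^ 3 from rfl, Nat.prime_two.factorization_pow, Finsupp.single_eq_same]
  refine ⟨hQ, ?_⟩
  have h3 := h35 hq
  have hle : (Q : Subgroup SL(2, F)) ≤ Subgroup.normalizer ((Q : Subgroup SL(2, F)) : Set SL(2, F)) :=
    Subgroup.le_normalizer
  have := Subgroup.card_mul_index ((Q : Subgroup SL(2, F)).subgroupOf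
    (Subgroup.normalizer ((Q : Subgroup SL(2, F)) : Set SL(2, F))))
  rw [Nat.card_congr (Subgroup.subgroupOfEquivOfLe hle).toEquiv, h3, mul_comm 3] at this
  exact Nat.eq_of_mul_eq_mul_left Nat.card_pos this

section NQ

variable {Q}

/-- The normaliser is abelian modulo the Sylow subgroup, of order one or three. -/
theorem nq_pow_three {a : SL(2, F)} (ha : a ∈ Subgroup.normalizer ((Q : Subgroup SL(2, F)) : Set SL(2, F))) :
    a ^ 3 ∈ Q := by
  by_cases hne : Subgroup.normalizer ((Q : Subgroup SL(2, F)) : Set SL(2, F)) = Q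
  · exact pow_mem (hne ▸ ha : a ∈ (Q : Subgroup SL(2, F))) 3
  · have hN := (Subgroup.normal_subgroupOf_iff_le_normalizer (Subgroup.le_normalizer
      (H := (Q : Subgroup SL(2, F))))).2 le_rfl
    have := Subgroup.pow_index_mem ((Q : Subgroup SL(2, F)).subgroupOf
      (Subgroup.normalizer ((Q : Subgroup SL(2, F)) : Set SL(2, F)))) ⟨a, ha⟩
    rw [(normalizer_data Q hne).2] at this
    exact this

theorem nq_pow_two_pow {a : SL(2, F)} (ha : a ∈ Subgroup.normalizer ((Q : Subgroup SL(2, F)) : Set SL(2, F)))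
    (haQ : a ∉ Q) (e : ℕ) : a ^ (2 ^ e) ∉ Q := fun h => haQ (by
  have hc : Nat.Coprime (2 ^ e) 3 := Nat.Coprime.pow_left e (by norm_num)
  have : a ^ ((Nat.gcd (2 ^ e) 3 : ℕ) : ℤ) ∈ (Q : Subgroup SL(2, F)) := by
    rw [Nat.gcd_eq_gcd_ab, _root_.zpow_add, _root_.zpow_mul, _root_.zpow_mul, zpow_natCast, zpow_natCast]
    exact mul_mem (zpow_mem h _) (zpow_mem (nq_pow_three ha) _)
  rwa [hc, Nat.cast_one, _root_.zpow_one] at this)

theorem nq_generate {a b : SL(2, F)} (ha : a ∈ Subgroup.normalizer ((Q : Subgroup SL(2, F)) : Set SL(2, F)))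
    (hb : b ∈ Subgroup.normalizer ((Q : Subgroup SL(2, F)) : Set SL(2, F))) (hbQ : b ∉ Q) :
    ∃ k : ℕ, b ^ k * a ∈ Q := by
  have hne : Subgroup.normalizer ((Q : Subgroup SL(2, F)) : Set SL(2, F)) ≠ Q := fun e => hbQ (e ▸ hb : b ∈ (Q : Subgroup SL(2, F)))
  set N := Subgroup.normalizer ((Q : Subgroup SL(2, F)) : Set SL(2, F))
  set Q' := (Q : Subgroup SL(2, F)).subgroupOf N with hQ'
  haveI : Q'.Normal := (Subgroup.normal_subgroupOf_iff_le_normalizer Subgroup.le_normalizer).2 le_rfl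
  haveI : Fact (Nat.Prime 3) := ⟨Nat.prime_three⟩
  have hb1 : ((⟨b, hb⟩ : N) : N ⧸ Q') ≠ 1 := fun h => hbQ ((QuotientGroup.eq_one_iff (N := Q') (⟨b, hb⟩ : N)).1 h)
  have := mem_powers_of_prime_card (p := 3) (normalizer_data Q hne).2 hb1 (g' := ((⟨a, ha⟩ : N) : N ⧸ Q')⁻¹)
  obtain ⟨k, hk⟩ := this
  refine ⟨k, ?_⟩
  have hm : (⟨b, hb⟩ : N) ^ k * ⟨a, ha⟩ ∈ Q' := by
    rw [← QuotientGroup.eq_one_iff, QuotientGroup.mk_mul, QuotientGroup.mk_pow]
    rw [show ((⟨b, hb⟩ : N) : N ⧸ Q') ^ k = ((⟨a, ha⟩ : N) : N ⧸ Q')⁻¹ from hk, inv_mul_cancel]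
  exact hm

theorem nq_comm {a b : SL(2, F)} (ha : a ∈ Subgroup.normalizer ((Q : Subgroup SL(2, F)) : Set SL(2, F)))
    (hb : b ∈ Subgroup.normalizer ((Q : Subgroup SL(2, F)) : Set SL(2, F))) : a * b * a⁻¹ * b⁻¹ ∈ Q := by
  set N := Subgroup.normalizer ((Q : Subgroup SL(2, F)) : Set SL(2, F))
  have hN : ∀ g ∈ N, ∀ q ∈ Q, g * q * g⁻¹ ∈ Q := fun g hg q hq => (Subgroup.mem_normalizer_iff.1 hg q).1 hq
  by_cases hbQ : b ∈ Q
  · rw [show a * b * a⁻¹ * b⁻¹ = a * b * a⁻¹ * b⁻¹ from rfl]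
    exact mul_mem (hN a ha b hbQ) (inv_mem hbQ)
  obtain ⟨k, hk⟩ := nq_generate ha hb hbQ
  obtain ⟨q, hq, rfl⟩ : ∃ q ∈ Q, a = (b ^ k)⁻¹ * q := ⟨b ^ k * a, hk, by group⟩
  rw [show (b ^ k)⁻¹ * q * b * ((b ^ k)⁻¹ * q)⁻¹ * b⁻¹ =
    ((b ^ k)⁻¹ * q * (b ^ k)⁻¹⁻¹) * (((b ^ k)⁻¹ * b) * q⁻¹ * ((b ^ k)⁻¹ * b)⁻¹) by group]
  exact mul_mem (hN _ (inv_mem (pow_mem hb k)) q hq)
    (hN _ (mul_mem (inv_mem (pow_mem hb k)) hb) _ (inv_mem hq))

variable {i j : SL(2, F)}

theorem eight_elements (h : Anti (i : M2 F) j) (hi : i ∈ Q) (hj : j ∈ Q) (h8 : Nat.card Q = 8)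
    {x : SL(2, F)} (hx : x ∈ Q) : Sim x 1 ∨ ∃ a, Sim x (ax i j a) := by
  by_contra hc
  push Not at hc
  let f : Option (Fin 3) × Bool ⊕ Unit → (Q : Subgroup SL(2, F)) := fun u => match u with
    | Sum.inl (none, false) => 1
    | Sum.inl (none, true) => ⟨i * i, mul_mem hi hi⟩
    | Sum.inl (some a, false) => ⟨ax i j a, ax_mem hi hj a⟩
    | Sum.inl (some a, true) => ⟨i * i * ax i j a, mul_mem (mul_mem hi hi) (ax_mem hi hj a)⟩
    | Sum.inr _ => ⟨x, hx⟩
  have hii : Sim (i * i) 1 := Or.inr (by rw [Matrix.SpecialLinearGroup.coe_mul, h.hii]; rfl)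
  have hiia : ∀ a, Sim (i * i * ax i j a) (ax i j a) := fun a => by
    have := hii.mul (Sim.rfl' (x := ax i j a))
    rwa [one_mul] at this
  have hne1 : i * i ≠ 1 := fun e => by
    have := congrArg (fun g : SL(2, F) => (g : M2 F)) e
    simp only [Matrix.SpecialLinearGroup.coe_mul, h.hii, Matrix.SpecialLinearGroup.coe_one] at this
    exact one_ne_zero (eq_zero_of_neg_eq this)
  have sim_of_eq : ∀ {y z : SL(2, F)}, y = z → Sim y z := fun e => e ▸ Sim.rfl'
  have hf : Function.Injective f := by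
    rintro (⟨_ | a, _ | _⟩ | _) (⟨_ | b, _ | _⟩ | _) e <;> have e' := congrArg Subtype.val e <;>
      simp only [f, OneMemClass.coe_one] at e'
    all_goals first
      | rfl
      | exact absurd e' hne1
      | exact absurd e'.symm hne1
      | exact absurd (sim_of_eq e').symm (hc.1)
      | exact absurd (sim_of_eq e') (hc.1)
      | exact absurd ((sim_of_eq e').trans hii) hc.1
      | exact absurd ((sim_of_eq e'.symm).trans hii) hc.1
      | exact absurd (sim_of_eq e') (hc.2 b)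
      | exact absurd (sim_of_eq e'.symm) (hc.2 a)
      | exact absurd ((sim_of_eq e').trans (hiia b)) (hc.2 b)
      | exact absurd ((sim_of_eq e'.symm).trans (hiia a)) (hc.2 a)
      | exact absurd (sim_of_eq e') (ax_not_scalar h a)
      | exact absurd (sim_of_eq e'.symm) (ax_not_scalar h b)
      | exact absurd ((sim_of_eq e').trans hii) (ax_not_scalar h a)
      | exact absurd ((sim_of_eq e'.symm).trans hii) (ax_not_scalar h b)
      | exact absurd ((hiia a).symm.trans (sim_of_eq e')) (ax_not_scalar h a)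
      | exact absurd ((hiia b).symm.trans (sim_of_eq e'.symm)) (ax_not_scalar h b)
      | exact absurd (((hiia a).symm.trans (sim_of_eq e')).trans hii) (ax_not_scalar h a)
      | exact absurd (((hiia b).symm.trans (sim_of_eq e'.symm)).trans hii) (ax_not_scalar h b)
      | exact congrArg (fun t => Sum.inl (some t, false)) (ax_inj h (sim_of_eq e'))
      | exact congrArg (fun t => Sum.inl (some t, true))
          (ax_inj h ((hiia a).symm.trans ((sim_of_eq e').trans (hiia b))))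
      | exact absurd (mul_eq_right.1
          ((congrArg (ax i j) (ax_inj h ((sim_of_eq e').trans (hiia b))).symm).trans e').symm) hne1
      | exact absurd (mul_eq_right.1
          (e'.trans (congrArg (ax i j) (ax_inj h ((hiia a).symm.trans (sim_of_eq e'))).symm))) hne1
  have := Nat.card_le_card_of_injective f hf
  simp at this
  omega

theorem nq_axis (h : Anti (i : M2 F) j) (hi : i ∈ Q) (hj : j ∈ Q) (h8 : Nat.card Q = 8) {a : SL(2, F)}
    (ha : a ∈ Subgroup.normalizer ((Q : Subgroup SL(2, F)) : Set SL(2, F))) (b : Fin 3) :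
    ∃ c, Sim (a * ax i j b * a⁻¹) (ax i j c) := by
  rcases eight_elements h hi hj h8 ((Subgroup.mem_normalizer_iff.1 ha _).1 (ax_mem hi hj b)) with hs | hs
  · exfalso
    refine ax_not_scalar h b ?_
    have := hs.conj a⁻¹
    rwa [show a⁻¹ * (a * ax i j b * a⁻¹) * a⁻¹⁻¹ = ax i j b by group,
      show a⁻¹ * 1 * a⁻¹⁻¹ = 1 by group] at this
  · exact hs

/-- An element of the normaliser outside the Sylow subgroup moves every axis. -/
theorem nq_moves (h : Anti (i : M2 F) j) (hi : i ∈ Q) (hj : j ∈ Q) {a : SL(2, F)}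
    (ha : a ∈ Subgroup.normalizer ((Q : Subgroup SL(2, F)) : Set SL(2, F))) (haQ : a ∉ Q) (b : Fin 3) :
    ¬ Sim (a * ax i j b * a⁻¹) (ax i j b) := by
  intro hb
  have h8 := (normalizer_data Q fun e => haQ (e ▸ ha : a ∈ (Q : Subgroup SL(2, F)))).1
  choose f hf using nq_axis h hi hj h8 ha
  have finj : Function.Injective f := fun x y e => by
    have := ((hf x).trans ((hf y).trans (by rw [e]; exact Sim.rfl')).symm).conj a⁻¹
    rw [show ∀ z, a⁻¹ * (a * z * a⁻¹) * a⁻¹⁻¹ = z from fun z => by group,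
      show ∀ z, a⁻¹ * (a * z * a⁻¹) * a⁻¹⁻¹ = z from fun z => by group] at this
    exact ax_inj h this
  have h3 : ∀ x, f (f (f x)) = x := by
    intro x
    have h1 : Sim (a ^ 3 * ax i j x * (a ^ 3)⁻¹) (ax i j (f (f (f x)))) := by
      have := (((hf x).conj a).trans (hf (f x))).conj a
      rw [show a * (a * (a * ax i j x * a⁻¹) * a⁻¹) * a⁻¹ = a ^ 3 * ax i j x * (a ^ 3)⁻¹ by
        rw [pow_succ, pow_two]; group] at this
      exact this.trans (hf _)
    have h2 : Sim (a ^ 3 * ax i j x * (a ^ 3)⁻¹) (ax i j x) := by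
      rcases eight_elements h hi hj h8 (nq_pow_three ha) with e | ⟨y, e⟩
      · have h1 := (e.mul (Sim.rfl' (x := ax i j x))).mul e.inv
        rwa [one_mul, inv_one, mul_one] at h1
      · have hy : Sim (ax i j y * ax i j x * (ax i j y)⁻¹) (ax i j x) := by
          by_cases hyx : y = x
          · subst hyx; rw [mul_inv_cancel_right]; exact Sim.rfl'
          · right
            rw [Matrix.SpecialLinearGroup.coe_mul, Matrix.SpecialLinearGroup.coe_mul,
              Matrix.SpecialLinearGroup.coe_inv, (ax_anti h hyx).adj_left two_ne_zero, mul_neg,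
              mul_assoc, (ax_anti h hyx).anti, mul_neg, (ax_anti h hyx).ii_mul, neg_neg]
        exact ((e.mul Sim.rfl').mul e.inv).trans hy
    exact ax_inj h (h1.symm.trans h2)
  have fb : f b = b := ax_inj h ((hf b).symm.trans hb)
  have hid : ∀ x, f x = x := by
    have key : ∀ g : Fin 3 → Fin 3, Function.Injective g → (∀ x, g (g (g x)) = x) → ∀ b, g b = b →
        ∀ x, g x = x := by decide
    exact key f finj h3 b fb
  refine haQ ?_
  rcases sim_of_conj h (by simpa [ax, hid] using hf 0) (by simpa [ax, hid] using hf 1) with e | ⟨c, e⟩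
  · exact mem_of_sim h hi (one_mem _) e
  · exact mem_of_sim h hi (ax_mem hi hj c) e

end NQ

end Cfsg.Lib.Linear.Pronormal.SpPlanes
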