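import Cfsg.Agent.Lib.Linear.Pronormal.Sp.SL2

/-!
# Subgroups of `SL₂` around a Sylow `2`-subgroup of order eight

If the Sylow subgroup is self-normalising in `X` then the odd part of `X` is normal, and a subgroup of `X` whose
conjugate under an element moving the axes lies in `X` is the Sylow subgroup.
-/

set_option autoImplicit false
set_option linter.unusedSectionVars false
set_option linter.style.haveILetI false

namespace Cfsg.Lib.Linear.Pronormal.SpPlanes

open Matrix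
open scoped MatrixGroups

variable {F : Type*} [Field F] [NeZero (2 : F)] [Finite F] {Q : Sylow 2 SL(2, F)} {i j : SL(2, F)}

theorem central_of_sim {z : SL(2, F)} (hz : Sim z 1) (g : SL(2, F)) : Commute z g := by
  refine Subtype.ext ?_
  rw [Matrix.SpecialLinearGroup.coe_mul, Matrix.SpecialLinearGroup.coe_mul]
  rcases hz with e | e <;> simp [e]

/-- An abelian subgroup of odd order normalised by the axes commutes with one of them. -/
theorem exists_axis_commute (h : Anti (i : M2 F) j) (R : Subgroup SL(2, F)) (hodd : Odd (Nat.card R))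
    (hab : ∀ x ∈ R, ∀ y ∈ R, x * y = y * x) (hn : ∀ b : Fin 3, ∀ x ∈ R, ax i j b * x * (ax i j b)⁻¹ ∈ R) :
    ∃ b : Fin 3, ∀ x ∈ R, Commute x (ax i j b) := by
  have inverts : ∀ b : Fin 3, (∀ x ∈ R, Commute x (ax i j b)) ∨ ∀ x ∈ R, ax i j b * x * (ax i j b)⁻¹ = x⁻¹ := by
    intro b
    set e := ax i j b with he
    have hee : Sim (e * e) 1 := Or.inr (by
      rw [Matrix.SpecialLinearGroup.coe_mul, he, ax_sq h b, Matrix.SpecialLinearGroup.coe_one])
    by_cases hfix : ∃ c ∈ R, c ≠ 1 ∧ Commute c e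
    · obtain ⟨c, hc, hc1, hce⟩ := hfix
      left
      intro x hx
      have hns : ∀ s : F, (c : M2 F) ≠ s • (1 : M2 F) := fun s hs => hc1 (eq_one_of_odd (sim_one_of_scalar hs)
        (hodd.of_dvd_nat (Subgroup.orderOf_dvd_natCard R hc)))
      refine Subtype.ext ?_
      rw [Matrix.SpecialLinearGroup.coe_mul, Matrix.SpecialLinearGroup.coe_mul]
      refine mul_comm_of_commute hns ?_ ?_ <;>
        rw [← Matrix.SpecialLinearGroup.coe_mul, ← Matrix.SpecialLinearGroup.coe_mul]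
      · rw [hab c hc x hx]
      · rw [hce.eq]
    · push Not at hfix
      right
      intro x hx
      have hu : x * (e * x * e⁻¹) ∈ R := mul_mem hx (hn b x hx)
      by_contra hne
      refine hfix _ hu (fun e1 => hne (eq_inv_of_mul_eq_one_right e1)) ?_
      show x * (e * x * e⁻¹) * e = e * (x * (e * x * e⁻¹))
      have h1 : (e * e) * x * e⁻¹ = x * e := by
        rw [(central_of_sim hee x).eq, mul_assoc x, mul_inv_cancel_right]
      have hcm := hab x hx _ (hn b x hx)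
      rw [← he] at hcm
      calc x * (e * x * e⁻¹) * e = (x * e) * x := by group
        _ = (e * e * x * e⁻¹) * x := by rw [h1]
        _ = e * ((e * x * e⁻¹) * x) := by group
        _ = e * (x * (e * x * e⁻¹)) := by rw [hcm]
  rcases inverts 0 with h0 | h0
  · exact ⟨0, h0⟩
  rcases inverts 1 with h1 | h1
  · exact ⟨1, h1⟩
  refine ⟨2, fun x hx => ?_⟩
  have e0 : i * x * i⁻¹ = x⁻¹ := h0 x hx
  have hji : j * x * j⁻¹ = x⁻¹ := h1 x hx
  show x * (i * j) = i * j * x
  have : i * j * x * (i * j)⁻¹ = x := by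
    rw [show i * j * x * (i * j)⁻¹ = i * (j * x * j⁻¹) * i⁻¹ by group, hji,
      show i * x⁻¹ * i⁻¹ = (i * x * i⁻¹)⁻¹ by group, e0, inv_inv]
  exact (mul_inv_eq_iff_eq_mul.1 this).symm

/-- The odd part of a subgroup in which the Sylow subgroup is self-normalising. -/
theorem exists_odd_part (h : Anti (i : M2 F) j) (hi : i ∈ Q) (h8 : Nat.card Q = 8) {X : Subgroup SL(2, F)}
    (hQX : (Q : Subgroup SL(2, F)) ≤ X)
    (hself : ∀ g ∈ X, g ∈ Subgroup.normalizer ((Q : Subgroup SL(2, F)) : Set SL(2, F)) → g ∈ Q) :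
    ∃ O : Subgroup SL(2, F), O ≤ X ∧ Odd (Nat.card O) ∧
      (∀ x ∈ X, Odd (orderOf x) → x ∈ O) ∧ ∀ x ∈ X, ∀ o ∈ O, x * o * x⁻¹ ∈ O := by
  classical
  haveI : Fact (Nat.Prime 2) := ⟨Nat.prime_two⟩
  have hzs : Sim (i * i) 1 := Or.inr (by rw [Matrix.SpecialLinearGroup.coe_mul, h.hii, Matrix.SpecialLinearGroup.coe_one])
  set z : X := ⟨i * i, hQX (mul_mem hi hi)⟩ with hz
  set N : Subgroup X := Subgroup.zpowers z with hN
  have hzc : ∀ g : X, Commute z g := fun g => Subtype.ext (central_of_sim hzs (g : SL(2, F))).eq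
  haveI : N.Normal := ⟨fun n hn g => by
    obtain ⟨k, rfl⟩ := hn
    refine ⟨k, ?_⟩
    show z ^ k = g * z ^ k * g⁻¹
    rw [((hzc g).zpow_left k).symm.eq, mul_inv_cancel_right]⟩
  have hzz : z * z = 1 := Subtype.ext (mul_self_eq_one hzs)
  have hz1 : z ≠ 1 := fun e => by
    have := congrArg (fun g : X => ((g : SL(2, F)) : M2 F)) e
    simp only [hz, Matrix.SpecialLinearGroup.coe_mul, h.hii, OneMemClass.coe_one,
      Matrix.SpecialLinearGroup.coe_one] at this
    exact one_ne_zero (eq_zero_of_neg_eq this)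
  have hcardN : Nat.card N = 2 := by
    rw [hN, Nat.card_zpowers]
    exact orderOf_eq_prime (by rw [pow_two, hzz]) hz1
  set P : Sylow 2 X := Q.subtype hQX with hP
  have hmemP : ∀ g : X, g ∈ (P : Subgroup X) ↔ (g : SL(2, F)) ∈ Q := fun g => by
    rw [hP, Sylow.coe_subtype, Subgroup.mem_subgroupOf]
    rfl
  have hNP : N ≤ (P : Subgroup X) := by
    rw [hN, Subgroup.zpowers_le, hmemP]; exact mul_mem hi hi
  set π := QuotientGroup.mk' N with hπ
  set P' : Sylow 2 (X ⧸ N) := P.mapSurjective (QuotientGroup.mk'_surjective N) with hP'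
  have hmemP' : ∀ g : X, π g ∈ (P' : Subgroup (X ⧸ N)) ↔ (g : SL(2, F)) ∈ Q := by
    intro g
    rw [← hmemP, hP', Sylow.coe_mapSurjective]
    constructor
    · rintro ⟨u, hu, hug⟩
      have := hNP (QuotientGroup.eq.1 hug)
      have h2 := mul_mem hu this
      rwa [mul_inv_cancel_left] at h2
    · exact fun hg => ⟨g, hg, rfl⟩
  have hcentral : Subgroup.normalizer ((P' : Subgroup (X ⧸ N)) : Set (X ⧸ N)) ≤
      Subgroup.centralizer ((P' : Subgroup (X ⧸ N)) : Set (X ⧸ N)) := by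
    intro gb hgb
    obtain ⟨g, rfl⟩ := QuotientGroup.mk'_surjective N gb
    rw [← hπ] at hgb ⊢
    have hgN : (g : SL(2, F)) ∈ Subgroup.normalizer ((Q : Subgroup SL(2, F)) : Set SL(2, F)) := by
      refine Subgroup.mem_normalizer_fintype fun q hq => ?_
      have h1 := (Subgroup.mem_normalizer_iff.1 hgb (π ⟨q, hQX hq⟩)).1 ((hmemP' _).2 hq)
      rw [← map_inv, ← map_mul, ← map_mul] at h1
      exact (hmemP' _).1 h1
    have hgP : π g ∈ (P' : Subgroup (X ⧸ N)) := (hmemP' g).2 (hself _ g.2 hgN)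
    rw [Subgroup.mem_centralizer_iff]
    intro w hw
    have hc4 : Nat.card (P' : Subgroup (X ⧸ N)) = 2 ^ 2 := by
      rw [hP', Sylow.coe_mapSurjective]
      have hk : (π.comp (P : Subgroup X).subtype).ker = N.subgroupOf (P : Subgroup X) := by
        rw [← MonoidHom.comap_ker, hπ, QuotientGroup.ker_mk']; rfl
      have h2 := Subgroup.card_mul_index (N.subgroupOf (P : Subgroup X))
      rw [Nat.card_congr (Subgroup.subgroupOfEquivOfLe hNP).toEquiv, hcardN, ← hk, Subgroup.index_ker,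
        MonoidHom.range_comp, Subgroup.range_subtype, hP, Sylow.coe_subtype,
        Nat.card_congr (Subgroup.subgroupOfEquivOfLe hQX).toEquiv, h8] at h2
      rw [hP, Sylow.coe_subtype]
      rw [hπ] at h2
      omega
    exact congrArg Subtype.val
      (IsPGroup.commutative_of_card_eq_prime_sq hc4 ⟨w, hw⟩ ⟨π g, hgP⟩)
  set T := MonoidHom.transferSylow P' hcentral with hT
  have hcompl := MonoidHom.ker_transferSylow_isComplement' P' hcentral
  set D : Subgroup X := T.ker.comap π with hD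
  have hND : N ≤ D := fun u hu => by
    rw [hD, Subgroup.mem_comap, show π u = 1 from (QuotientGroup.eq_one_iff u).2 hu]; exact one_mem _
  have hkodd : Odd (Nat.card T.ker) := by
    rw [← hcompl.index_eq_card, Nat.odd_iff]
    have := P'.not_dvd_index
    omega
  have hidx : Odd (N.subgroupOf D).index := by
    have hk : (π.comp D.subtype).ker = N.subgroupOf D := by
      rw [← MonoidHom.comap_ker, hπ, QuotientGroup.ker_mk']; rfl
    rw [← hk, Subgroup.index_ker, MonoidHom.range_comp, Subgroup.range_subtype, hD,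
      Subgroup.map_comap_eq_self_of_surjective (QuotientGroup.mk'_surjective N)]
    exact hkodd
  have hPN : IsPGroup 2 (N.subgroupOf D) :=
    IsPGroup.of_card (n := 1) (by rw [Nat.card_congr (Subgroup.subgroupOfEquivOfLe hND).toEquiv, hcardN, pow_one])
  let PD : Sylow 2 D := hPN.toSylow (by rw [Nat.odd_iff] at hidx; omega)
  have hcentD : Subgroup.normalizer ((PD : Subgroup D) : Set D) ≤ Subgroup.centralizer ((PD : Subgroup D) : Set D) := by
    intro g _
    rw [Subgroup.mem_centralizer_iff]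
    intro w hw
    obtain ⟨k, hk⟩ : (w : X) ∈ N := hw
    refine Subtype.ext ?_
    show (w : X) * g = g * w
    rw [← hk]
    exact ((hzc g).zpow_left k).eq
  set O' := (MonoidHom.transferSylow PD hcentD).ker with hO'
  have hcomplD := MonoidHom.ker_transferSylow_isComplement' PD hcentD
  have hOodd : Odd (Nat.card O') := by rw [← hcomplD.index_eq_card]; exact hidx
  refine ⟨(O'.map D.subtype).map X.subtype, Subgroup.map_subtype_le _, ?_, ?_, ?_⟩
  · rwa [Subgroup.card_map_of_injective X.subtype_injective, Subgroup.card_map_of_injective D.subtype_injective]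
  · intro x hx ho
    have hxD : (⟨x, hx⟩ : X) ∈ D := by
      rw [hD, Subgroup.mem_comap, MonoidHom.mem_ker, ← orderOf_eq_one_iff]
      have h1 : orderOf (T (π ⟨x, hx⟩)) ∣ orderOf (⟨x, hx⟩ : X) :=
        (orderOf_map_dvd T _).trans (orderOf_map_dvd π _)
      rw [← Subgroup.orderOf_coe (⟨x, hx⟩ : X)] at h1
      obtain ⟨k, hk⟩ := IsPGroup.iff_orderOf.1 P'.2 (T (π ⟨x, hx⟩))
      have hod := ho.of_dvd_nat h1
      rw [hk] at hod ⊢
      rcases k with _ | k
      · rfl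
      · rw [Nat.odd_iff, pow_succ] at hod; omega
    refine ⟨⟨x, hx⟩, ⟨⟨⟨x, hx⟩, hxD⟩, ?_, rfl⟩, rfl⟩
    show (⟨⟨x, hx⟩, hxD⟩ : D) ∈ O'
    rw [hO', MonoidHom.mem_ker, ← orderOf_eq_one_iff]
    have h1 : orderOf (MonoidHom.transferSylow PD hcentD ⟨⟨x, hx⟩, hxD⟩) ∣ orderOf x := by
      have := orderOf_map_dvd (MonoidHom.transferSylow PD hcentD) ⟨⟨x, hx⟩, hxD⟩
      rwa [← Subgroup.orderOf_coe (⟨⟨x, hx⟩, hxD⟩ : D), ← Subgroup.orderOf_coe (⟨x, hx⟩ : X)] at this
    obtain ⟨k, hk⟩ := IsPGroup.iff_orderOf.1 PD.2 (MonoidHom.transferSylow PD hcentD ⟨⟨x, hx⟩, hxD⟩)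
    have hod := ho.of_dvd_nat h1
    rw [hk] at hod ⊢
    rcases k with _ | k
    · rfl
    · rw [Nat.odd_iff, pow_succ] at hod; omega
  · rintro x hx _ ⟨_, ⟨o, ho, rfl⟩, rfl⟩
    have hmem : (⟨x, hx⟩ : X) * (o : X) * (⟨x, hx⟩ : X)⁻¹ ∈ D :=
      (inferInstance : (T.ker.comap π).Normal).conj_mem _ o.2 _
    refine ⟨_, ⟨⟨_, hmem⟩, ?_, rfl⟩, rfl⟩
    show (⟨_, hmem⟩ : D) ∈ O'
    rw [hO', MonoidHom.mem_ker, ← orderOf_eq_one_iff]
    have h0 : Odd (orderOf (⟨_, hmem⟩ : D)) := by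
      rw [← Subgroup.orderOf_coe]
      show Odd (orderOf ((⟨x, hx⟩ : X) * (o : X) * (⟨x, hx⟩ : X)⁻¹))
      rw [show orderOf ((⟨x, hx⟩ : X) * (o : X) * (⟨x, hx⟩ : X)⁻¹) = orderOf (o : X) from
        orderOf_injective (MulAut.conj (⟨x, hx⟩ : X)).toMonoidHom (MulAut.conj _).injective _, Subgroup.orderOf_coe]
      exact hOodd.of_dvd_nat (Subgroup.orderOf_dvd_natCard O' ho)
    have h1 := orderOf_map_dvd (MonoidHom.transferSylow PD hcentD) (⟨_, hmem⟩ : D)
    obtain ⟨k, hk⟩ := IsPGroup.iff_orderOf.1 PD.2 (MonoidHom.transferSylow PD hcentD ⟨_, hmem⟩)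
    have hod := h0.of_dvd_nat h1
    rw [hk] at hod ⊢
    rcases k with _ | k
    · rfl
    · rw [Nat.odd_iff, pow_succ] at hod; omega

/-- A subgroup containing the Sylow subgroup, whose conjugate by an element moving the axes stays in a subgroup
with self-normalising Sylow subgroup, is the Sylow subgroup. -/
theorem eq_sylow_of_conj_le (h : Anti (i : M2 F) j) (hi : i ∈ Q) (hj : j ∈ Q) {a : SL(2, F)}
    (ha : a ∈ Subgroup.normalizer ((Q : Subgroup SL(2, F)) : Set SL(2, F))) (haQ : a ∉ Q)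
    {X M : Subgroup SL(2, F)}
    (hself : ∀ g ∈ X, g ∈ Subgroup.normalizer ((Q : Subgroup SL(2, F)) : Set SL(2, F)) → g ∈ Q)
    (hQM : (Q : Subgroup SL(2, F)) ≤ M) (hMX : M ≤ X) (haM : ∀ m ∈ M, a * m * a⁻¹ ∈ X) :
    M = (Q : Subgroup SL(2, F)) := by
  classical
  haveI : Fact (Nat.Prime 2) := ⟨Nat.prime_two⟩
  obtain ⟨h8, -⟩ := normalizer_data Q fun e => haQ (e ▸ ha : a ∈ (Q : Subgroup SL(2, F)))
  obtain ⟨O, hOX, hOodd, hmem, hconj⟩ := exists_odd_part h hi h8 (hQM.trans hMX) hself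
  set A := (Q : Subgroup SL(2, F)) with hA
  have hAG : A ≤ Subgroup.normalizer (O : Set SL(2, F)) := fun q hq =>
    Subgroup.mem_normalizer_fintype fun o ho => hconj q (hMX (hQM hq)) o ho
  have hcop : (Nat.card A).Coprime (Nat.card O) := by
    rw [hA, h8, show 8 = 2 ^ 3 from rfl]
    exact Nat.Coprime.pow_left 3 ((Nat.coprime_two_left).2 hOodd)
  haveI : Group.IsNilpotent A := Q.2.isNilpotent
  have hsol : Group.IsSolvable A ∨ Group.IsSolvable O := Or.inl inferInstance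
  suffices hr : ∀ r : ℕ, r.Prime → r ∣ Nat.card M → r = 2 by
    refine Q.3 (fun g => ?_) hQM
    obtain ⟨k, hk⟩ : ∃ k, orderOf g = 2 ^ k := ⟨_, Nat.eq_prime_pow_of_unique_prime_dvd (orderOf_pos g).ne'
      fun {d} hd hdv => hr d hd (hdv.trans (orderOf_dvd_natCard g))⟩
    exact ⟨k, by rw [← hk, pow_orderOf_eq_one]⟩
  intro r hr hdvd
  by_contra hr2
  haveI : Fact r.Prime := ⟨hr⟩
  obtain ⟨g, hg⟩ := exists_prime_orderOf_dvd_card' r hdvd
  have hodd_r : Odd r := hr.odd_of_ne_two hr2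
  have hgO : (g : SL(2, F)) ∈ O := hmem _ (hMX g.2) (by rw [Subgroup.orderOf_coe, hg]; exact hodd_r)
  have hOMn : A ≤ Subgroup.normalizer ((O ⊓ M : Subgroup SL(2, F)) : Set SL(2, F)) := fun q hq =>
    Subgroup.mem_normalizer_fintype fun o ho =>
      ⟨hconj q (hMX (hQM hq)) o ho.1, M.mul_mem (M.mul_mem (hQM hq) ho.2) (M.inv_mem (hQM hq))⟩
  obtain ⟨S, hS⟩ := Cfsg.Lib.Coprime.exists_invariant_sylow hOMn
    (Cfsg.Lib.Coprime.coprime_of_le inf_le_left hcop) (Or.inl inferInstance) r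
  set R : Subgroup SL(2, F) := (S : Subgroup (O ⊓ M : Subgroup SL(2, F))).map (O ⊓ M).subtype with hR
  have hRp : IsPGroup r R := S.2.map _
  have hRO : R ≤ O := (Subgroup.map_subtype_le _).trans inf_le_left
  have hRM : R ≤ M := (Subgroup.map_subtype_le _).trans inf_le_right
  have hR1 : R ≠ ⊥ := by
    intro hb
    have hc : Nat.card R = 1 := by rw [hb, Subgroup.card_bot]
    rw [hR, Subgroup.card_map_of_injective (O ⊓ M).subtype_injective] at hc
    have h1 : r ∣ Nat.card (O ⊓ M : Subgroup SL(2, F)) := by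
      rw [← hg, ← Subgroup.orderOf_coe]
      exact Subgroup.orderOf_dvd_natCard _ (Subgroup.mem_inf.2 ⟨hgO, g.2⟩)
    have h2 := S.dvd_card_of_dvd_card h1
    rw [hc] at h2
    exact hr.one_lt.ne' (Nat.dvd_one.1 h2)
  set R₂ : Subgroup SL(2, F) := R.map (MulAut.conj a).toMonoidHom with hR₂
  have hR₂O : R₂ ≤ O := by
    rintro _ ⟨u, hu, rfl⟩
    refine hmem _ (haM u (hRM hu)) ?_
    show Odd (orderOf ((MulAut.conj a).toMonoidHom u))
    rw [orderOf_injective _ (MulAut.conj a).injective]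
    exact hOodd.of_dvd_nat (Subgroup.orderOf_dvd_natCard O (hRO hu))
  have hR₂n : A ≤ Subgroup.normalizer (R₂ : Set SL(2, F)) := by
    refine fun q hq => Subgroup.mem_normalizer_fintype ?_
    rintro _ ⟨u, hu, rfl⟩
    have hq' : a⁻¹ * q * a ∈ A := by
      have := (Subgroup.mem_normalizer_iff.1 (inv_mem ha) q).1 hq
      rwa [inv_inv] at this
    refine ⟨a⁻¹ * q * a * u * (a⁻¹ * q * a)⁻¹, (Subgroup.mem_normalizer_iff.1 (hS hq') u).1 hu, ?_⟩
    show a * (a⁻¹ * q * a * u * (a⁻¹ * q * a)⁻¹) * a⁻¹ = q * (a * u * a⁻¹) * q⁻¹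
    group
  obtain ⟨P₁, hP₁, hP₁n⟩ := Cfsg.Lib.Coprime.exists_invariant_sylow_ge hAG hcop hsol hRO hRp hS
  obtain ⟨P₂, hP₂, hP₂n⟩ := Cfsg.Lib.Coprime.exists_invariant_sylow_ge hAG hcop hsol hR₂O (hRp.map _) hR₂n
  obtain ⟨c, hc, hceq⟩ := Cfsg.Lib.Coprime.exists_centralizer_conj_sylow hAG hcop hsol P₁ P₂ hP₁n hP₂n
  have hc1 : c = 1 := by
    obtain ⟨hcO, hcC⟩ := hc
    obtain ⟨s, hs⟩ := h.scalar_of_commute two_ne_zero
      (X := (c : M2 F)) (by
        rw [← Matrix.SpecialLinearGroup.coe_mul, ← Matrix.SpecialLinearGroup.coe_mul,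
          (Subgroup.mem_centralizer_iff.1 hcC i hi).symm])
      (by
        rw [← Matrix.SpecialLinearGroup.coe_mul, ← Matrix.SpecialLinearGroup.coe_mul,
          (Subgroup.mem_centralizer_iff.1 hcC j hj).symm])
    exact eq_one_of_odd (sim_one_of_scalar hs) (hOodd.of_dvd_nat (Subgroup.orderOf_dvd_natCard O hcO))
  set R' : Subgroup SL(2, F) := (P₁ : Subgroup O).map O.subtype with hR'
  have hR'p : IsPGroup r R' := P₁.2.map _
  have hR₂R' : R₂ ≤ R' := by
    refine hP₂.trans ?_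
    rw [hceq, hc1]
    rintro _ ⟨u, hu, rfl⟩
    simpa using hu
  have hR'O : R' ≤ O := Subgroup.map_subtype_le _
  have hoddR' : Odd (Nat.card R') := hOodd.of_dvd_nat (Subgroup.card_dvd_of_le hR'O)
  haveI : Nontrivial R' := (Subgroup.nontrivial_iff_ne_bot R').2 fun e => hR1 (le_bot_iff.1 (hP₁.trans e.le))
  haveI := hR'p.center_nontrivial
  obtain ⟨⟨ζ, hζ⟩, hζ1⟩ := exists_ne (1 : Subgroup.center R')
  have hns : ∀ s : F, ((ζ : SL(2, F)) : M2 F) ≠ s • (1 : M2 F) := fun s hs => hζ1 (Subtype.ext (Subtype.ext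
    (eq_one_of_odd (sim_one_of_scalar hs) (hoddR'.of_dvd_nat (Subgroup.orderOf_dvd_natCard R' ζ.2)))))
  have hab : ∀ x ∈ R', ∀ y ∈ R', x * y = y * x := by
    intro x hx y hy
    refine Subtype.ext ?_
    rw [Matrix.SpecialLinearGroup.coe_mul, Matrix.SpecialLinearGroup.coe_mul]
    refine mul_comm_of_commute hns ?_ ?_ <;>
      rw [← Matrix.SpecialLinearGroup.coe_mul, ← Matrix.SpecialLinearGroup.coe_mul]
    · rw [show (ζ : SL(2, F)) * x = x * ζ from
        (congrArg Subtype.val (Subgroup.mem_center_iff.1 hζ ⟨x, hx⟩)).symm]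
    · rw [show (ζ : SL(2, F)) * y = y * ζ from
        (congrArg Subtype.val (Subgroup.mem_center_iff.1 hζ ⟨y, hy⟩)).symm]
  obtain ⟨b, hb⟩ := exists_axis_commute h R' hoddR' hab fun b x hx =>
    (Subgroup.mem_normalizer_iff.1 (hP₁n (ax_mem hi hj b)) x).1 hx
  obtain ⟨⟨ρ, hρ⟩, hρ1⟩ := (Subgroup.ne_bot_iff_exists_ne_one.1 hR1)
  refine hρ1 (Subtype.ext (show ρ = 1 from ?_))
  have h1 : Commute ρ (ax i j b) := hb ρ (hP₁ hρ)
  have h2 : Commute (a * ρ * a⁻¹) (ax i j b) := hb _ (hR₂R' ⟨ρ, hρ, rfl⟩)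
  obtain ⟨b', hb'⟩ := nq_axis h hi hj h8 (inv_mem ha) b
  have hne : b ≠ b' := by
    intro e
    subst e
    exact nq_moves h hi hj (inv_mem ha) (fun hh => haQ (by simpa using inv_mem hh)) b hb'
  have h3 : Commute (ρ : SL(2, F)) (a⁻¹ * ax i j b * a⁻¹⁻¹) := by
    have := (Commute.conj_iff a⁻¹).2 h2
    rwa [show a⁻¹ * (a * ρ * a⁻¹) * a⁻¹⁻¹ = ρ by group] at this
  obtain ⟨s, hs⟩ := (ax_anti h hne).scalar_of_commute two_ne_zero
    (X := (ρ : M2 F)) (by
      rw [← Matrix.SpecialLinearGroup.coe_mul, ← Matrix.SpecialLinearGroup.coe_mul, h1.eq])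
    (by
      have h4 := congrArg (fun g : SL(2, F) => (g : M2 F)) h3.eq
      simp only [Matrix.SpecialLinearGroup.coe_mul] at h4
      rcases hb' with e | e <;> rw [← Matrix.SpecialLinearGroup.coe_mul, ← Matrix.SpecialLinearGroup.coe_mul] at h4 <;>
        rw [e] at h4
      · exact h4
      · simpa using h4)
  exact eq_one_of_odd (sim_one_of_scalar hs) (hOodd.of_dvd_nat (Subgroup.orderOf_dvd_natCard O (hRO hρ)))

end Cfsg.Lib.Linear.Pronormal.SpPlanes
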