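import Cfsg.Agent.Lib.Linear.Pronormal.Sp.Sylow

/-!
# Elements supported on two planes

A conjugate of a sign change that is an exchange of two planes generates, with its conjugates, a subgroup of index
two in a Sylow subgroup of the symplectic group of the two planes.
-/

set_option autoImplicit false
set_option linter.unusedSectionVars false
set_option linter.style.haveILetI false

namespace Cfsg.Lib.Linear.Pronormal.SpPlanes

open Matrix
open scoped MatrixGroups

section General

variable {ι : Type*} [Fintype ι] [DecidableEq ι] {F : Type*} [Field F]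

/-- The elements acting only on the planes of `p`. -/
def Sup' (p : ι → Prop) : Subgroup (Sp ι F) where
  carrier := {x | ∀ r s, ¬ p r ∨ ¬ p s → mx x r s = (1 : BM ι F) r s}
  one_mem' r s _ := rfl
  mul_mem' {x y} hx hy r s h := by
    rw [mx_mul, Matrix.mul_apply]
    rcases h with h | h
    · rw [Finset.sum_eq_single r (fun k _ hk => by rw [hx r k (Or.inl h), Matrix.one_apply_ne (Ne.symm hk), zero_mul])
        (by simp), hx r r (Or.inl h), Matrix.one_apply_eq, one_mul, hy r s (Or.inl h)]
    · rw [Finset.sum_eq_single s (fun k _ hk => by rw [hy k s (Or.inr h), Matrix.one_apply_ne hk, mul_zero])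
        (by simp), hy s s (Or.inr h), Matrix.one_apply_eq, mul_one, hx r s (Or.inr h)]
  inv_mem' {x} hx r s h := by
    rw [mx_inv, adjT_apply, hx s r h.symm]
    exact congrFun (congrFun (adjT_one (ι := ι) (F := F)) r) s

theorem mem_sup' {p : ι → Prop} {x : Sp ι F} :
    x ∈ Sup' p ↔ ∀ r s, ¬ p r ∨ ¬ p s → mx x r s = (1 : BM ι F) r s := Iff.rfl

theorem sup'_le_spl [NeZero (2 : F)] (p : ι → Prop) [DecidablePred p] : Sup' p ≤ (Spl p : Subgroup (Sp ι F)) :=
  fun x hx r s h => by
    have h' : ¬ p r ∨ ¬ p s := by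
      by_contra hh
      push Not at hh
      exact h ⟨fun _ => hh.2, fun _ => hh.1⟩
    rw [hx r s h', Matrix.one_apply_ne fun e => h (by rw [e])]

theorem mx_conj_one (x : Sp ι F) (c : ι) (g : SL(2, F)) (r s : ι) :
    mx (x * one c g * x⁻¹) r s = (1 : BM ι F) r s + mx x r c * ((g : M2 F) - 1) * adjugate (mx x s c) := by
  have hone : mx (one c g) = 1 + Matrix.single c c ((g : M2 F) - 1) := by
    ext1 u v
    rw [mx_one_apply, Matrix.add_apply, Matrix.one_apply]
    by_cases huv : u = v
    · subst huv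
      by_cases hu : u = c
      · subst hu; simp
      · simp [hu, Ne.symm hu]
    · rw [if_neg huv, if_neg huv, Matrix.single_apply_of_ne _ _ _ _ _ (fun e => huv (e.1.symm.trans e.2)), add_zero]
  rw [mx_mul, mx_mul, mx_inv, hone, mul_add, mul_one, add_mul, mx_mul_adjT, Matrix.add_apply]
  congr 1
  rw [Matrix.mul_assoc, Matrix.mul_apply, Finset.sum_eq_single c (fun k _ hk => by
    rw [Matrix.single_mul_apply_of_ne _ _ _ _ _ hk, mul_zero]) (by simp), Matrix.single_mul_apply_same, adjT_apply,
    ← mul_assoc]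

theorem commute_one_of_row_col {c : ι} {Y : Sp ι F} (hr : ∀ s, mx Y c s = (1 : BM ι F) c s)
    (hc : ∀ r, mx Y r c = (1 : BM ι F) r c) (g : SL(2, F)) : Commute (one c g) Y := by
  apply mx_injective
  ext1 r s
  rw [mx_mul, mx_mul, Matrix.mul_apply, Matrix.mul_apply,
    Finset.sum_eq_single r (fun k _ hk => by rw [mx_one_apply, if_neg (Ne.symm hk), zero_mul]) (by simp),
    Finset.sum_eq_single s (fun k _ hk => by rw [mx_one_apply, if_neg hk, mul_zero]) (by simp),
    mx_one_apply, mx_one_apply, if_pos rfl, if_pos rfl]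
  by_cases h1 : r = c
  · subst h1
    by_cases h2 : s = r
    · subst h2; simp [hr]
    · rw [hr, Matrix.one_apply_ne (Ne.symm h2)]; simp
  · by_cases h2 : s = c
    · subst h2; rw [if_neg h1, hc, Matrix.one_apply_ne h1]; simp
    · simp [h1, h2]

theorem conj_one_commute (x : Sp ι F) (c : ι) (g h : SL(2, F)) (y : Sp ι F) (hy : mx y c c = 0) :
    Commute (x * one c g * x⁻¹) ((x * y) * one c h * (x * y)⁻¹) := by
  rw [show (x * y) * one c h * (x * y)⁻¹ = x * (y * one c h * y⁻¹) * x⁻¹ by group]
  refine (Commute.conj_iff x).2 (commute_one_of_row_col ?_ ?_ g)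
  · intro s; rw [mx_conj_one, hy, zero_mul, zero_mul, add_zero]
  · intro r; rw [mx_conj_one, hy, adjugate_zero, mul_zero, add_zero]

theorem conj_one_mem_sup' {p : ι → Prop} {x : Sp ι F} {c : ι} (hx : ∀ r, ¬ p r → mx x r c = 0) (g : SL(2, F)) :
    x * one c g * x⁻¹ ∈ Sup' p := by
  intro r s h
  rw [mx_conj_one]
  rcases h with h | h
  · rw [hx r h, zero_mul, zero_mul, add_zero]
  · rw [hx s h, adjugate_zero, mul_zero, add_zero]

theorem one_mem_sup' {p : ι → Prop} {c : ι} (hc : p c) (g : SL(2, F)) : one c g ∈ Sup' p := by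
  intro r s h
  rw [mx_one_apply, Matrix.one_apply]
  by_cases hrs : r = s
  · rw [if_pos hrs, if_pos hrs, if_neg]
    rintro rfl
    rcases h with h | h
    · exact h hc
    · exact h (hrs ▸ hc)
  · rw [if_neg hrs, if_neg hrs]

theorem pm_mem_sup' {p : ι → Prop} {σ : Equiv.Perm ι} (hσ : ∀ r, ¬ p r → σ r = r) :
    (pm σ : Sp ι F) ∈ Sup' p := by
  intro r s h
  rw [mx_pm, Matrix.one_apply]
  rcases h with h | h
  · by_cases he : r = s
    · subst he; rw [if_pos rfl, if_pos (hσ r h).symm]
    · rw [if_neg he, if_neg fun e => he (σ.injective ((hσ r h).trans e))]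
  · rw [hσ s h]

theorem commute_one_zc [NeZero (2 : F)] (c : ι) (g : SL(2, F)) : Commute (one c g) (zc c : Sp ι F) := by
  rw [commute_zc_iff]
  intro r hr
  simp [mx_one_apply, hr, Ne.symm hr]

end General

section Pair

variable {ι : Type*} [Fintype ι] [DecidableEq ι] {F : Type*} [Field F] {κ : Type*} [Fintype κ] [DecidableEq κ]

/-- Renaming the planes. -/
def spCongr (e : κ ≃ ι) : Sp ι F →* Sp κ F where
  toFun x := ofMx ((mx x).submatrix e e)
    (by rw [show adjT ((mx x).submatrix e e) = (adjT (mx x)).submatrix e e from rfl, Matrix.submatrix_mul_equiv,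
      adjT_mul_mx, Matrix.submatrix_one_equiv])
    (by rw [show adjT ((mx x).submatrix e e) = (adjT (mx x)).submatrix e e from rfl, Matrix.submatrix_mul_equiv,
      mx_mul_adjT, Matrix.submatrix_one_equiv])
  map_one' := mx_injective (by simp)
  map_mul' x y := mx_injective (by simp [mx_mul, Matrix.submatrix_mul_equiv])

theorem spCongr_injective (e : κ ≃ ι) : Function.Injective (spCongr e : Sp ι F →* Sp κ F) := fun x y h =>
  mx_injective (Matrix.ext fun r s => by
    have := congrArg (fun z => mx z (e.symm r) (e.symm s)) h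
    simpa [spCongr] using this)

variable [NeZero (2 : F)] [Finite F]

/-- The group of two planes has order dividing that of `Sp₄`. -/
theorem card_sup'_dvd {a b : ι} (hab : a ≠ b) :
    Nat.card (Sup' (fun r => r = a ∨ r = b) : Subgroup (Sp ι F)) ∣ Nat.card (Sp (Fin 2) F) := by
  set p := fun r : ι => r = a ∨ r = b with hp
  have hc : Fintype.card {r // p r} = 2 := by
    rw [Fintype.card_subtype, show (Finset.univ.filter p) = {a, b} by ext r; simp [hp], Finset.card_pair hab]
  let e : Fin 2 ≃ {r // p r} := (finCongr hc.symm).trans (Fintype.equivFin _).symm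
  let φ : (Sup' p : Subgroup (Sp ι F)) →* Sp (Fin 2) F :=
    ((spCongr e).comp (res p)).comp (Subgroup.inclusion (sup'_le_spl p))
  refine Subgroup.card_dvd_of_injective φ fun x y h => Subtype.ext (mx_injective (Matrix.ext fun r s => ?_))
  have h1 := spCongr_injective e h
  by_cases hr : p r
  · by_cases hs : p s
    · exact congrArg (fun z => mx z ⟨r, hr⟩ ⟨s, hs⟩) h1
    · rw [x.2 r s (Or.inr hs), y.2 r s (Or.inr hs)]
  · rw [x.2 r s (Or.inl hr), y.2 r s (Or.inl hr)]

theorem card_two_group_le {Q : Sylow 2 SL(2, F)} (h8 : Nat.card Q = 8) {a b : ι} (hab : a ≠ b)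
    {H : Subgroup (Sp ι F)} (hH : IsPGroup 2 H) (hle : H ≤ Sup' fun r => r = a ∨ r = b) : Nat.card H ∣ 128 := by
  haveI : Fintype F := Fintype.ofFinite F
  have hodd : Odd (Fintype.card F) :=
    Nat.odd_iff.2 (FiniteField.odd_card_of_char_ne_two (F := F) (fun h => two_ne_zero (α := F) (by
      haveI := ringChar.of_eq h
      exact CharTwo.two_eq_zero)))
  obtain ⟨n, hn⟩ := (IsPGroup.iff_card).1 hH
  have hd : 2 ^ n ∣ Nat.card (Sp (Fin 2) F) := hn ▸ (Subgroup.card_dvd_of_le hle).trans (card_sup'_dvd hab)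
  rw [Nat.prime_two.pow_dvd_iff_le_factorization Nat.card_pos.ne', factorization_card_blockSp 2 F hodd] at hd
  have h3 : (Nat.card SL(2, F)).factorization 2 = 3 := by
    have := Q.card_eq_multiplicity
    rw [h8, show (8 : ℕ) = 2 ^ 3 from rfl] at this
    exact (Nat.pow_right_injective le_rfl this).symm
  rw [h3, show (Nat.factorial 2).factorization 2 = 1 from Nat.prime_two.factorization_self] at hd
  rw [hn, show (128 : ℕ) = 2 ^ 7 from rfl]
  exact pow_dvd_pow 2 (by omega)

end Pair

end Cfsg.Lib.Linear.Pronormal.SpPlanes
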