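import Cfsg.Agent.Lib.Linear.Pronormal.Sp.Moves

/-!
# A subgroup containing the monomial Sylow subgroup is monomial or moves every plane

If it is not monomial it contains a constant element of the normaliser of `Q` outside `Q`.
-/

set_option autoImplicit false
set_option linter.unusedSectionVars false
set_option linter.style.haveILetI false

namespace Cfsg.Lib.Linear.Pronormal.SpPlanes

open Matrix
open scoped MatrixGroups

variable {m : ℕ} {F : Type*} [Field F] [NeZero (2 : F)] [Finite F]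
variable {Q : Sylow 2 SL(2, F)} {T : Sylow 2 (Equiv.Perm (Fin m))} {i j : SL(2, F)}
variable {K : Subgroup (Sp (Fin m) F)}

/-- A subgroup that is not monomial fuses a sign change with an exchange. -/
theorem exists_exch (hA : Anti (i : M2 F) j) (hi : i ∈ Q) (hj : j ∈ Q) (h8 : Nat.card Q = 8)
    (hK : PP Q T ≤ K) (hne : ¬ K ≤ Mon (Fin m) F) : ∃ a b, Exch K Q T i j a b := by
  classical
  haveI : Fact (Nat.Prime 2) := ⟨Nat.prime_two⟩
  obtain ⟨x, hx, c, hy, hyne⟩ : ∃ x ∈ K, ∃ c, x * zc c * x⁻¹ ∈ Mon (Fin m) F ∧ ∀ d, x * zc c * x⁻¹ ≠ zc d := by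
    by_contra! hh
    exact hne (setup_le_mon ⟨hA, fun c => ⟨hK (one_mem_PP c hi), hK (one_mem_PP c hj)⟩,
      fun x hx c hm => hh x hx c hm⟩)
  have hzK : zc c ∈ K := hK (by rw [← one_mul_self c i hA.hii]; exact mul_mem (one_mem_PP c hi) (one_mem_PP c hi))
  set y := x * zc c * x⁻¹ with hy'
  set H := K ⊓ Mon (Fin m) F with hH
  have hPH : PP Q T ≤ H := le_inf hK PP_le_mon
  have hy2 : y * y = 1 := by
    rw [hy', show x * zc c * x⁻¹ * (x * zc c * x⁻¹) = x * (zc c * zc c) * x⁻¹ by group, zc_mul_self]; group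
  have hyH : y ∈ H := ⟨K.mul_mem (K.mul_mem hx hzK) (K.inv_mem hx), hy⟩
  set P : Sylow 2 (Sp (Fin m) F) := Sylow.ofCard (PP Q T) (card_PP_eq Q T) with hP
  have hPle : (P : Subgroup (Sp (Fin m) F)) ≤ H := by rw [hP, Sylow.coe_ofCard]; exact hPH
  have hyp : IsPGroup 2 (Subgroup.zpowers (⟨y, hyH⟩ : H)) := by
    rintro ⟨_, n, rfl⟩
    refine ⟨1, Subtype.ext ?_⟩
    have h2 : (⟨y, hyH⟩ : H) * ⟨y, hyH⟩ = 1 := Subtype.ext hy2
    show ((⟨y, hyH⟩ : H) ^ n) ^ (2 ^ 1 : ℕ) = 1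
    rw [pow_one, pow_two, ← (Commute.refl (⟨y, hyH⟩ : H)).mul_zpow, h2, _root_.one_zpow]
  obtain ⟨S₁, hS₁⟩ := hyp.exists_le_sylow
  obtain ⟨w, hw⟩ := MulAction.exists_smul_eq H S₁ (P.subtype hPle)
  have hwy : (w : Sp (Fin m) F) * y * (w : Sp (Fin m) F)⁻¹ ∈ PP Q T := by
    have h1 : w * ⟨y, hyH⟩ * w⁻¹ ∈ (P.subtype hPle : Subgroup H) := by
      rw [← hw]
      exact Subgroup.mem_map_of_mem (MulAut.conj w).toMonoidHom (hS₁ (Subgroup.mem_zpowers _))
    rw [Sylow.coe_subtype, Subgroup.mem_subgroupOf, hP, Sylow.coe_ofCard] at h1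
    exact h1
  -- normalise the conjugate
  set x' := (w : Sp (Fin m) F) * x with hx'
  have hx'K : x' ∈ K := K.mul_mem w.2.1 hx
  set s := x' * zc c * x'⁻¹ with hs
  have hsw : s = (w : Sp (Fin m) F) * y * (w : Sp (Fin m) F)⁻¹ := by rw [hs, hx', hy']; group
  have hsP : s ∈ PP Q T := hsw ▸ hwy
  have hsne : ∀ d, s ≠ zc d := by
    intro d e
    obtain ⟨d', hd'⟩ := (inv_mem w.2.2 : (w : Sp (Fin m) F)⁻¹ ∈ Mon (Fin m) F) d
    refine hyne d' ?_
    rw [← hd', ← e, hsw]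
    group
  obtain ⟨f, hf, σ, hσ, hsf⟩ := hsP
  have href : refl (col x' c) (nrm_col x' c) = dg f * pm σ := by rw [← conj_zc_eq_refl]; exact hsf
  have hent : ∀ r q, (if r = σ q then (f r : M2 F) else 0) = (1 : BM (Fin m) F) r q -
      (mx x' r c * adjugate (mx x' q c) + mx x' r c * adjugate (mx x' q c)) := fun r q => by
    rw [← mx_dg_pm f σ r q, ← href, mx_refl, reflM, Matrix.sub_apply, Matrix.add_apply, rk_apply]; rfl
  have hoff : ∀ r q, r ≠ q → r ≠ σ q → mx x' r c * adjugate (mx x' q c) = 0 := fun r q hrq hrs => by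
    have h1 := hent r q
    rw [if_neg hrs, Matrix.one_apply_ne hrq, zero_sub, eq_comm, neg_eq_zero] at h1
    exact eq_zero_of_add_self h1
  have hcancel : ∀ r q, (mx x' q c).det ≠ 0 → mx x' r c * adjugate (mx x' q c) = 0 → mx x' r c = 0 := by
    intro r q hd h
    have h2 := congrArg (fun M => M * mx x' q c) h
    simp only [mul_assoc, adj_mul_self, zero_mul, mul_smul_comm, mul_one] at h2
    exact (smul_eq_zero.1 h2).resolve_left hd
  obtain ⟨a, ha⟩ : ∃ a, σ a ≠ a := by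
    by_contra! hh
    obtain ⟨r₀, hr₀⟩ : ∃ r, (mx x' r c).det ≠ 0 := by
      by_contra! h0
      have := sum_det_col x' c
      rw [Finset.sum_eq_zero fun r _ => h0 r] at this
      exact zero_ne_one this
    exact hsne r₀ (conj_zc_of_col fun r hr => hcancel r r₀ hr₀ (hoff r r₀ hr (by rw [hh]; exact hr)))
  set b := σ a with hb
  have hss : s * s = 1 := by
    rw [hs, show x' * zc c * x'⁻¹ * (x' * zc c * x'⁻¹) = x' * (zc c * zc c) * x'⁻¹ by group, zc_mul_self]; group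
  have hss' : dg (f * fun q => f (σ⁻¹ q)) * pm (σ * σ) = dg (1 : Fin m → SL(2, F)) * pm (1 : Equiv.Perm (Fin m)) := by
    rw [← dg_pm_mul, ← hsf, hss, map_one, map_one, one_mul]
  have hσ2 : σ * σ = 1 := by
    have h1 : permOf (⟨_, dg_pm_mem_mon (f * fun q => f (σ⁻¹ q)) (σ * σ)⟩ : Mon (Fin m) F) =
        permOf (⟨_, dg_pm_mem_mon (1 : Fin m → SL(2, F)) (1 : Equiv.Perm (Fin m))⟩ : Mon (Fin m) F) :=
      congrArg permOf (Subtype.ext hss')
    rwa [permOf_dg_pm, permOf_dg_pm] at h1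
  have hf2 : ∀ q, f q * f (σ⁻¹ q) = 1 := by
    rw [hσ2] at hss'
    exact congrFun (dg_injective (mul_right_cancel hss'))
  have hda : (mx x' a c).det ≠ 0 := by
    intro h0
    have h1 := hent a a
    rw [if_neg (Ne.symm ha), Matrix.one_apply_eq, self_mul_adj, h0, zero_smul, add_zero, sub_zero] at h1
    exact zero_ne_one h1
  have hout : ∀ r, r ≠ a → r ≠ b → σ r = r ∧ f r = 1 := by
    intro r hra hrb
    have h0 : mx x' r c = 0 := hcancel r a hda (hoff r a hra hrb)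
    have h1 := hent r r
    rw [Matrix.one_apply_eq, h0, zero_mul, add_zero, sub_zero] at h1
    by_cases he : r = σ r
    · rw [if_pos he] at h1
      exact ⟨he.symm, Subtype.ext h1⟩
    · rw [if_neg he] at h1
      exact absurd h1 zero_ne_one
  have hσb : σ b = a := by rw [hb, ← Equiv.Perm.mul_apply, hσ2, Equiv.Perm.one_apply]
  have hσe : σ = Equiv.swap a b := by
    refine Equiv.ext fun r => ?_
    by_cases hra : r = a
    · rw [hra, Equiv.swap_apply_left]
    · by_cases hrb : r = b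
      · rw [hrb, Equiv.swap_apply_right, hσb]
      · rw [Equiv.swap_apply_of_ne_of_ne hra hrb, (hout r hra hrb).1]
  have hfD : dg f = D a b (f a) (f b) := by
    rw [D]
    congr 1
    funext e
    simp only [pairF]
    split_ifs with e1 e2
    · rw [e1]
    · rw [e2]
    · exact (hout e e1 e2).2
  refine ⟨a, b, hA, hi, hj, h8, hK, Ne.symm ha, hσe ▸ hσ, D a b (f a)⁻¹ 1 * x',
    K.mul_mem (hK (D_mem_PP (inv_mem (hf a)) (one_mem Q))) hx'K, c, ?_⟩
  have hfab : f b * f a = 1 := by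
    have h1 := hf2 b
    rwa [show σ⁻¹ b = a from by rw [hb]; simp] at h1
  rw [show D a b (f a)⁻¹ 1 * x' * zc c * (D a b (f a)⁻¹ 1 * x')⁻¹ =
    D a b (f a)⁻¹ 1 * (x' * zc c * x'⁻¹) * (D a b (f a)⁻¹ 1)⁻¹ by group,
    show x' * zc c * x'⁻¹ = dg f * pm σ from hsf, hfD, hσe,
    ← mul_assoc, D_mul, D_inv, DS_mul (Ne.symm ha), inv_inv, inv_one, one_mul, inv_mul_cancel, mul_one, hfab,
    D_one, one_mul]

/-- A subgroup containing the monomial Sylow subgroup is monomial or contains a constant of the normaliser. -/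
theorem le_mon_or_exists_const {k : ℕ} (hm : m = 2 ^ k)
    (hne : Subgroup.normalizer ((Q : Subgroup SL(2, F)) : Set SL(2, F)) ≠ Q) (hK : PP Q T ≤ K) :
    K ≤ Mon (Fin m) F ∨ ∃ β ∈ Subgroup.normalizer ((Q : Subgroup SL(2, F)) : Set SL(2, F)),
      β ∉ Q ∧ dg (fun _ : Fin m => β) ∈ K := by
  classical
  refine or_iff_not_imp_left.2 fun hmon => ?_
  obtain ⟨i, j, hA, hi, hj⟩ := exists_anti_mem Q
  obtain ⟨a, b, hE⟩ := exists_exch hA hi hj (normalizer_data Q hne).1 hK hmon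
  obtain ⟨α, hαN, hαQ, hαK⟩ := hE.exists_class
  -- the product of the conjugates under `T`
  let Φ : (Fin m → Multiplicative ℤ) →* Sp (Fin m) F := dg.comp (MonoidHom.compLeft (zpowersHom SL(2, F) α) (Fin m))
  have hΦ : ∀ w : Fin m → Multiplicative ℤ, Φ w = dg fun c => α ^ Multiplicative.toAdd (w c) := fun w => rfl
  set U : Finset (Fin m) := {a, b} with hU
  let W : Equiv.Perm (Fin m) → Fin m → Multiplicative ℤ :=
    fun τ c => Multiplicative.ofAdd (if τ⁻¹ c ∈ U then 1 else 0)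
  have hW : ∀ τ ∈ T, Φ (W τ) ∈ K := by
    intro τ hτ
    have h1 : (pm τ : Sp (Fin m) F) * D a b α α * (pm τ)⁻¹ ∈ K :=
      K.mul_mem (K.mul_mem (hK (pm_mem_PP hτ)) hαK) (K.inv_mem (hK (pm_mem_PP hτ)))
    rw [D, pm_mul_dg, mul_inv_cancel_right] at h1
    rw [hΦ]
    convert h1 using 2
    funext c
    simp only [W, pairF, hU, Finset.mem_insert, Finset.mem_singleton, toAdd_ofAdd]
    by_cases e1 : τ⁻¹ c = a
    · rw [if_pos (Or.inl e1), if_pos e1, _root_.zpow_one]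
    · rw [if_neg e1]
      by_cases e2 : τ⁻¹ c = b
      · rw [if_pos (Or.inr e2), if_pos e2, _root_.zpow_one]
      · rw [if_neg (fun e => e.elim e1 e2), if_neg e2, _root_.zpow_zero]
  set TF : Finset (Equiv.Perm (Fin m)) := Finset.univ.filter (· ∈ T) with hTF
  have hprod : Φ (∏ τ ∈ TF, W τ) ∈ K := by
    have : (∏ τ ∈ TF, W τ) ∈ K.comap Φ :=
      Subgroup.prod_mem _ fun τ hτ => hW τ (Finset.mem_filter.1 hτ).2
    exact this
  let N : Fin m → ℕ := fun c => (TF.filter fun τ => τ⁻¹ c ∈ U).card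
  have hsum : ∀ c, Multiplicative.toAdd ((∏ τ ∈ TF, W τ) c) = (N c : ℤ) := fun c => by
    rw [Finset.prod_apply, toAdd_prod]
    simp only [W, toAdd_ofAdd, N, Finset.card_filter]
    push_cast
    rfl
  obtain ⟨c₀⟩ : Nonempty (Fin m) := ⟨a⟩
  have hconst : ∀ c, N c = N c₀ := by
    intro c
    obtain ⟨π, hπ, hπc⟩ := sylow_transitive hm T c₀ c
    refine Finset.card_bij' (fun τ _ => π⁻¹ * τ) (fun τ _ => π * τ) ?_ ?_ ?_ ?_
    · intro τ hτ
      simp only [Finset.mem_filter, Finset.mem_univ, true_and, hTF] at hτ ⊢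
      refine ⟨mul_mem (inv_mem hπ) hτ.1, ?_⟩
      rw [_root_.mul_inv_rev, inv_inv, Equiv.Perm.mul_apply, hπc]
      exact hτ.2
    · intro τ hτ
      simp only [Finset.mem_filter, Finset.mem_univ, true_and, hTF] at hτ ⊢
      refine ⟨mul_mem hπ hτ.1, ?_⟩
      rw [_root_.mul_inv_rev, Equiv.Perm.mul_apply, show π⁻¹ c = c₀ by rw [← hπc]; simp]
      exact hτ.2
    · intro τ _; simp
    · intro τ _; simp
  have hcount : m * N c₀ = 2 * TF.card := by
    have h1 : ∑ c : Fin m, N c = ∑ τ ∈ TF, (Finset.univ.filter fun c => τ⁻¹ c ∈ U).card := by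
      simp only [N, Finset.card_filter]
      exact Finset.sum_comm
    have h2 : ∀ τ : Equiv.Perm (Fin m), (Finset.univ.filter fun c => τ⁻¹ c ∈ U).card = 2 := fun τ => by
      rw [show (Finset.univ.filter fun c => τ⁻¹ c ∈ U) = U.map τ.toEmbedding from ?_, Finset.card_map, hU,
        Finset.card_pair hE.ne]
      ext c
      simp
    rw [Finset.sum_congr rfl fun c _ => hconst c, Finset.sum_congr rfl fun τ _ => h2 τ] at h1
    simpa [Finset.sum_const, mul_comm] using h1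
  obtain ⟨e, he⟩ : ∃ e, N c₀ = 2 ^ e := by
    haveI : Fact (Nat.Prime 2) := ⟨Nat.prime_two⟩
    obtain ⟨u, hu⟩ := (IsPGroup.iff_card).1 T.2
    have hTc : TF.card = 2 ^ u := by
      rw [← hu, Nat.card_eq_fintype_card, hTF]
      exact (Fintype.card_subtype _).symm
    have hd : N c₀ ∣ 2 ^ (u + 1) := by
      rw [pow_succ', ← hTc, ← hcount]
      exact dvd_mul_left _ _
    obtain ⟨e, -, he⟩ := (Nat.dvd_prime_pow Nat.prime_two).1 hd
    exact ⟨e, he⟩
  refine ⟨α ^ (2 ^ e), pow_mem hαN _, nq_pow_two_pow hαN hαQ e, ?_⟩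
  rw [hΦ] at hprod
  convert hprod using 2
  funext c
  rw [hsum, zpow_natCast, hconst, he]

end Cfsg.Lib.Linear.Pronormal.SpPlanes
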