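import Cfsg.Agent.Lib.Linear.Pronormal.Sp.Induction
import Cfsg.Agent.Lib.Linear.Pronormal.Sp.Iso
import Cfsg.Agent.Lib.Linear.Pronormal.Sp.Base
import Cfsg.Agent.Lib.FusionSys.AltBlocks

/-!
# A Sylow `2`-subgroup of the symplectic group on a power of two planes, and its normaliser
-/

set_option autoImplicit false
set_option linter.unusedSectionVars false
set_option linter.style.haveILetI false

namespace Cfsg.Lib.Linear.Pronormal.SpPlanes

open Matrix
open scoped MatrixGroups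

section General

variable {ι : Type*} [Fintype ι] [DecidableEq ι] {F : Type*} [Field F]

theorem pm_mul_dg (σ : Equiv.Perm ι) (f : ι → SL(2, F)) :
    (pm σ : Sp ι F) * dg f = dg (fun c => f (σ⁻¹ c)) * pm σ := by
  apply mx_injective
  ext1 r s
  rw [mx_mul, mx_mul, mx_dg, mx_dg, Matrix.mul_diagonal, Matrix.diagonal_mul, mx_pm]
  by_cases h : r = σ s
  · subst h; simp
  · simp [h]

theorem mx_dg_pm (f : ι → SL(2, F)) (σ : Equiv.Perm ι) (r c : ι) :
    mx (dg f * pm σ) r c = if r = σ c then (f r : M2 F) else 0 := by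
  rw [mx_mul, mx_dg, Matrix.diagonal_mul, mx_pm]
  by_cases h : r = σ c <;> simp [h]

theorem dg_pm_mul (f f' : ι → SL(2, F)) (σ σ' : Equiv.Perm ι) :
    dg f * pm σ * (dg f' * pm σ') = dg (f * fun c => f' (σ⁻¹ c)) * pm (σ * σ') := by
  rw [map_mul, map_mul, mul_assoc (dg f), ← mul_assoc (pm σ), pm_mul_dg]
  group

theorem conj_dg_pm (f g : ι → SL(2, F)) (σ : Equiv.Perm ι) :
    dg f * pm σ * dg g * (dg f * pm σ)⁻¹ = dg fun c => f c * g (σ⁻¹ c) * (f c)⁻¹ := by
  rw [mul_assoc (dg f), pm_mul_dg, _root_.mul_inv_rev,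
    show dg f * (dg (fun c => g (σ⁻¹ c)) * pm σ) * ((pm σ)⁻¹ * (dg f)⁻¹) =
      dg f * dg (fun c => g (σ⁻¹ c)) * (dg f)⁻¹ by group, ← map_inv, ← map_mul, ← map_mul]
  rfl

variable [NeZero (2 : F)]

theorem dg_pm_mem_mon (f : ι → SL(2, F)) (σ : Equiv.Perm ι) : dg f * pm σ ∈ Mon ι F :=
  fun c => ⟨σ c, conj_zc_of_col fun r hr => by rw [mx_dg_pm, if_neg hr]⟩

theorem permOf_dg_pm (f : ι → SL(2, F)) (σ : Equiv.Perm ι) :
    permOf (⟨_, dg_pm_mem_mon f σ⟩ : Mon ι F) = σ :=
  Equiv.ext fun c => permOf_eq (conj_zc_of_col fun r hr => by rw [mx_dg_pm, if_neg hr])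

theorem dg_mem_mon (f : ι → SL(2, F)) : dg f ∈ Mon ι F := by
  simpa using dg_pm_mem_mon f (1 : Equiv.Perm ι)

/-- Every monomial element is diagonal times a permutation. -/
theorem exists_eq_dg_pm (x : Mon ι F) : ∃ f : ι → SL(2, F), (x : Sp ι F) = dg f * pm (permOf x) := by
  have hdet : ∀ c, (mx (x : Sp ι F) (permOf x c) c).det = 1 := fun c => by
    have h := mx_mon_det x c
    rw [adj_mul_self] at h
    simpa using congrFun (congrFun h 0) 0
  refine ⟨fun r => (⟨mx (x : Sp ι F) (permOf x ((permOf x).symm r)) ((permOf x).symm r), hdet _⟩ : SL(2, F)), ?_⟩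
  apply mx_injective
  ext1 r c
  refine Eq.trans ?_ (mx_dg_pm _ _ r c).symm
  by_cases h : r = permOf x c
  · subst h; simp
  · rw [if_neg h, mx_eq_zero_of_perm x h]

theorem one_mem_mon (c : ι) (g : SL(2, F)) : one c g ∈ Mon ι F := dg_mem_mon _

theorem permOf_dg (f : ι → SL(2, F)) : permOf (⟨dg f, dg_mem_mon f⟩ : Mon ι F) = 1 :=
  Equiv.ext fun c => permOf_eq (conj_zc_of_col fun r hr => by
    show mx (dg f) r c = 0
    rw [mx_dg]; exact Matrix.diagonal_apply_ne _ (by simpa using hr))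

end General

variable {ι : Type} [Fintype ι] [DecidableEq ι] {F : Type*} [Field F] [NeZero (2 : F)]

/-- The monomial Sylow subgroup. -/
def PP (Q : Sylow 2 SL(2, F)) (T : Sylow 2 (Equiv.Perm ι)) : Subgroup (Sp ι F) where
  carrier := {x | ∃ f : ι → SL(2, F), (∀ c, f c ∈ Q) ∧ ∃ σ ∈ T, x = dg f * pm σ}
  one_mem' := ⟨1, fun _ => one_mem Q, 1, one_mem T, by simp⟩
  mul_mem' := by
    rintro _ _ ⟨f, hf, σ, hσ, rfl⟩ ⟨f', hf', σ', hσ', rfl⟩
    exact ⟨_, fun c => mul_mem (hf c) (hf' _), σ * σ', mul_mem hσ hσ', dg_pm_mul f f' σ σ'⟩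
  inv_mem' := by
    rintro _ ⟨f, hf, σ, hσ, rfl⟩
    refine ⟨fun c => (f (σ c))⁻¹, fun c => inv_mem (hf _), σ⁻¹, inv_mem hσ, ?_⟩
    rw [inv_eq_iff_mul_eq_one, dg_pm_mul, mul_inv_cancel, map_one, mul_one, ← map_one dg]
    congr 1
    funext c
    simp

variable {Q : Sylow 2 SL(2, F)} {T : Sylow 2 (Equiv.Perm ι)}

theorem one_mem_PP (c : ι) {g : SL(2, F)} (hg : g ∈ Q) : one c g ∈ PP Q T :=
  ⟨Pi.mulSingle c g, fun d => by
    by_cases h : d = c
    · subst h; simpa using hg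
    · simp [h, one_mem Q], 1, one_mem T, by simp [one]⟩

theorem dg_mem_PP {f : ι → SL(2, F)} (hf : ∀ c, f c ∈ Q) : dg f ∈ PP Q T :=
  ⟨f, hf, 1, one_mem T, by simp⟩

theorem pm_mem_PP {σ : Equiv.Perm ι} (hσ : σ ∈ T) : (pm σ : Sp ι F) ∈ PP Q T :=
  ⟨1, fun _ => one_mem Q, σ, hσ, by simp⟩

theorem PP_le_mon : PP Q T ≤ Mon ι F := by
  rintro _ ⟨f, -, σ, -, rfl⟩
  exact dg_pm_mem_mon f σ

theorem mem_PP_perm {x : Sp ι F} (hx : x ∈ PP Q T) : permOf (⟨x, PP_le_mon hx⟩ : Mon ι F) ∈ T := by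
  obtain ⟨f, -, σ, hσ, rfl⟩ := hx
  rw [permOf_dg_pm]
  exact hσ

theorem dg_mem_PP_iff {f : ι → SL(2, F)} : dg f ∈ PP Q T ↔ ∀ c, f c ∈ Q := by
  refine ⟨fun ⟨f', hf', σ, _, e⟩ c => ?_, dg_mem_PP⟩
  have hσ : σ = 1 := by
    rw [← permOf_dg_pm f' σ, ← permOf_dg f]
    exact congrArg permOf (Subtype.ext e.symm)
  rw [hσ, map_one, mul_one] at e
  rw [dg_injective e]
  exact hf' c

variable [Finite F]

theorem card_PP : Nat.card (PP Q T) = Nat.card Q ^ Fintype.card ι * Nat.card T := by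
  let φ : (ι → Q) × T → PP Q T := fun x =>
    ⟨dg (fun c => (x.1 c : SL(2, F))) * pm (x.2 : Equiv.Perm ι), _, fun c => (x.1 c).2, _, x.2.2, rfl⟩
  have hφ : Function.Bijective φ := by
    refine ⟨?_, ?_⟩
    · rintro ⟨f, σ, hσ⟩ ⟨f', σ', hσ'⟩ e
      have e' : dg (fun c => (f c : SL(2, F))) * pm σ = dg (fun c => (f' c : SL(2, F))) * pm σ' :=
        congrArg Subtype.val e
      have hs : σ = σ' := by
        rw [← permOf_dg_pm (fun c => (f c : SL(2, F))) σ, ← permOf_dg_pm (fun c => (f' c : SL(2, F))) σ']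
        exact congrArg permOf (Subtype.ext e')
      subst hs
      refine Prod.ext (funext fun c => Subtype.ext ?_) rfl
      exact congrFun (dg_injective (mul_right_cancel e')) c
    · rintro ⟨_, f, hf, σ, hσ, rfl⟩
      exact ⟨(fun c => ⟨f c, hf c⟩, ⟨σ, hσ⟩), rfl⟩
  rw [← Nat.card_congr (Equiv.ofBijective φ hφ), Nat.card_prod, Nat.card_fun, Nat.card_eq_fintype_card (α := ι)]
  rfl

/-- The monomial group is a Sylow subgroup. -/
noncomputable def PSyl [Finite (Sp ι F)] (h : Nat.card (PP Q T) = 2 ^ (Nat.card (Sp ι F)).factorization 2) :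
    Sylow 2 (Sp ι F) :=
  Sylow.ofCard (PP Q T) h

theorem card_PP_eq {m : ℕ} (Q : Sylow 2 SL(2, F)) (T : Sylow 2 (Equiv.Perm (Fin m))) :
    Nat.card (PP Q T) = 2 ^ (Nat.card (Sp (Fin m) F)).factorization 2 := by
  haveI : Fintype F := Fintype.ofFinite F
  have hodd : Odd (Fintype.card F) :=
    Nat.odd_iff.2 (FiniteField.odd_card_of_char_ne_two (F := F) (fun h => two_ne_zero (α := F) (by
      haveI := ringChar.of_eq h
      exact CharTwo.two_eq_zero)))
  rw [card_PP, Fintype.card_fin, factorization_card_blockSp m F hodd, Q.card_eq_multiplicity,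
    T.card_eq_multiplicity, Nat.card_perm, Nat.card_fin, pow_add, ← pow_mul, mul_comm m]

/-- A Sylow subgroup of the symmetric group of a power of two is transitive. -/
theorem sylow_transitive {m k : ℕ} (hm : m = 2 ^ k) (T : Sylow 2 (Equiv.Perm (Fin m))) (c d : Fin m) :
    ∃ τ ∈ T, τ c = d := by
  classical
  haveI : Fact (Nat.Prime 2) := ⟨Nat.prime_two⟩
  set S := MulAction.stabilizer (Equiv.Perm (Fin m)) c with hS
  have hidx : S.index = m := by
    rw [hS, MulAction.index_stabilizer_of_transitive, Nat.card_fin]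
  have horb : Nat.card (MulAction.orbit (T : Subgroup (Equiv.Perm (Fin m))) c) =
      (MulAction.stabilizer (T : Subgroup (Equiv.Perm (Fin m))) c).index :=
    (MulAction.index_stabilizer _ _).symm
  have hTS : (MulAction.stabilizer (T : Subgroup (Equiv.Perm (Fin m))) c).index =
      S.relIndex (T : Subgroup (Equiv.Perm (Fin m))) := rfl
  have hdvd : m ∣ S.relIndex (T : Subgroup (Equiv.Perm (Fin m))) := by
    have h1 := Subgroup.relIndex_mul_index (show S ⊓ (T : Subgroup (Equiv.Perm (Fin m))) ≤ S from inf_le_left)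
    have h2 := Subgroup.relIndex_mul_index (show S ⊓ (T : Subgroup (Equiv.Perm (Fin m))) ≤ (T : Subgroup _) from inf_le_right)
    rw [Subgroup.inf_relIndex_right] at h2
    rw [hidx, ← h2] at h1
    have h3 : 2 ^ k ∣ S.relIndex (T : Subgroup (Equiv.Perm (Fin m))) * (T : Subgroup (Equiv.Perm (Fin m))).index := by
      rw [← h1, ← hm]; exact Dvd.intro_left _ rfl
    have hc : Nat.Coprime (2 ^ k) (T : Subgroup (Equiv.Perm (Fin m))).index :=
      Nat.Coprime.pow_left k (Nat.prime_two.coprime_iff_not_dvd.2 T.not_dvd_index)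
    exact hm.dvd.trans (hc.dvd_of_dvd_mul_right h3)
  have hall : MulAction.orbit (T : Subgroup (Equiv.Perm (Fin m))) c = Set.univ := by
    refine Set.eq_univ_of_forall fun x => ?_
    by_contra hx
    have hlt : Nat.card (MulAction.orbit (T : Subgroup (Equiv.Perm (Fin m))) c) < m := by
      have := Finite.card_subtype_lt (p := fun y => y ∈ MulAction.orbit (T : Subgroup (Equiv.Perm (Fin m))) c) hx
      simpa using this
    rw [horb, hTS] at hlt
    have hpos : 0 < S.relIndex (T : Subgroup (Equiv.Perm (Fin m))) := by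
      rw [← hTS, ← horb]
      exact Nat.card_pos_iff.2 ⟨⟨⟨c, MulAction.mem_orbit_self c⟩⟩, inferInstance⟩
    exact absurd (Nat.le_of_dvd hpos hdvd) (by omega)
  have hd : d ∈ MulAction.orbit (T : Subgroup (Equiv.Perm (Fin m))) c := by rw [hall]; trivial
  obtain ⟨τ, hτ⟩ := hd
  exact ⟨τ, τ.2, hτ⟩

/-- An element normalising the Sylow subgroup differs from it by a constant in the normaliser of `Q`. -/
theorem exists_const_of_normalizer {m k : ℕ} (hm : m = 2 ^ k) {T : Sylow 2 (Equiv.Perm (Fin m))}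
    {g : Sp (Fin m) F} (hg : g ∈ Subgroup.normalizer (PP Q T : Set (Sp (Fin m) F))) :
    ∃ α ∈ Subgroup.normalizer ((Q : Subgroup SL(2, F)) : Set SL(2, F)),
      ∃ p ∈ PP Q T, g = dg (fun _ => α) * p := by
  classical
  obtain ⟨i, j, hA, hi, hj⟩ := exists_anti_mem Q
  have hgn : ∀ x, x ∈ PP Q T → g * x * g⁻¹ ∈ PP Q T := fun x hx => (Subgroup.mem_normalizer_iff.1 hg x).1 hx
  have hzP : ∀ c, (zc c : Sp (Fin m) F) ∈ PP Q T := fun c => by
    rw [← one_mul_self c i hA.hii]
    exact mul_mem (one_mem_PP c hi) (one_mem_PP c hi)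
  -- the element permutes the planes
  have hgm : g ∈ Mon (Fin m) F := by
    intro c
    set d := g * zc c * g⁻¹ with hd
    have hdP : d ∈ PP Q T := hgn _ (hzP c)
    set dm : Mon (Fin m) F := ⟨d, PP_le_mon hdP⟩ with hdm
    have hd2 : d * d = 1 := by
      rw [hd, show g * zc c * g⁻¹ * (g * zc c * g⁻¹) = g * (zc c * zc c) * g⁻¹ by group, zc_mul_self]; group
    have hdinv : d⁻¹ = d := inv_eq_of_mul_eq_one_right hd2
    by_cases hperm : permOf dm = 1
    · have hcol : ∀ r s, r ≠ s → mx d r s = 0 := fun r s hrs =>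
        mx_eq_zero_of_perm dm (by rw [hperm]; exact hrs)
      set φ := col g c with hφ
      have href : d = refl φ (nrm_col g c) := by rw [hd, conj_zc_eq_refl]
      have hrk : ∀ r s, r ≠ s → φ r * adjugate (φ s) = 0 := fun r s hrs => by
        have h1 := hcol r s hrs
        rw [href, mx_refl, reflM, Matrix.sub_apply, Matrix.one_apply_ne hrs, zero_sub, neg_eq_zero,
          Matrix.add_apply, rk_apply] at h1
        exact eq_zero_of_add_self h1
      obtain ⟨r₀, hr₀⟩ : ∃ r, (φ r).det ≠ 0 := by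
        by_contra! hh
        have := sum_det_col g c
        rw [show ∑ r, (mx g r c).det = 0 from Finset.sum_eq_zero fun r _ => hh r] at this
        exact zero_ne_one this
      refine ⟨r₀, conj_zc_of_col fun r hr => ?_⟩
      have h1 := congrArg (fun M => M * φ r₀) (hrk r r₀ hr)
      simp only [mul_assoc, adj_mul_self, zero_mul, mul_smul_comm, mul_one] at h1
      exact (smul_eq_zero.1 h1).resolve_left hr₀
    · exfalso
      obtain ⟨a, ha⟩ : ∃ a, permOf dm a ≠ a := by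
        by_contra! hh
        exact hperm (Equiv.ext hh)
      set t := one a i with ht
      -- conjugates of a sign change under the Sylow subgroup commute
      have hcomm : Commute d (t * d * t⁻¹) := by
        have hx : g⁻¹ * t * g ∈ PP Q T := by
          have := (Subgroup.mem_normalizer_iff.1 (inv_mem hg) t).1 (one_mem_PP a hi)
          rwa [inv_inv] at this
        obtain ⟨e, he⟩ := PP_le_mon hx c
        have h2 : t * d * t⁻¹ = g * zc e * g⁻¹ := by rw [← he, hd]; group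
        rw [h2, hd]
        exact (Commute.conj_iff g).2 (zc_commute c e)
      obtain ⟨f, hf⟩ := exists_eq_dg_pm dm
      have hw : d * t * d⁻¹ * t⁻¹ = dg fun e =>
          f e * (Pi.mulSingle a i : Fin m → SL(2, F)) ((permOf dm)⁻¹ e) * (f e)⁻¹ *
            ((Pi.mulSingle a i : Fin m → SL(2, F)) e)⁻¹ := by
        rw [show (d : Sp (Fin m) F) = dg f * pm (permOf dm) from hf, ht, one, conj_dg_pm, ← map_inv, ← map_mul]
        rfl
      have hw2 : (d * t * d⁻¹ * t⁻¹) * (d * t * d⁻¹ * t⁻¹) = 1 := by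
        have e1 : d * t * d⁻¹ * t⁻¹ = d * (t * d * t⁻¹) := by rw [hdinv]; group
        have e2 : (t * d * t⁻¹) * (t * d * t⁻¹) = 1 := by
          rw [show t * d * t⁻¹ * (t * d * t⁻¹) = t * (d * d) * t⁻¹ by group, hd2]; group
        calc (d * t * d⁻¹ * t⁻¹) * (d * t * d⁻¹ * t⁻¹)
            = d * (t * d * t⁻¹) * (d * (t * d * t⁻¹)) := by rw [e1]
          _ = d * ((t * d * t⁻¹) * d) * (t * d * t⁻¹) := by group
          _ = d * (d * (t * d * t⁻¹)) * (t * d * t⁻¹) := by rw [hcomm.eq]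
          _ = (d * d) * ((t * d * t⁻¹) * (t * d * t⁻¹)) := by group
          _ = 1 := by rw [e2, hd2, one_mul]
      rw [hw, ← map_mul, ← map_one dg] at hw2
      have h3 := congrFun (dg_injective hw2) a
      have hne : (permOf dm)⁻¹ a ≠ a := fun h => ha (by
        conv_lhs => rw [← h]
        simp)
      simp only [Pi.mul_apply, Pi.mulSingle_eq_of_ne hne, Pi.mulSingle_eq_same, mul_one, mul_inv_cancel,
        one_mul, Pi.one_apply] at h3
      have h4 : i * i = 1 := by rw [← _root_.inv_inj, _root_.mul_inv_rev, h3, inv_one]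
      have := congrArg (fun x : SL(2, F) => (x : M2 F)) h4
      simp only [Matrix.SpecialLinearGroup.coe_mul, hA.hii, Matrix.SpecialLinearGroup.coe_one] at this
      exact one_ne_zero (eq_zero_of_neg_eq this)
  -- its permutation normalises `T`
  set gm : Mon (Fin m) F := ⟨g, hgm⟩ with hgm'
  set σ := permOf gm with hσ
  have hσN : σ ∈ Subgroup.normalizer ((T : Subgroup (Equiv.Perm (Fin m))) : Set (Equiv.Perm (Fin m))) := by
    refine Subgroup.mem_normalizer_fintype fun τ hτ => ?_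
    have h1 := mem_PP_perm (hgn _ (pm_mem_PP (Q := Q) hτ))
    have hpm : (pm τ : Sp (Fin m) F) ∈ Mon (Fin m) F := by simpa using dg_pm_mem_mon (F := F) 1 τ
    have e : permHom (Fin m) F ⟨pm τ, hpm⟩ = τ := by
      have := permOf_dg_pm (F := F) 1 τ
      show permOf _ = τ
      exact (congrArg permOf (Subtype.ext (by simp))).trans this
    have h2 : permHom (Fin m) F (gm * ⟨pm τ, hpm⟩ * gm⁻¹) ∈ T := h1
    rwa [map_mul, map_mul, map_inv, e] at h2
  have hσT : σ ∈ T :=
    (Cfsg.Lib.FusionSys.AltWreath.normalizer_sylow_two m (Fin m) (Nat.card_fin m) T).le hσN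
  obtain ⟨f, hf⟩ := exists_eq_dg_pm gm
  have hdg : dg f ∈ Subgroup.normalizer (PP Q T : Set (Sp (Fin m) F)) := by
    have h1 : dg f = g * (pm σ)⁻¹ := by rw [show g = dg f * pm σ from hf, mul_inv_cancel_right]
    rw [h1]
    exact mul_mem hg (inv_mem (Subgroup.le_normalizer (pm_mem_PP hσT)))
  have hfn : ∀ x, x ∈ PP Q T → dg f * x * (dg f)⁻¹ ∈ PP Q T := fun x hx => (Subgroup.mem_normalizer_iff.1 hdg x).1 hx
  have hN : ∀ c, f c ∈ Subgroup.normalizer ((Q : Subgroup SL(2, F)) : Set SL(2, F)) := fun c =>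
    Subgroup.mem_normalizer_fintype fun q hq => by
      have h1 := hfn _ (one_mem_PP c hq)
      rw [one, ← map_inv, ← map_mul, ← map_mul] at h1
      have := dg_mem_PP_iff.1 h1 c
      simpa using this
  have hconst : ∀ c d, f c * (f d)⁻¹ ∈ Q := fun c d => by
    obtain ⟨τ, hτ, hτd⟩ := sylow_transitive hm T d c
    have h1 := hfn _ (pm_mem_PP hτ)
    rw [mul_assoc, ← map_inv, pm_mul_dg, ← mul_assoc, ← map_mul] at h1
    have h2 := (PP Q T).mul_mem h1 (inv_mem (pm_mem_PP hτ))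
    rw [mul_inv_cancel_right] at h2
    have := dg_mem_PP_iff.1 h2 c
    simp only [Pi.mul_apply, Pi.inv_apply] at this
    rwa [show τ⁻¹ c = d by rw [← hτd]; simp] at this
  obtain ⟨c₀⟩ : Nonempty (Fin m) := ⟨⟨0, by rw [hm]; positivity⟩⟩
  refine ⟨f c₀, hN c₀, dg ((fun _ => f c₀)⁻¹ * f) * pm σ, mul_mem (dg_mem_PP fun c => ?_) (pm_mem_PP hσT), ?_⟩
  · show (f c₀)⁻¹ * f c ∈ Q
    have := (Subgroup.mem_normalizer_iff.1 (inv_mem (hN c₀)) _).1 (hconst c c₀)
    rwa [inv_inv, show (f c₀)⁻¹ * (f c * (f c₀)⁻¹) * f c₀ = (f c₀)⁻¹ * f c by group] at this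
  · rw [← mul_assoc, ← map_mul, mul_inv_cancel_left]
    exact hf

end Cfsg.Lib.Linear.Pronormal.SpPlanes
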