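import Cfsg.Agent.Lib.Linear.Pronormal.Sp.Monomial
import Cfsg.Agent.Lib.ZStar.Main
import Cfsg.Agent.Lib.Core.Basic

/-!
# Two planes

Here the negation of a plane is isolated modulo the centre, and a subgroup of odd order normalised by the
quaternion elements centralises it.
-/

set_option autoImplicit false
set_option linter.unusedSectionVars false
set_option linter.style.haveILetI false

namespace Cfsg.Lib.Linear.Pronormal.SpPlanes

open Matrix Finset
open scoped MatrixGroups

variable {ι : Type*} [Fintype ι] [DecidableEq ι] {F : Type*} [Field F] [NeZero (2 : F)]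

theorem eq_zero_of_sandwich {i j B C : M2 F} (h : Anti i j) (h0 : C * B = 0) (hi : C * i * B = 0)
    (hj : C * j * B = 0) (hk : C * (i * j) * B = 0) : C = 0 ∨ B = 0 := by
  by_cases hC : C = 0
  · exact Or.inl hC
  right
  obtain ⟨s, t, hst⟩ : ∃ s t, C s t ≠ 0 := by
    by_contra! hh
    exact hC (Matrix.ext fun s t => hh s t)
  have h1 := congrArg (fun M => M * B) (h.avg two_ne_zero (Matrix.single t s (1 : F) * C))
  simp only [sub_mul, mul_assoc] at h1
  rw [h0, mul_zero] at h1
  have e1 : C * (i * B) = 0 := by rw [← mul_assoc]; exact hi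
  have e2 : C * (j * B) = 0 := by rw [← mul_assoc]; exact hj
  have e3 : C * (i * (j * B)) = 0 := by rw [← mul_assoc i j B, ← mul_assoc]; exact hk
  rw [e1, e2, e3] at h1
  simp only [mul_zero, sub_zero, smul_mul_assoc, one_mul] at h1
  have ht : (Matrix.single t s (1 : F) * C).trace = C s t := by simp [Matrix.trace_single_mul]
  rw [ht] at h1
  exact (smul_eq_zero.1 h1.symm).resolve_left (mul_ne_zero two_ne_zero hst)

theorem scalar_of_intertwine {i j D E B : M2 F} (h : Anti i j) (h0 : D * B = B * E)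
    (hi : D * (i * B) = i * B * E) (hj : D * (j * B) = j * B * E) (hk : D * (i * j * B) = i * j * B * E)
    (hB : B ≠ 0) : ∃ c : F, D = c • (1 : M2 F) := by
  obtain ⟨s, t, hst⟩ : ∃ s t, B s t ≠ 0 := by
    by_contra! hh
    exact hB (Matrix.ext fun s t => hh s t)
  set Y : M2 F := Matrix.single t s (1 : F) with hY
  have h1 := congrArg (fun M => D * M) (h.avg two_ne_zero (B * Y))
  simp only [mul_sub, mul_smul_comm, mul_one] at h1
  have e0 : D * (B * Y) = B * (E * Y) := by rw [← mul_assoc, h0, mul_assoc]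
  have ei : D * (i * (B * Y) * i) = i * (B * (E * Y)) * i := by
    rw [← mul_assoc i B Y, ← mul_assoc D, ← mul_assoc D, hi]; simp [mul_assoc]
  have ej : D * (j * (B * Y) * j) = j * (B * (E * Y)) * j := by
    rw [← mul_assoc j B Y, ← mul_assoc D, ← mul_assoc D, hj]; simp [mul_assoc]
  have ek : D * (i * j * (B * Y) * (i * j)) = i * j * (B * (E * Y)) * (i * j) := by
    rw [← mul_assoc (i * j) B Y, ← mul_assoc D, ← mul_assoc D, hk]; simp [mul_assoc]
  rw [e0, ei, ej, ek, h.avg two_ne_zero] at h1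
  have ht : (B * Y).trace = B s t := by rw [hY]; simp [Matrix.trace_mul_single]
  rw [ht] at h1
  refine ⟨(2 * B s t)⁻¹ * (2 * (B * (E * Y)).trace), ?_⟩
  rw [← smul_smul, h1, smul_smul, inv_mul_cancel₀ (mul_ne_zero two_ne_zero hst), one_smul]

theorem anti_isPGroup {i j : SL(2, F)} (h : Anti (i : M2 F) j) :
    IsPGroup 2 (Subgroup.closure ({i, j} : Set SL(2, F))) := by
  have hp : ∀ g : SL(2, F), (g : M2 F) * g = -1 → IsPGroup 2 (Subgroup.zpowers g) := fun g hg => by
    rintro ⟨_, n, rfl⟩
    refine ⟨2, Subtype.ext ?_⟩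
    have h4 : g ^ (4 : ℕ) = 1 := Subtype.ext (by
      show (((g ^ (4 : ℕ) : SL(2, F))) : M2 F) = 1
      rw [show (4 : ℕ) = 2 * 2 from rfl, pow_mul, pow_two (g ^ 2), pow_two g, Matrix.SpecialLinearGroup.coe_mul,
        Matrix.SpecialLinearGroup.coe_mul, hg, neg_mul_neg, one_mul])
    show (g ^ n) ^ (2 ^ 2 : ℕ) = 1
    rw [show (2 ^ 2 : ℕ) = 4 from rfl, ← zpow_natCast, zpow_comm, zpow_natCast, h4, _root_.one_zpow]
  have hinv : i * j * i⁻¹ = j⁻¹ := by
    apply Subtype.ext
    rw [Matrix.SpecialLinearGroup.coe_mul, Matrix.SpecialLinearGroup.coe_mul, Matrix.SpecialLinearGroup.coe_inv,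
      Matrix.SpecialLinearGroup.coe_inv, h.adj_left two_ne_zero, h.symm.adj_left two_ne_zero, mul_neg, mul_assoc,
      h.anti, mul_neg, neg_neg, h.ii_mul]
  have hinv' : i⁻¹ * j * i = j⁻¹ := by
    have h2 : (i⁻¹ * (i * j * i⁻¹) * i)⁻¹ = (i⁻¹ * j⁻¹ * i)⁻¹ := by rw [hinv]
    rw [show i⁻¹ * (i * j * i⁻¹) * i = j by group, show (i⁻¹ * j⁻¹ * i)⁻¹ = i⁻¹ * j * i by group] at h2
    exact h2.symm
  have hnorm : Subgroup.zpowers i ≤ Subgroup.normalizer (Subgroup.zpowers j : Set SL(2, F)) := by
    rw [Subgroup.zpowers_le, Subgroup.mem_normalizer_iff]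
    intro w
    constructor
    · rintro ⟨n, rfl⟩
      exact ⟨-n, by
        show j ^ (-n) = i * j ^ n * i⁻¹
        rw [← conj_zpow, hinv, _root_.inv_zpow']⟩
    · rintro ⟨n, hn⟩
      refine ⟨-n, ?_⟩
      show j ^ (-n) = w
      have hw : w = i⁻¹ * j ^ n * i := by rw [show j ^ n = i * w * i⁻¹ from hn]; group
      rw [hw, show i⁻¹ * j ^ n * i = i⁻¹ * j ^ n * i⁻¹⁻¹ by rw [inv_inv], ← conj_zpow, inv_inv, hinv',
        _root_.inv_zpow']
  rw [show ({i, j} : Set SL(2, F)) = {i} ∪ {j} from rfl, Subgroup.closure_union, ← Subgroup.zpowers_eq_closure,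
    ← Subgroup.zpowers_eq_closure]
  exact (hp i h.hii).to_sup_of_normal_right' (hp j h.hjj) hnorm

/-- Elements inverted by the sign change. -/
theorem inverted_entries {a b : ι} (hab : a ≠ b) {w : Sp ι F} (hw : zc a * w * zc a = w⁻¹) :
    adjugate (mx w a a) = mx w a a ∧ adjugate (mx w b a) = -mx w a b := by
  have h : ∀ r s, mx (zc a * w * zc a) r s = (if r = a then -1 else 1) * mx w r s * (if s = a then -1 else 1) :=
    fun r s => by rw [mx_mul, mx_mul_zc, mx_mul, mx_zc_mul]
  rw [hw, mx_inv] at h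
  refine ⟨?_, ?_⟩
  · have := h a a
    simpa using this
  · have := h a b
    simpa [Ne.symm hab] using this

theorem scalar_of_adj_eq {A : M2 F} (h : adjugate A = A) : ∃ c : F, A = c • (1 : M2 F) :=
  ⟨A.trace / 2, by
    have h1 := add_adj A
    rw [h, ← two_smul F] at h1
    rw [div_eq_inv_mul, ← smul_smul, ← h1, smul_smul, inv_mul_cancel₀ two_ne_zero, one_smul]⟩

/-- The planes are two. -/
structure TwoPlanes (a b : ι) : Prop where
  ne : a ≠ b
  univ : ∀ c, c = a ∨ c = b

theorem TwoPlanes.symm {a b : ι} (h : TwoPlanes a b) : TwoPlanes b a := ⟨h.ne.symm, fun c => (h.univ c).symm⟩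

theorem TwoPlanes.mul_apply {a b : ι} (h : TwoPlanes a b) (M N : BM ι F) (r s : ι) :
    (M * N) r s = M r a * N a s + M r b * N b s := by
  rw [Matrix.mul_apply, show (Finset.univ : Finset ι) = {a, b} from
    (Finset.eq_univ_iff_forall.2 fun c => by simpa using h.univ c).symm, Finset.sum_pair h.ne]

/-- An abelian subgroup of odd order normalised by the quaternion elements of the first plane. -/
theorem abelian_commute {a b : ι} (hT : TwoPlanes a b) {i j : SL(2, F)} (hA : Anti (i : M2 F) j)
    (R : Subgroup (Sp ι F)) [Finite R] (hodd : Odd (Nat.card R)) (hab : ∀ x ∈ R, ∀ y ∈ R, x * y = y * x)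
    (hn : ∀ g : SL(2, F), (g = i ∨ g = j ∨ g = i * j) → ∀ y ∈ R, one a g * y * (one a g)⁻¹ ∈ R)
    {y : Sp ι F} (hy : y ∈ R) : Commute y (zc a) := by
  have hz : ∀ x ∈ R, zc a * x * zc a ∈ R := fun x hx => by
    have h := hn i (Or.inl rfl) _ (hn i (Or.inl rfl) x hx)
    rwa [show one a i * (one a i * x * (one a i)⁻¹) * (one a i)⁻¹ =
      (one a i * one a i) * x * (one a i * one a i)⁻¹ by group, one_mul_self a i hA.hii, zc_inv] at h
  set w := y⁻¹ * (zc a * y * zc a) with hw
  have hwR : w ∈ R := R.mul_mem (R.inv_mem hy) (hz y hy)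
  have hinv : zc a * w * zc a = w⁻¹ := by
    have hzz : (zc a : Sp ι F) * zc a = 1 := zc_mul_self a
    have hx := hab y⁻¹ (R.inv_mem hy) _ (hz y hy)
    calc zc a * w * zc a = zc a * y⁻¹ * zc a * y * (zc a * zc a) := by rw [hw]; group
      _ = (zc a * y * zc a)⁻¹ * y := by
            rw [hzz, _root_.mul_inv_rev, _root_.mul_inv_rev, zc_inv]; group
      _ = w⁻¹ := by rw [hw]; group
  suffices h1 : w = 1 by
    have h2 : zc a * y * zc a = y := (eq_inv_mul_iff_mul_eq.1 h1.symm).symm.trans (mul_one y)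
    show y * zc a = zc a * y
    calc y * zc a = zc a * y * zc a * zc a := by rw [h2]
      _ = zc a * y := by rw [mul_assoc, zc_mul_self, mul_one]
  obtain ⟨hAA, hCB⟩ := inverted_entries hT.ne hinv
  obtain ⟨α, hα⟩ := scalar_of_adj_eq hAA
  have key : ∀ g : SL(2, F), (g = i ∨ g = j ∨ g = i * j) → adjugate (g : M2 F) = -(g : M2 F) →
      (mx w a b * mx w b a) * g = -(g * (mx w a b * mx w b a)) ∧ mx w b a * g * mx w a b = 0 := by
    intro g hg hadj
    have hc := hab w hwR _ (hn g hg w hwR)
    set q := one a g with hq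
    have hent : ∀ r s, mx (q * w * q⁻¹) r s =
        (if r = a then (g : M2 F) else 1) * mx w r s * (if s = a then adjugate (g : M2 F) else 1) := by
      intro r s
      rw [mx_mul, mx_inv, Matrix.mul_apply, Finset.sum_eq_single s (fun k _ hk => by
        rw [adjT_apply, hq, mx_one_apply, if_neg (Ne.symm hk), adjugate_zero, mul_zero]) (by simp),
        adjT_apply, mx_mul, Matrix.mul_apply, Finset.sum_eq_single r (fun k _ hk => by
        rw [hq, mx_one_apply, if_neg (Ne.symm hk), zero_mul]) (by simp), hq, mx_one_apply, mx_one_apply,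
        if_pos rfl, if_pos rfl]
      by_cases hs : s = a <;> simp [hs]
    have e1 := congrArg (fun x => mx x a a) hc
    have e2 := congrArg (fun x => mx x b b) hc
    beta_reduce at e1 e2
    rw [mx_mul w, mx_mul (q * w * q⁻¹) w] at e1 e2
    simp only [hT.mul_apply, hent, if_pos trivial, if_neg hT.ne.symm, one_mul, mul_one] at e1 e2
    rw [hα, hadj] at e1
    have hgg : (g : M2 F) * g = -1 := by
      have h3 := self_mul_adj (g : M2 F)
      rw [hadj, mul_neg, g.2, one_smul] at h3
      exact neg_eq_iff_eq_neg.1 h3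
    constructor
    · simp only [smul_mul_assoc, mul_smul_comm, one_mul, mul_one, mul_neg, neg_mul, hgg, neg_neg, smul_neg,
        ← mul_assoc] at e1
      rw [← mul_assoc (g : M2 F)]
      exact neg_eq_iff_eq_neg.1 (add_left_cancel e1)
    · have e2' := sub_eq_zero.2 e2
      rw [hadj] at e2'
      simp only [mul_neg, neg_mul, ← mul_assoc] at e2'
      have h5 : mx w b a * (g : M2 F) * mx w a b + mx w b a * (g : M2 F) * mx w a b = 0 := by
        rw [← e2']
        simp only [mul_assoc]
        abel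
      exact eq_zero_of_add_self h5
  have hBC : mx w b a = -adjugate (mx w a b) := by
    have := congrArg adjugate hCB
    rwa [adj_adj, adj_neg] at this
  obtain ⟨k1, k2⟩ := key i (Or.inl rfl) (hA.adj_left two_ne_zero)
  obtain ⟨-, k3⟩ := key j (Or.inr (Or.inl rfl)) (hA.symm.adj_left two_ne_zero)
  obtain ⟨-, k4⟩ := key (i * j) (Or.inr (Or.inr rfl)) (by
    rw [Matrix.SpecialLinearGroup.coe_mul]; exact hA.mul_anti.symm.adj_left two_ne_zero)
  have hb : (mx w a b).det = 0 := by
    rw [hBC, mul_neg, self_mul_adj, neg_mul, smul_mul_assoc, one_mul, mul_neg, mul_smul_comm, mul_one,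
      neg_neg] at k1
    have h6 : (2 * (mx w a b).det) • (i : M2 F) = 0 := by
      rw [mul_smul, two_smul]; nth_rw 2 [← k1]; exact add_neg_cancel _
    rcases smul_eq_zero.1 h6 with h | h
    · exact (mul_eq_zero.1 h).resolve_left two_ne_zero
    · exact absurd hA.hii (by rw [h, mul_zero]; exact fun e => one_ne_zero (neg_eq_zero.1 e.symm))
  have h0 : mx w b a * mx w a b = 0 := by rw [hBC, neg_mul, adj_mul_self, hb, zero_smul, neg_zero]
  have hz0 : mx w b a = 0 ∧ mx w a b = 0 := by
    rcases eq_zero_of_sandwich hA h0 k2 k3 (by rwa [← Matrix.SpecialLinearGroup.coe_mul]) with h | h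
    · refine ⟨h, ?_⟩
      rw [← neg_eq_zero, ← hCB, h, adjugate_zero]
    · exact ⟨by rw [hBC, h, adjugate_zero, neg_zero], h⟩
  have hcw : Commute w (zc a) := by
    rw [commute_zc_iff]
    intro r hr
    rcases hT.univ r with rfl | rfl
    · exact absurd rfl hr
    · exact hz0
  rw [hcw.symm.eq, mul_assoc, zc_mul_self, mul_one] at hinv
  refine orderOf_eq_one_iff.1 ?_
  have hd2 : orderOf w ∣ 2 := orderOf_dvd_of_pow_eq_one (by rw [pow_two]; nth_rw 1 [hinv]; exact inv_mul_cancel w)
  have hdd : Odd (orderOf w) := hodd.of_dvd_nat (Subgroup.orderOf_dvd_natCard R hwR)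
  rcases (Nat.dvd_prime Nat.prime_two).1 hd2 with h | h
  · exact h
  · rw [h] at hdd; exact absurd hdd (by decide)

/-- A subgroup of odd order and prime power order normalised by the quaternion elements centralises the sign change. -/
theorem rgroup_commute {a b : ι} (hT : TwoPlanes a b) {i j : SL(2, F)} (hA : Anti (i : M2 F) j)
    [Finite F] (R : Subgroup (Sp ι F)) {r : ℕ} [Fact r.Prime] (hR : IsPGroup r R) (hodd : Odd (Nat.card R))
    (hn : ∀ c g, g ∈ Subgroup.closure ({i, j} : Set SL(2, F)) → ∀ y ∈ R, one c g * y * (one c g)⁻¹ ∈ R)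
    {y : Sp ι F} (hy : y ∈ R) : Commute y (zc a) := by
  by_contra hyc
  haveI : Nontrivial R := ⟨⟨⟨y, hy⟩, 1, fun h => hyc (by
    rw [show y = 1 from congrArg Subtype.val h]; exact Commute.one_left _)⟩⟩
  haveI := hR.center_nontrivial
  have hiQ : i ∈ Subgroup.closure ({i, j} : Set SL(2, F)) := Subgroup.subset_closure (by simp)
  have hjQ : j ∈ Subgroup.closure ({i, j} : Set SL(2, F)) := Subgroup.subset_closure (by simp)
  set Z := (Subgroup.center R).map R.subtype with hZ
  have hZR : Z ≤ R := Subgroup.map_subtype_le _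
  have hcent : ∀ ζ ∈ Z, ∀ u ∈ R, ζ * u = u * ζ := by
    rintro _ ⟨ζ, hζ, rfl⟩ u hu
    exact (congrArg Subtype.val (Subgroup.mem_center_iff.1 hζ ⟨u, hu⟩)).symm
  have hZn : ∀ c g, g ∈ Subgroup.closure ({i, j} : Set SL(2, F)) → ∀ ζ ∈ Z, one c g * ζ * (one c g)⁻¹ ∈ Z := by
    intro c g hg ζ hζ
    refine ⟨⟨_, hn c g hg ζ (hZR hζ)⟩, Subgroup.mem_center_iff.2 fun u => Subtype.ext ?_, rfl⟩
    have hu' : (one c g)⁻¹ * (u : Sp ι F) * one c g ∈ R := by
      have := hn c g⁻¹ (inv_mem hg) u u.2
      rwa [show one c g⁻¹ = (one c g)⁻¹ from by rw [one, one, Pi.mulSingle_inv, map_inv], inv_inv] at this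
    show (u : Sp ι F) * (one c g * ζ * (one c g)⁻¹) = one c g * ζ * (one c g)⁻¹ * u
    calc (u : Sp ι F) * (one c g * ζ * (one c g)⁻¹)
        = one c g * (((one c g)⁻¹ * u * one c g) * ζ) * (one c g)⁻¹ := by group
      _ = one c g * (ζ * ((one c g)⁻¹ * u * one c g)) * (one c g)⁻¹ := by rw [hcent ζ hζ _ hu']
      _ = _ := by group
  have hZc : ∀ ζ ∈ Z, Commute ζ (zc a) := fun ζ hζ =>
    abelian_commute hT hA Z (hodd.of_dvd_nat (Subgroup.card_dvd_of_le hZR))
      (fun x hx u hu => hcent x hx u (hZR hu)) (fun g hg u hu => hZn a g (by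
        rcases hg with rfl | rfl | rfl
        exacts [hiQ, hjQ, mul_mem hiQ hjQ]) u hu) hζ
  obtain ⟨ζ', hζ'⟩ := exists_ne (1 : Subgroup.center R)
  set ζ : Sp ι F := ((ζ' : R) : Sp ι F) with hζdef
  have hζZ : ζ ∈ Z := ⟨(ζ' : R), ζ'.2, rfl⟩
  refine hζ' (Subtype.ext (Subtype.ext ?_))
  show ζ = 1
  have hblk : ∀ η ∈ Z, mx η a b = 0 ∧ mx η b a = 0 := fun η hη =>
    (commute_zc_iff.1 (hZc η hη) b hT.ne.symm).symm
  have hdet : ∀ c, (mx ζ c c).det = 1 := by
    intro c
    have h := congrFun (congrFun (adjT_mul_mx ζ) c) c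
    rw [hT.mul_apply, Matrix.one_apply_eq] at h
    simp only [adjT_apply] at h
    have hh := hblk ζ hζZ
    rcases hT.univ c with rfl | rfl
    · rw [hh.2, adjugate_zero, zero_mul, add_zero, adj_mul_self] at h
      simpa using congrFun (congrFun h 0) 0
    · rw [hh.1, adjugate_zero, zero_mul, zero_add, adj_mul_self] at h
      simpa using congrFun (congrFun h 0) 0
  have hscal : ∀ p q' : ι, TwoPlanes p q' → mx y p q' ≠ 0 → ∃ c : F, mx ζ p p = c • (1 : M2 F) := by
    intro p q' hpq hB
    have hblk' : ∀ η ∈ Z, mx η p q' = 0 := by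
      intro η hη
      rcases hT.univ p with rfl | rfl <;> rcases hT.univ q' with rfl | rfl
      · exact absurd rfl hpq.ne
      · exact (hblk η hη).1
      · exact (hblk η hη).2
      · exact absurd rfl hpq.ne
    have hblk'' : ∀ η ∈ Z, mx η q' p = 0 := by
      intro η hη
      rcases hT.univ p with rfl | rfl <;> rcases hT.univ q' with rfl | rfl
      · exact absurd rfl hpq.ne
      · exact (hblk η hη).2
      · exact (hblk η hη).1
      · exact absurd rfl hpq.ne
    have base : ∀ η ∈ Z, mx η p p * mx y p q' = mx y p q' * mx η q' q' := by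
      intro η hη
      have h := congrArg (fun x => mx x p q') (hcent η hη y hy)
      simp only [mx_mul, hpq.mul_apply, hblk' η hη, zero_mul, add_zero, mul_zero, zero_add] at h
      exact h
    have conj : ∀ g : SL(2, F), g ∈ Subgroup.closure ({i, j} : Set SL(2, F)) →
        mx ζ p p * ((g : M2 F) * mx y p q') = (g : M2 F) * mx y p q' * mx ζ q' q' := by
      intro g hg
      have hη := hZn p g⁻¹ (inv_mem hg) ζ hζZ
      rw [show one p g⁻¹ = (one p g)⁻¹ from by rw [one, one, Pi.mulSingle_inv, map_inv], inv_inv] at hη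
      have h := base _ hη
      rw [mx_mul, mx_mul, mx_inv] at h
      simp only [hpq.mul_apply, adjT_apply, mx_one_apply, if_pos trivial, if_neg hpq.ne, if_neg hpq.ne.symm,
        adjugate_zero, adjugate_one, hblk' ζ hζZ, hblk'' ζ hζZ, zero_mul, mul_zero, add_zero, zero_add,
        mul_one, one_mul] at h
      calc mx ζ p p * ((g : M2 F) * mx y p q')
          = (g : M2 F) * (adjugate (g : M2 F) * mx ζ p p * (g : M2 F) * mx y p q') := by
            rw [mul_assoc (adjugate (g : M2 F) * mx ζ p p), mul_assoc (adjugate (g : M2 F)), ← mul_assoc (g : M2 F),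
              self_mul_adj, g.2, one_smul, one_mul]
        _ = _ := by rw [h, mul_assoc]
    have hk := conj (i * j) (mul_mem hiQ hjQ)
    rw [Matrix.SpecialLinearGroup.coe_mul] at hk
    exact scalar_of_intertwine hA (base ζ hζZ) (conj i hiQ) (conj j hjQ) hk hB
  have hne : mx y a b ≠ 0 ∧ mx y b a ≠ 0 := by
    have hcases : mx y a b ≠ 0 ∨ mx y b a ≠ 0 := by
      by_contra! hh
      exact hyc (commute_zc_iff.2 fun r hr => by
        rcases hT.univ r with rfl | rfl
        · exact absurd rfl hr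
        · exact ⟨hh.2, hh.1⟩)
    -- the adjoint identity for the columns
    have e := congrFun (congrFun (adjT_mul_mx y) a) b
    rw [hT.mul_apply, Matrix.one_apply_ne hT.ne] at e
    simp only [adjT_apply] at e
    have e' := congrFun (congrFun (adjT_mul_mx y) a) a
    rw [hT.mul_apply, Matrix.one_apply_eq] at e'
    simp only [adjT_apply, adj_mul_self] at e'
    have e'' := congrFun (congrFun (adjT_mul_mx y) b) b
    rw [hT.mul_apply, Matrix.one_apply_eq] at e''
    simp only [adjT_apply, adj_mul_self] at e''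
    refine ⟨fun h => ?_, fun h => ?_⟩
    · rw [h, mul_zero, zero_add] at e
      rw [h, det_zero, zero_smul, zero_add] at e''
      have hc : mx y b b * adjugate (mx y b b) = 1 := by rw [self_mul_adj]; exact e''
      refine (hcases.resolve_left (fun hh => hh h)) ?_
      have e2 := congrArg (fun M => M * adjugate (mx y b b)) e
      simp only [mul_assoc, hc, mul_one, zero_mul] at e2
      rw [← adj_adj (mx y b a), e2, adjugate_zero]
    · rw [h, adjugate_zero, zero_mul, add_zero] at e
      rw [h, det_zero, zero_smul, add_zero] at e'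
      have hc : mx y a a * adjugate (mx y a a) = 1 := by rw [self_mul_adj]; exact e'
      refine (hcases.resolve_right (fun hh => hh h)) ?_
      have e2 := congrArg (fun M => mx y a a * M) e
      simp only [← mul_assoc, hc, one_mul, mul_zero] at e2
      exact e2
  have hsq : ζ * ζ = 1 := by
    apply mx_injective
    ext1 r s
    rw [mx_mul, mx_one, hT.mul_apply]
    have hh := hblk ζ hζZ
    have hd : ∀ c, mx ζ c c * mx ζ c c = 1 := by
      intro c
      obtain ⟨t, ht⟩ : ∃ t : F, mx ζ c c = t • (1 : M2 F) := by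
        rcases hT.univ c with rfl | rfl
        · exact hscal _ _ hT hne.1
        · exact hscal _ _ hT.symm hne.2
      have := hdet c
      rw [ht, Matrix.det_smul, Matrix.det_one, Fintype.card_fin, mul_one] at this
      rw [ht, smul_mul_smul_comm, one_mul, ← pow_two, this, one_smul]
    rcases hT.univ r with rfl | rfl <;> rcases hT.univ s with rfl | rfl <;>
      simp [hh.1, hh.2, hd, hT.ne, hT.ne.symm]
  refine orderOf_eq_one_iff.1 ?_
  have hd2 : orderOf ζ ∣ 2 := orderOf_dvd_of_pow_eq_one (by rw [pow_two, hsq])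
  have hdd : Odd (orderOf ζ) := hodd.of_dvd_nat (Subgroup.orderOf_dvd_natCard R (hZR hζZ))
  rcases (Nat.dvd_prime Nat.prime_two).1 hd2 with h | h
  · exact h
  · rw [h] at hdd; exact absurd hdd (by decide)

/-- A subgroup of odd order normalised by the quaternion elements centralises the sign change. -/
theorem odd_commute {a b : ι} (hT : TwoPlanes a b) {i j : SL(2, F)} (hA : Anti (i : M2 F) j) [Finite F]
    (H : Subgroup (Sp ι F)) (hodd : Odd (Nat.card H))
    (hn : ∀ c g, g ∈ Subgroup.closure ({i, j} : Set SL(2, F)) → ∀ y ∈ H, one c g * y * (one c g)⁻¹ ∈ H)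
    {y : Sp ι F} (hy : y ∈ H) : Commute y (zc a) := by
  classical
  set K0 := Subgroup.closure ({i, j} : Set SL(2, F)) with hK0
  let φ : (ι → K0) →* Sp ι F := dg.comp (MonoidHom.compLeft K0.subtype ι)
  set P := φ.range with hP
  have hP2 : IsPGroup 2 P := by
    refine IsPGroup.of_surjective ?_ φ.rangeRestrict φ.rangeRestrict_surjective
    intro g
    choose n hn' using fun c => anti_isPGroup hA (g c)
    refine ⟨Finset.univ.sup n, funext fun c => ?_⟩
    obtain ⟨d, hd⟩ := Nat.exists_eq_add_of_le (Finset.le_sup (f := n) (Finset.mem_univ c))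
    rw [Pi.pow_apply, hd, pow_add, pow_mul, hn', one_pow]; rfl
  have hPone : ∀ c g, g ∈ K0 → one c g ∈ P := fun c g hg => ⟨Pi.mulSingle c ⟨g, hg⟩, by
    show dg _ = dg _
    congr 1
    ext d
    by_cases h : d = c
    · subst h; simp
    · simp [h]⟩
  have hPH : P ≤ Subgroup.normalizer (H : Set (Sp ι F)) := by
    rintro _ ⟨f, rfl⟩
    suffices hf : f ∈ (Subgroup.normalizer (H : Set (Sp ι F))).comap φ from hf
    refine Subgroup.pi_mem_of_mulSingle_mem f fun c => ?_
    rw [Subgroup.mem_comap]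
    have hone : φ (Pi.mulSingle c (f c)) = one c (f c : SL(2, F)) := by
      show dg _ = dg _
      congr 1
      ext d
      by_cases h : d = c
      · subst h; simp
      · simp [h]
    rw [hone]
    exact Subgroup.mem_normalizer_fintype fun w hw => hn c _ (f c).2 w hw
  suffices hle : H ≤ Subgroup.centralizer ({(zc a : Sp ι F)} : Set (Sp ι F)) from
    Subgroup.mem_centralizer_singleton_iff.1 (hle hy)
  set C := Subgroup.centralizer ({(zc a : Sp ι F)} : Set (Sp ι F)) with hC
  have hdvd : Nat.card H ∣ Nat.card (H ⊓ C : Subgroup (Sp ι F)) := by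
    rw [← Nat.factorization_le_iff_dvd Nat.card_pos.ne' Nat.card_pos.ne', Finsupp.le_def]
    intro r
    by_cases hr : r.Prime
    swap
    · rw [Nat.factorization_eq_zero_of_not_prime _ hr]; exact Nat.zero_le _
    haveI : Fact r.Prime := ⟨hr⟩
    let ψ : P →* MulAut H := H.normalizerMonoidHom.comp (Subgroup.inclusion hPH)
    letI : MulDistribMulAction P H := MulDistribMulAction.compHom H ψ
    have hnum : ¬ 2 ∣ Nat.card (Sylow r H) := fun h => by
      obtain ⟨R⟩ := (inferInstance : Nonempty (Sylow r H))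
      have := h.trans ((Sylow.card_dvd_index R).trans (Subgroup.index_dvd_card _))
      rw [Nat.odd_iff] at hodd
      omega
    obtain ⟨R, hR⟩ := hP2.nonempty_fixed_point_of_prime_not_dvd_card (Sylow r H) hnum
    let R₁ : Subgroup (Sp ι F) := (R : Subgroup H).map H.subtype
    have hinv : ∀ c g, g ∈ K0 → ∀ u ∈ R₁, one c g * u * (one c g)⁻¹ ∈ R₁ := by
      rintro c g hg _ ⟨u, hu, rfl⟩
      refine ⟨ψ ⟨one c g, hPone c g hg⟩ u, ?_, rfl⟩
      have h := congrArg (fun S : Sylow r H => (S : Subgroup H)) (hR ⟨one c g, hPone c g hg⟩)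
      rw [← h]
      exact Subgroup.mem_map_of_mem _ hu
    have hRH : R₁ ≤ H := Subgroup.map_subtype_le _
    have hRC : R₁ ≤ H ⊓ C := le_inf hRH fun u hu => Subgroup.mem_centralizer_singleton_iff.2
      (rgroup_commute hT hA R₁ (R.2.map _) (hodd.of_dvd_nat (Subgroup.card_dvd_of_le hRH)) hinv hu)
    have h1 : Nat.card R₁ = r ^ (Nat.card H).factorization r := by
      rw [Subgroup.card_map_of_injective H.subtype_injective, R.card_eq_multiplicity]
    have h2 := h1 ▸ Subgroup.card_dvd_of_le hRC
    exact (hr.pow_dvd_iff_le_factorization Nat.card_pos.ne').1 h2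
  have := Subgroup.eq_of_le_of_card_ge (inf_le_left : H ⊓ C ≤ H) (Nat.le_of_dvd Nat.card_pos hdvd)
  exact this ▸ inf_le_right

open Cfsg in
/-- Two planes: the hypothesis forces monomial matrices. -/
theorem two_le_mon [Finite F] {X : Subgroup (Sp ι F)} {i j : SL(2, F)} (hS : Setup X i j) {a b : ι}
    (hT : TwoPlanes a b) : X ≤ Mon ι F := by
  classical
  haveI : Fact (Nat.Prime 2) := ⟨Nat.prime_two⟩
  set e : Sp ι F := zc a * zc b with he
  have hme : mx e = -1 := by
    ext1 r s
    rw [he, mx_mul, mx_zc_mul, mx_zc]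
    rcases hT.univ r with rfl | rfl <;> by_cases hs : r = s <;>
      simp [hs, hT.ne, hT.ne.symm, Matrix.one_apply] <;> simp [← hs, hT.ne, hT.ne.symm]
  have hecomm : ∀ x, Commute e x := fun x => mx_injective (by rw [mx_mul e x, mx_mul x e, hme]; simp)
  have hb : (zc b : Sp ι F) = zc a * e := by rw [he, ← mul_assoc, zc_mul_self, one_mul]
  -- an element moving the sign change into its centraliser or to a conjugate of it is monomial
  have key : ∀ g ∈ X, (∀ k : ι, Commute (g * zc a * g⁻¹ * zc k * (g * zc a * g⁻¹)⁻¹) (zc a)) →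
      ∃ k, g * zc a * g⁻¹ = zc k := by
    intro g hg hcom
    refine hS.fuse g hg a fun c => ?_
    set d := g * zc a * g⁻¹ with hd
    have hzero := commute_zc_iff.1 (hcom c)
    obtain ⟨m, hm, -⟩ : ∃ m : Sp ι F, m = d * zc c * d⁻¹ ∧ True := ⟨_, rfl, trivial⟩
    have hm2 : m * m = 1 := by rw [hm]; rw [show d * zc c * d⁻¹ * (d * zc c * d⁻¹) = d * (zc c * zc c) * d⁻¹ by group, zc_mul_self]; group
    rw [← hm] at hzero ⊢
    -- a diagonal conjugate of a sign change is a sign change
    have hrefl : m = refl (col (d) c) (nrm_col d c) := by rw [hm, conj_zc_eq_refl]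
    have hcol : ∀ p q', TwoPlanes p q' → mx d p c * adjugate (mx d q' c) = 0 := by
      intro p q' hpq
      have h1 : mx m p q' = 0 := by
        rcases hT.univ p with rfl | rfl <;> rcases hT.univ q' with rfl | rfl
        · exact absurd rfl hpq.ne
        · exact (hzero _ hpq.ne.symm).2
        · exact (hzero _ hpq.ne).1
        · exact absurd rfl hpq.ne
      rw [hrefl, mx_refl, reflM, Matrix.sub_apply, Matrix.one_apply_ne hpq.ne, zero_sub, neg_eq_zero,
        Matrix.add_apply, rk_apply] at h1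
      exact eq_zero_of_add_self h1
    have hn : adjugate (mx d a c) * mx d a c + adjugate (mx d b c) * mx d b c = 1 := by
      have := congrFun (congrFun (adjT_mul_mx d) c) c
      rwa [hT.mul_apply, Matrix.one_apply_eq] at this
    have hz : mx d a c = 0 ∨ mx d b c = 0 := by
      by_cases h0 : mx d b c = 0
      · exact Or.inr h0
      left
      have h1 := congrArg (fun M => mx d a c * M) hn
      simp only [mul_add, mul_one, ← mul_assoc, hcol a b hT, zero_mul, add_zero, self_mul_adj, smul_mul_assoc,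
        one_mul] at h1
      have hd1 : (mx d a c).det = 1 ∨ mx d a c = 0 := by
        by_cases h2 : mx d a c = 0
        · exact Or.inr h2
        left
        have h3 : ((mx d a c).det - 1) • mx d a c = 0 := by rw [sub_smul, one_smul, h1, sub_self]
        exact sub_eq_zero.1 ((smul_eq_zero.1 h3).resolve_right h2)
      rcases hd1 with h | h
      · exfalso
        have h4 := congrArg (fun M => adjugate (mx d a c) * M) (hcol a b hT)
        simp only [← mul_assoc, adj_mul_self, h, one_smul, one_mul, mul_zero] at h4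
        exact h0 (by rw [← adj_adj (mx d b c), h4, adjugate_zero])
      · exact h
    rcases hz with h | h
    · refine ⟨b, ?_⟩
      rw [hm]
      exact conj_zc_of_col fun r hr => by rcases hT.univ r with rfl | rfl; exacts [h, absurd rfl hr]
    · refine ⟨a, ?_⟩
      rw [hm]
      exact conj_zc_of_col fun r hr => by rcases hT.univ r with rfl | rfl; exacts [absurd rfl hr, h]
  have hconjb : ∀ d : Sp ι F, d * zc b * d⁻¹ = d * zc a * d⁻¹ * e := fun d => by
    rw [hb, show d * (zc a * e) * d⁻¹ = d * zc a * (e * d⁻¹) by group, (hecomm d⁻¹).eq]; group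
  have hce : Commute e (zc a) := hecomm _
  have key' : ∀ g ∈ X, Commute (g * zc a * g⁻¹ * zc a * (g * zc a * g⁻¹)⁻¹) (zc a) →
      ∃ k, g * zc a * g⁻¹ = zc k := by
    intro g hg hcom
    refine key g hg fun k => ?_
    rcases hT.univ k with rfl | rfl
    · exact hcom
    · rw [hconjb]; exact hcom.mul_left hce
  -- isolated modulo the centre
  have heX : e ∈ X := mul_mem (hS.zc_mem a) (hS.zc_mem b)
  set N : Subgroup X := Subgroup.zpowers ⟨e, heX⟩ with hN
  haveI : N.Normal := ⟨fun n hn g => by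
    obtain ⟨k, rfl⟩ := hn
    refine ⟨k, ?_⟩
    show (⟨e, heX⟩ : X) ^ k = g * (⟨e, heX⟩ : X) ^ k * g⁻¹
    have hg : Commute g ((⟨e, heX⟩ : X) ^ k) :=
      Commute.zpow_right (Subtype.ext (hecomm (g : Sp ι F)).eq.symm) k
    rw [hg.eq]; group⟩
  have hee : e * e = 1 := by apply mx_injective; rw [mx_mul, hme]; simp
  have hmemN : ∀ u : X, u ∈ N → (u : Sp ι F) = 1 ∨ (u : Sp ι F) = e := by
    rintro _ ⟨k, rfl⟩
    have h2 : (⟨e, heX⟩ : X) ^ (2 : ℤ) = 1 := Subtype.ext (by rw [zpow_two]; exact hee)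
    rcases Int.even_or_odd k with ⟨l, rfl⟩ | ⟨l, rfl⟩
    · left
      show (((⟨e, heX⟩ : X) ^ (l + l) : X) : Sp ι F) = 1
      rw [← two_mul, _root_.zpow_mul, h2, _root_.one_zpow]; rfl
    · right
      show (((⟨e, heX⟩ : X) ^ (2 * l + 1) : X) : Sp ι F) = e
      rw [_root_.zpow_add, _root_.zpow_mul, h2, _root_.one_zpow, _root_.zpow_one, one_mul]
  have hne1 : e ≠ 1 := by
    intro h
    have := congrArg (fun x => mx x a a) h
    simp only [hme, mx_one, Matrix.neg_apply, Matrix.one_apply_eq] at this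
    exact one_ne_zero (eq_zero_of_neg_eq this)
  set za : X := ⟨zc a, hS.zc_mem a⟩ with hza
  set π := QuotientGroup.mk' N with hπ
  have hiso : IsIsolatedInvolution (π za) := by
    refine ⟨orderOf_eq_prime ?_ ?_, fun gb hgb => ?_⟩
    · rw [pow_two, ← map_mul, show za * za = 1 from Subtype.ext (zc_mul_self a), map_one]
    · intro h
      rcases hmemN za ((QuotientGroup.eq_one_iff _).1 h) with h1 | h1
      · exact zc_ne_one a h1
      · refine zc_ne_one b (?_ : (zc b : Sp ι F) = 1)
        rw [hb, show (zc a : Sp ι F) = e from h1, hee]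
    · obtain ⟨g, rfl⟩ := QuotientGroup.mk'_surjective N gb
      have hc : π (za * (g * za * g⁻¹) * za⁻¹ * (g * za * g⁻¹)⁻¹) = 1 := by
        rw [← hπ] at hgb
        simp only [map_mul, map_inv] at hgb ⊢
        rw [hgb.eq]; group
      have hmem := hmemN _ ((QuotientGroup.eq_one_iff _).1 hc)
      set d : Sp ι F := (g : Sp ι F) * zc a * (g : Sp ι F)⁻¹ with hd
      have hcom : Commute (d * zc a * d⁻¹) (zc a) := by
        have hdd : d⁻¹ = d := inv_eq_of_mul_eq_one_right (by
          rw [hd, show (g : Sp ι F) * zc a * (g : Sp ι F)⁻¹ * ((g : Sp ι F) * zc a * (g : Sp ι F)⁻¹) =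
            (g : Sp ι F) * (zc a * zc a) * (g : Sp ι F)⁻¹ by group, zc_mul_self]; group)
        rcases hmem with h1 | h1
        · have h2 : zc a * d = d * zc a := by
            have h3 : zc a * d * (zc a)⁻¹ * d⁻¹ = 1 := h1
            rw [mul_inv_eq_one, mul_inv_eq_iff_eq_mul] at h3
            exact h3
          rw [show d * zc a * d⁻¹ = zc a by rw [← h2]; group]
        · have h3 : zc a * d * (zc a)⁻¹ * d⁻¹ = e := h1
          have h4 : d * zc a * d⁻¹ = zc a * e := by
            rw [← h3, zc_inv, hdd, show zc a * (zc a * d * zc a * d) = (zc a * zc a) * d * zc a * d by group,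
              zc_mul_self, one_mul]
          rw [h4]
          exact (Commute.refl _).mul_left hce
      obtain ⟨k, hk⟩ := key' g g.2 hcom
      rw [← map_inv, ← map_mul, ← map_mul]
      rcases hT.univ k with rfl | rfl
      · congr 1; exact Subtype.ext hk
      · refine (QuotientGroup.eq_iff_div_mem).2 ?_
        rw [show g * za * g⁻¹ / za = ⟨e, heX⟩ from Subtype.ext (by
          show (g : Sp ι F) * zc a * (g : Sp ι F)⁻¹ / zc a = e
          rw [hk, div_eq_mul_inv, zc_inv, hb, mul_assoc, hce.eq, ← mul_assoc, zc_mul_self, one_mul])]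
        exact Subgroup.mem_zpowers _
  -- the odd part of the preimage of the core
  set K := (oddCore (X ⧸ N)).comap π with hK
  have hNK : N ≤ K := fun u hu => by
    rw [hK, Subgroup.mem_comap, show π u = 1 from (QuotientGroup.eq_one_iff u).2 hu]; exact one_mem _
  have hcardN : Nat.card N = 2 := by
    rw [hN, Nat.card_zpowers]
    exact orderOf_eq_prime (Subtype.ext (by rw [pow_two]; exact hee)) (fun h => hne1 (congrArg Subtype.val h))
  have hidx : Odd ((N.subgroupOf K).index) := by
    have h1 : (N.subgroupOf K).index = Nat.card (oddCore (X ⧸ N)) := by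
      rw [← Subgroup.map_comap_eq_self_of_surjective (QuotientGroup.mk'_surjective N) (oddCore (X ⧸ N))]
      show (N.subgroupOf K).index = Nat.card (K.map π)
      have : (π.comp K.subtype).ker = N.subgroupOf K := by
        rw [← MonoidHom.comap_ker, hπ, QuotientGroup.ker_mk']; rfl
      rw [← this, Subgroup.index_ker, MonoidHom.range_comp, Subgroup.range_subtype]
    rw [h1]
    exact Cfsg.Lib.ZStar.odd_card_oddCore
  have hPN : IsPGroup 2 (N.subgroupOf K) :=
    IsPGroup.of_card (n := 1) (by rw [Nat.card_congr (Subgroup.subgroupOfEquivOfLe hNK).toEquiv, hcardN, pow_one])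
  let PK : Sylow 2 K := hPN.toSylow (by rw [Nat.odd_iff] at hidx; omega)
  have hcentral : Subgroup.normalizer ((PK : Subgroup K) : Set K) ≤ Subgroup.centralizer ((PK : Subgroup K) : Set K) := by
    intro g _
    rw [Subgroup.mem_centralizer_iff]
    intro w hw
    have hwN : (w : X) ∈ N := hw
    rcases hmemN _ hwN with h | h
    · rw [show w = 1 from Subtype.ext (Subtype.ext h), one_mul, mul_one]
    · refine Subtype.ext (Subtype.ext ?_)
      show ((w : X) : Sp ι F) * ((g : X) : Sp ι F) = ((g : X) : Sp ι F) * ((w : X) : Sp ι F)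
      rw [h]
      exact (hecomm _).eq
  set O' := (MonoidHom.transferSylow PK hcentral).ker with hO'
  have hcompl := MonoidHom.ker_transferSylow_isComplement' PK hcentral
  have hOodd : Odd (Nat.card O') := by
    rw [← hcompl.index_eq_card]
    exact hidx
  set O : Subgroup (Sp ι F) := (O'.map K.subtype).map X.subtype with hO
  have hOodd' : Odd (Nat.card O) := by
    rwa [hO, Subgroup.card_map_of_injective X.subtype_injective, Subgroup.card_map_of_injective K.subtype_injective]
  -- every element of odd order of the preimage is in the complement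
  have hmemO : ∀ u : K, Odd (orderOf u) → u ∈ O' := by
    intro u hu
    have h1 : orderOf ((MonoidHom.transferSylow PK hcentral) u) ∣ orderOf u := orderOf_map_dvd _ u
    have h2 : orderOf ((MonoidHom.transferSylow PK hcentral) u) ∣ 2 := by
      have hPc : Nat.card (PK : Subgroup K) = 2 := by
        show Nat.card (N.subgroupOf K) = 2
        rw [Nat.card_congr (Subgroup.subgroupOfEquivOfLe hNK).toEquiv, hcardN]
      exact (orderOf_dvd_natCard _).trans hPc.dvd
    rw [MonoidHom.mem_ker, ← orderOf_eq_one_iff]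
    rcases (Nat.dvd_prime Nat.prime_two).1 h2 with h | h
    · exact h
    · have := hu.of_dvd_nat (h ▸ h1)
      exact absurd this (by decide)
  have hclX : ∀ c g, g ∈ Subgroup.closure ({i, j} : Set SL(2, F)) → one c g ∈ X := by
    intro c g hg
    have : Subgroup.closure ({i, j} : Set SL(2, F)) ≤
        (X.comap ((dg : (ι → SL(2, F)) →* Sp ι F).comp (MonoidHom.mulSingle (fun _ => SL(2, F)) c))) := by
      rw [Subgroup.closure_le]
      rintro x (rfl | rfl)
      · exact (hS.mem c).1
      · exact (hS.mem c).2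
    exact this hg
  have hOn : ∀ c g, g ∈ Subgroup.closure ({i, j} : Set SL(2, F)) → ∀ u ∈ O,
      one c g * u * (one c g)⁻¹ ∈ O := by
    rintro c g hg _ ⟨_, ⟨u, hu, rfl⟩, rfl⟩
    set q : X := ⟨one c g, hclX c g hg⟩
    have hmem : q * (u : X) * q⁻¹ ∈ K := by
      have : π (u : X) ∈ oddCore (X ⧸ N) := u.2
      show π (q * (u : X) * q⁻¹) ∈ oddCore (X ⧸ N)
      rw [map_mul, map_mul, map_inv]
      exact (inferInstance : (oddCore (X ⧸ N)).Normal).conj_mem _ this _
    refine ⟨_, ⟨⟨_, hmem⟩, hmemO _ ?_, rfl⟩, rfl⟩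
    rw [← Subgroup.orderOf_coe, show orderOf (q * (u : X) * q⁻¹) = orderOf (u : X) from
      orderOf_injective (MulAut.conj q).toMonoidHom (MulAut.conj q).injective _, Subgroup.orderOf_coe]
    exact hOodd.of_dvd_nat (Subgroup.orderOf_dvd_natCard O' hu)
  -- the conclusion
  intro g hg c
  have hZ := Cfsg.Lib.ZStar.zStarHolds (X ⧸ N) (π za) hiso (π ⟨g, hg⟩)
  rw [← map_inv, ← map_inv, ← map_mul, ← map_mul, ← map_mul] at hZ
  set u : K := ⟨_, hZ⟩ with hu
  obtain ⟨⟨⟨o, ho⟩, ⟨n, hn⟩⟩, hon⟩ := (hcompl.existsUnique u).exists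
  have hoC : Commute (((o : X)) : Sp ι F) (zc a) := odd_commute hT hS.anti O hOodd' hOn ⟨_, ⟨o, ho, rfl⟩, rfl⟩
  have hnC : Commute (((n : X)) : Sp ι F) (zc a) := by
    rcases hmemN (n : X) hn with h | h <;> rw [h]
    · exact Commute.one_left _
    · exact hce
  set d : Sp ι F := g * zc a * g⁻¹ with hd
  have hu' : zc a * g * (zc a)⁻¹ * g⁻¹ = ((o : X) : Sp ι F) * ((n : X) : Sp ι F) := by
    have := congrArg (fun w : K => ((w : X) : Sp ι F)) hon
    exact this.symm
  have hdc : Commute d (zc a) := by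
    have h1 : Commute (zc a * g * (zc a)⁻¹ * g⁻¹) (zc a) := hu' ▸ hoC.mul_left hnC
    have h2 : d = (zc a)⁻¹ * (zc a * g * (zc a)⁻¹ * g⁻¹) := by
      rw [hd, zc_inv, show zc a * (zc a * g * zc a * g⁻¹) = (zc a * zc a) * g * zc a * g⁻¹ by group, zc_mul_self,
        one_mul]
    rw [h2, zc_inv]
    rw [zc_inv] at h1
    exact (Commute.refl _).mul_left h1
  obtain ⟨k, hk⟩ := key' g hg (by
    rw [show g * zc a * g⁻¹ * zc a * (g * zc a * g⁻¹)⁻¹ = zc a from mul_inv_eq_of_eq_mul hdc.eq])
  rcases hT.univ c with rfl | rfl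
  · exact ⟨k, hk⟩
  · rw [hconjb, hk]
    rcases hT.univ k with rfl | rfl
    · exact ⟨_, hb.symm⟩
    · exact ⟨a, by rw [hb, mul_assoc, hee, mul_one]⟩

end Cfsg.Lib.Linear.Pronormal.SpPlanes
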